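import Cfsg.Agent.Lib.Fusion.RankThree.Sub

/-!
The action on central elementary subgroups, extension of automorphisms that normalise the group
induced by `N`, and the two shapes of the inner automorphism.
-/

set_option autoImplicit false
set_option linter.unusedSectionVars false
set_option linter.style.haveILetI false

namespace CfsgLib.RankThree

open Subgroup
open MaxClassEssential (Vec vec lin)

variable {p : ℕ} [hpf : Fact p.Prime] {P : Type*} [Group P] [Finite P] {E N : Subgroup P}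
  {A : Subgroup (MulAut E)} {B : Subgroup (MulAut N)}

namespace CU

variable {U : Subgroup P}

/-- The restriction of `A`. -/
def res (hU : CU E A p U) : A →* MulAut U where
  toFun α :=
    { toFun := fun a => ⟨((α : MulAut E) ⟨a, hU.le a.2⟩ : E), hU.inv α α.2 _ a.2⟩
      invFun := fun a => ⟨(((α⁻¹ : A) : MulAut E) ⟨a, hU.le a.2⟩ : E), hU.inv _ (α⁻¹ : A).2 _ a.2⟩
      left_inv := fun a => Subtype.ext (by simp)
      right_inv := fun a => Subtype.ext (by simp)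
      map_mul' := fun a b => Subtype.ext (by
        show (((α : MulAut E) (⟨a, hU.le a.2⟩ * ⟨b, hU.le b.2⟩) : E) : P) = _
        rw [map_mul]; rfl) }
  map_one' := MulEquiv.ext fun a => Subtype.ext rfl
  map_mul' α β := MulEquiv.ext fun a => Subtype.ext rfl

theorem coe_res (hU : CU E A p U) (α : A) (a : U) :
    ((hU.res α a : U) : P) = ((α : MulAut E) ⟨a, hU.le a.2⟩ : E) := rfl

section Vec

variable [hfU : Fact (IsPGroup p U)]

/-- The representation on a central elementary subgroup. -/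
def act (hU : CU E A p U) : A →* Module.End (ZMod p) (Vec p U) :=
  (lin : MulAut U →* Module.End (ZMod p) (Vec p U)).comp hU.res

theorem act_vec (hU : CU E A p U) (α : A) (a : U) : hU.act α (vec a : Vec p U) = vec (hU.res α a) := rfl

theorem vec_injective (hU : CU E A p U) : Function.Injective (vec : U → Vec p U) := by
  intro a b hab
  have h1 := MaxClassEssential.vec_eq_vec.mp hab
  have h2 : frattini U ≤ ⊥ := CfsgLib.RankFrattini.frattini_le_of_elementary hfU.out ⊥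
    (fun x y => Subgroup.mem_bot.mpr (commutatorElement_eq_one_iff_mul_comm.mpr
      (Subtype.ext (hU.comm x x.2 y y.2))))
    (fun x => Subgroup.mem_bot.mpr (Subtype.ext (by rw [SubmonoidClass.coe_pow]; exact hU.exp x x.2)))
  exact mul_inv_eq_one.mp (Subgroup.mem_bot.mp (h2 h1))

theorem vec_eq_zero (hU : CU E A p U) {a : U} : (vec a : Vec p U) = 0 ↔ a = 1 := by
  rw [← MaxClassEssential.vec_one (p := p) (E := U)]
  exact hU.vec_injective.eq_iff

theorem act_apply_eq (hU : CU E A p U) (α : A) (a : U) :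
    hU.act α (vec a : Vec p U) = vec a ↔ ((α : MulAut E) ⟨a, hU.le a.2⟩ : P) = a := by
  rw [act_vec, hU.vec_injective.eq_iff, Subtype.ext_iff, coe_res]

theorem act_eq_one (hU : CU E A p U) {α : A} :
    hU.act α = 1 ↔ ∀ e : E, (e : P) ∈ U → (α : MulAut E) e = e := by
  constructor
  · intro h e he
    refine Subtype.ext ?_
    exact (hU.act_apply_eq α ⟨e, he⟩).mp (by rw [h, Module.End.one_apply])
  · intro h
    refine LinearMap.ext fun v => ?_
    obtain ⟨a, rfl⟩ := MaxClassEssential.vec_surjective v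
    exact (hU.act_apply_eq α a).mpr (congrArg Subtype.val (h ⟨a, hU.le a.2⟩ a.2))

theorem card_eq (hU : CU E A p U) : Nat.card U = p ^ Module.finrank (ZMod p) (Vec p U) := by
  rw [Nat.card_congr (Equiv.ofBijective _ ⟨hU.vec_injective, MaxClassEssential.vec_surjective⟩),
    Module.natCard_eq_pow_finrank (K := ZMod p), Nat.card_zmod]

variable [hfE : Fact (IsPGroup p E)]

theorem act_eq_of_rho (hU : CU E A p U) (h : Hyp p E N A B) {α γ : A} (e : h.rho α = h.rho γ) :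
    hU.act α = hU.act γ := by
  refine LinearMap.ext fun v => ?_
  obtain ⟨a, rfl⟩ := MaxClassEssential.vec_surjective v
  rw [act_vec, act_vec]
  exact congrArg vec (Subtype.ext (congrArg (fun z : E => (z : P))
    (h.apply_eq_of_lin α.2 γ.2 e (hU.mem_center (e := ⟨a, hU.le a.2⟩) a.2))))

theorem act_pow_eq_one (hU : CU E A p U) (h : Hyp p E N A B) {α : A} (e : h.rho α ^ p = 1) :
    hU.act α ^ p = 1 := by
  rw [← map_pow, hU.act_eq_of_rho h (show h.rho (α ^ p) = h.rho 1 by rw [map_pow, e, map_one]), map_one]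

end Vec

end CU

namespace Hyp

theorem cE_mul (h : Hyp p E N A B) {x y : P} (hx : x ∈ N) (hy : y ∈ N) :
    h.cE (x * y) (N.mul_mem hx hy) = h.cE x hx * h.cE y hy :=
  h.cE_eq _ ((h.ind_cE hx).mul (h.ind_cE hy))

theorem cE_pow (h : Hyp p E N A B) {x : P} (hx : x ∈ N) (k : ℕ) :
    h.cE (x ^ k) (N.pow_mem hx k) = h.cE x hx ^ k :=
  h.cE_eq _ ((h.ind_cE hx).pow k)

section Frattini

variable [hfE : Fact (IsPGroup p E)]

/-- Automorphisms normalising the image of `N` extend to `N`. -/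
theorem exists_ext (h : Hyp p E N A B) {u : P} (hu : u ∈ N) (hu' : u ∉ E) {α : A} {m : ℕ}
    (hα : h.rho α * h.rho ⟨_, h.cE_mem hu⟩ = h.rho ⟨_, h.cE_mem hu⟩ ^ m * h.rho α) :
    ∃ β ∈ B, (∀ (e : E) (he : (e : P) ∈ N), ((β ⟨e, he⟩ : N) : P) = (α : MulAut E) e) ∧
      (u ^ m)⁻¹ * (β ⟨u, hu⟩ : N) ∈ E := by
  set a : A := ⟨_, h.cE_mem hu⟩ with ha
  have hαk : ∀ i : ℕ, h.rho α * h.rho a ^ i = h.rho a ^ (m * i) * h.rho α := by
    intro i
    induction i with
    | zero => rw [mul_zero, pow_zero, mul_one, one_mul]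
    | succ i ih => rw [pow_succ, ← mul_assoc, ih, mul_assoc, hα, ← mul_assoc, ← pow_add, mul_add_one]
  have hext : ∀ x ∈ N, ∀ c, Ind E x c → ∃ x' ∈ N, Ind E x' ((α : MulAut E) * c * (α : MulAut E)⁻¹) := by
    intro x hx c hc
    obtain ⟨i, hi⟩ := h.lin_cE hu hu' hx
    have hcA : c ∈ A := h.conjA x hx c hc
    have hm : u ^ (m * i) ∈ N := N.pow_mem hu _
    have e1 : h.rho (α * ⟨c, hcA⟩ * α⁻¹) = lin (h.cE _ hm) := by
      rw [h.cE_pow hu, map_pow, map_mul, map_mul,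
        show h.rho ⟨c, hcA⟩ = h.rho a ^ i from (congrArg lin (h.cE_eq hx hc).symm).trans hi,
        hαk, mul_assoc, ← map_mul, mul_inv_cancel, map_one, mul_one]
      rfl
    obtain ⟨e, he⟩ := h.exists_inner (A.mul_mem (A.mul_mem α.2 hcA) (A.inv_mem α.2)) (h.cE_mem hm) e1
    refine ⟨(e : P) * u ^ (m * i), N.mul_mem (h.le_N e.2) hm, ?_⟩
    rw [he]
    exact (ind_conj e).mul (h.ind_cE hm)
  obtain ⟨β, hβ, hβe⟩ := h.extA α α.2 hext
  refine ⟨β, hβ, hβe, ?_⟩
  set y : P := ((β ⟨u, hu⟩ : N) : P) with hy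
  have hyN : y ∈ N := (β ⟨u, hu⟩).2
  have hind : Ind E y ((α : MulAut E) * h.cE u hu * (α : MulAut E)⁻¹) := by
    intro e
    set e' := (α : MulAut E)⁻¹ e
    have h2 : ((α : MulAut E) * h.cE u hu * (α : MulAut E)⁻¹) e = (α : MulAut E) (h.cE u hu e') := rfl
    have h3 : (⟨(h.cE u hu e' : E), h.le_N (h.cE u hu e').2⟩ : N) =
        ⟨u, hu⟩ * ⟨e', h.le_N e'.2⟩ * ⟨u, hu⟩⁻¹ := Subtype.ext rfl
    rw [h2, ← hβe _ (h.le_N (h.cE u hu e').2), h3, map_mul, map_mul, map_inv, Subgroup.coe_mul,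
      Subgroup.coe_mul, InvMemClass.coe_inv, hβe, MulAut.apply_inv_self]
  refine h.mem_of_lin (N.mul_mem (N.inv_mem (N.pow_mem hu m)) hyN) ?_
  have e4 : h.cE ((u ^ m)⁻¹ * y) (N.mul_mem (N.inv_mem (N.pow_mem hu m)) hyN) =
      (h.cE u hu ^ m)⁻¹ * ((α : MulAut E) * h.cE u hu * (α : MulAut E)⁻¹) :=
    h.cE_eq _ (((h.ind_cE hu).pow m).inv.mul hind)
  rw [e4, show ((h.cE u hu ^ m)⁻¹ * ((α : MulAut E) * h.cE u hu * (α : MulAut E)⁻¹) : MulAut E) =
    (((a ^ m)⁻¹ * (α * a * α⁻¹) : A) : MulAut E) from rfl, ← rho_apply h, map_mul, map_mul, map_mul, hα,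
    mul_assoc (h.rho a ^ m), ← map_mul h.rho α, mul_inv_cancel, map_one, mul_one, ← map_pow, ← map_mul,
    inv_mul_cancel, map_one]

/-- The inner automorphism is regular, or a transvection in an invariant frame. -/
theorem regular_or_frame (h : Hyp p E N A B) {u : P} (hu : u ∈ N) (hu' : u ∉ E) :
    (h.rho ⟨_, h.cE_mem hu⟩ - 1) ^ 2 ≠ 0 ∨
      ∃ (c d : Vec p E) (φ ψ : Vec p E →ₗ[ZMod p] ZMod p) (b : A),
        Opp h.rho c d φ ψ ⟨_, h.cE_mem hu⟩ b ∧
          (∀ g v, φ v = 0 → ψ v = 0 → φ (h.rho g v) = 0 ∧ ψ (h.rho g v) = 0) ∧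
          ∀ g, (∃ r s : ZMod p, h.rho g c = r • c + s • d) ∧ ∃ r s : ZMod p, h.rho g d = r • c + s • d := by
  set a : A := ⟨_, h.cE_mem hu⟩ with ha
  refine or_iff_not_imp_left.mpr fun hsq => ?_
  push Not at hsq
  have hp1 : h.rho a ^ p = 1 := h.lin_cE_pow hu
  have hne : h.rho a ≠ 1 := h.lin_cE_ne hu hu'
  obtain ⟨c, φ, h1, h2, h3, h4⟩ := exists_tv h.finrank_eq hne hsq
  have hT : IsTV h.rho a c φ := ⟨h4, h1, h2, h3⟩
  have hNP : NP h.rho c φ := by
    intro g c' φ' hg e1 e2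
    obtain ⟨k, hk⟩ := h.pow_of_commute hp1 (by rw [← map_pow]; exact hg.pow_prime) hne
      (by rw [h4, hg.eq, tv_commute e1 e2])
    rw [hg.eq, h4, tv_pow h3, ← tv_smul] at hk
    obtain ⟨l, hl, hl1, hl2⟩ := tv_unique hg.cne hg.fne hk
    refine ⟨⟨l * k, by rw [hl1, smul_smul]⟩, l⁻¹, ?_⟩
    rw [hl2, inv_smul_smul₀ hl]
  obtain ⟨g, hg⟩ := h.exists_noncomm hp1 hne
  have hdep : Dep c (h.rho g c) φ (φ ∘ₗ h.rho g⁻¹) → False := by
    rintro ⟨⟨k, hk⟩, k', hk'⟩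
    refine hg ?_
    rw [(hT.conj g).eq, h4]
    refine tv_commute (φ := φ ∘ₗ h.rho g⁻¹) ?_ ?_
    · rw [hk', LinearMap.smul_apply, h3, smul_zero]
    · rw [hk, map_smul, h3, smul_zero]
  have e0 : φ (h.rho g c) ≠ 0 := fun e => hdep (hNP.conj_zero hT e)
  have e1 : φ (h.rho g⁻¹ c) ≠ 0 := by
    intro e
    have h6 := hNP.conj_zero hT e
    obtain ⟨⟨k, hk⟩, -⟩ := h6
    have h7 : φ (h.rho g c) = 0 := by
      have h8 : c = k • h.rho g c := by rw [← map_smul, ← hk, rho_inv_apply]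
      have h9 : k ≠ 0 := fun h0 => h1 (by rw [h8, h0, zero_smul])
      have h10 : φ c = k * φ (h.rho g c) := by
        conv_lhs => rw [h8]
        rw [map_smul, smul_eq_mul]
      rw [h3] at h10
      exact (mul_eq_zero.mp h10.symm).resolve_left h9
    exact e0 h7
  obtain ⟨d, ψ, k, r, O, -, -⟩ := exists_opp hT e0 e1
  obtain ⟨hk, hpl⟩ := decomposition hT hNP O
  exact ⟨c, d, φ, ψ, _, O, hk, hpl⟩

/-- The quotient of `N` by the preimage of an invariant subspace containing the commutators is abelian. -/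
theorem quot_comm (h : Hyp p E N A B) {u : P} (hu : u ∈ N) (hu' : u ∉ E) {S : Submodule (ZMod p) (Vec p E)}
    (hS : ∀ v, (h.rho ⟨_, h.cE_mem hu⟩ - 1) v ∈ S) :
    ∃ Q : Subgroup N, Q.Normal ∧ (∀ (e : E) (he : (e : P) ∈ N), (⟨e, he⟩ : N) ∈ Q ↔ (vec e : Vec p E) ∈ S) ∧
      (∀ x ∈ Q, (x : P) ∈ E) ∧ ∀ x y : N, x * y * x⁻¹ * y⁻¹ ∈ Q := by
  let Q : Subgroup N :=
    { carrier := {x | ∃ hx : (x : P) ∈ E, (vec (⟨x, hx⟩ : E) : Vec p E) ∈ S}
      one_mem' := ⟨E.one_mem, by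
        show (vec (1 : E) : Vec p E) ∈ S
        rw [MaxClassEssential.vec_one]; exact S.zero_mem⟩
      mul_mem' := by
        rintro x y ⟨hx, hx'⟩ ⟨hy, hy'⟩
        refine ⟨E.mul_mem hx hy, ?_⟩
        show (vec ((⟨x, hx⟩ : E) * ⟨y, hy⟩) : Vec p E) ∈ S
        rw [MaxClassEssential.vec_mul]; exact S.add_mem hx' hy'
      inv_mem' := by
        rintro x ⟨hx, hx'⟩
        refine ⟨E.inv_mem hx, ?_⟩
        show (vec ((⟨x, hx⟩ : E)⁻¹) : Vec p E) ∈ S
        rw [MaxClassEssential.vec_inv]; exact S.neg_mem hx' }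
  have key : ∀ (x : N) (e : E), (vec (⟨(x : P) * e * (x : P)⁻¹ * (e : P)⁻¹,
      E.mul_mem (h.normal_E x.2 e.2) (E.inv_mem e.2)⟩ : E) : Vec p E) ∈ S := by
    intro x e
    obtain ⟨i, hi⟩ := h.lin_cE hu hu' x.2
    rw [← h.rho_cE_vec x.2 e, rho_apply, hi]
    have h1 : ∀ j : ℕ, ∀ v, (lin (h.cE u hu) ^ j - 1 : Module.End (ZMod p) (Vec p E)) v ∈ S := by
      intro j
      induction j with
      | zero => intro v; rw [pow_zero, sub_self, LinearMap.zero_apply]; exact S.zero_mem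
      | succ j ih =>
        intro v
        have := S.add_mem (hS ((lin (h.cE u hu) ^ j : Module.End (ZMod p) (Vec p E)) v)) (ih v)
        simpa [pow_succ', rho_apply] using this
    exact h1 i (vec e)
  have hn : Q.Normal := ⟨fun x ⟨hx, hx'⟩ y => by
    refine ⟨h.normal_E y.2 hx, ?_⟩
    have e1 : (⟨(y * x * y⁻¹ : N), h.normal_E y.2 hx⟩ : E) = ⟨(y : P) * x * (y : P)⁻¹ * (x : P)⁻¹,
        E.mul_mem (h.normal_E y.2 hx) (E.inv_mem hx)⟩ * ⟨x, hx⟩ := Subtype.ext (by simp)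
    rw [e1, MaxClassEssential.vec_mul]
    exact S.add_mem (key y ⟨x, hx⟩) hx'⟩
  refine ⟨Q, hn, fun e he => ⟨fun ⟨_, h2⟩ => h2, fun h2 => ⟨e.2, h2⟩⟩, fun x hx => hx.1, fun x y => ?_⟩
  rw [← QuotientGroup.eq_one_iff]
  set π := QuotientGroup.mk' Q
  have hEE : ∀ (e : E) (y : N), π y * π ⟨e, h.le_N e.2⟩ = π ⟨e, h.le_N e.2⟩ * π y := by
    intro e y
    have h1 : y * ⟨e, h.le_N e.2⟩ * y⁻¹ * (⟨e, h.le_N e.2⟩ : N)⁻¹ ∈ Q :=
      ⟨E.mul_mem (h.normal_E y.2 e.2) (E.inv_mem e.2), key y e⟩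
    have h2 := (QuotientGroup.eq_one_iff _).mpr h1
    rw [← QuotientGroup.mk'_apply, map_mul, map_mul, map_mul, map_inv, map_inv, mul_inv_eq_one,
      mul_inv_eq_iff_eq_mul] at h2
    exact h2
  have hsplit : ∀ z : N, ∃ (i : ℕ) (e : E), π z = π ⟨u, hu⟩ ^ i * π ⟨e, h.le_N e.2⟩ := by
    intro z
    obtain ⟨i, hi⟩ := h.exists_pow hu hu' z.2
    refine ⟨i, ⟨_, hi⟩, ?_⟩
    rw [← map_pow, ← map_mul]
    exact congrArg π (Subtype.ext (by simp))
  have hx : π x * π y = π y * π x := by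
    obtain ⟨i, e, hxe⟩ := hsplit x
    obtain ⟨j, f, hyf⟩ := hsplit y
    rw [hxe, hyf]
    have c1 : Commute (π ⟨u, hu⟩ ^ i) (π ⟨f, h.le_N f.2⟩) :=
      (show Commute (π ⟨u, hu⟩) (π ⟨f, h.le_N f.2⟩) from hEE f _).pow_left i
    have c2 : Commute (π ⟨e, h.le_N e.2⟩) (π ⟨u, hu⟩ ^ j) :=
      ((show Commute (π ⟨u, hu⟩) (π ⟨e, h.le_N e.2⟩) from hEE e _).pow_left j).symm
    have c3 : Commute (π ⟨e, h.le_N e.2⟩) (π ⟨f, h.le_N f.2⟩) := hEE f _
    exact (((Commute.refl (π ⟨u, hu⟩)).pow_pow i j).mul_right c1 |>.mul_left (c2.mul_right c3)).eq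
  rw [← QuotientGroup.mk'_apply, map_mul, map_mul, map_mul, map_inv, map_inv]
  rw [hx, mul_inv_cancel_right, mul_inv_cancel]

/-- A nontrivially acted central subgroup inside a moved position has order `p ^ 2`. -/
theorem card_sq (h : Hyp p E N A B) {U : Subgroup P} (hU : CU E A p U) {g : P} (hg : g ∉ N)
    (hgU : ∀ a ∈ U, g * a * g⁻¹ ∈ E) {u : P} (hu : u ∈ N) {a : P} (ha : a ∈ U) (hua : u * a ≠ a * u) :
    Nat.card U = p ^ 2 ∧ ∀ hf : Fact (IsPGroup p U), Module.finrank (ZMod p) (Vec p U) = 2 ∧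
      hU.act (hfU := hf) ⟨_, h.cE_mem hu⟩ ≠ 1 := by
  haveI hf : Fact (IsPGroup p U) := ⟨h.pg.to_subgroup U⟩
  have hne : hU.act (hfU := hf) ⟨_, h.cE_mem hu⟩ ≠ 1 := fun e => hua (by
    have h1 := congrArg (fun z : E => (z : P)) (hU.act_eq_one.mp e ⟨a, hU.le ha⟩ ha)
    exact mul_inv_eq_iff_eq_mul.mp h1)
  set k := Module.finrank (ZMod p) (Vec p U) with hk
  have hcard := hU.card_eq
  suffices hk2 : k = 2 from ⟨by rw [hcard, ← hk, hk2], fun _ => ⟨hk2, hne⟩⟩
  have hle : k ≤ 3 := (Nat.pow_le_pow_iff_right hpf.out.one_lt).mp (hcard ▸ h.card_le hU.comm hU.exp)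
  have h3 : k ≠ 3 := by
    intro e
    refine h.false_of_conj_le hU hg (fun b hb => ?_) hu ha hua
    set U' := U.map (MulAut.conj g).toMonoidHom
    have hU' : ∀ x ∈ U', ∃ y ∈ U, g * y * g⁻¹ = x := by rintro _ ⟨y, hy, rfl⟩; exact ⟨y, hy, rfl⟩
    have h4 : U ⊔ U' = U := (Subgroup.eq_of_le_of_card_ge le_sup_left (by
      rw [hcard, ← hk, e]
      refine h.card_sup_le hU.comm (fun x hx y hy => ?_) (fun x hx y hy => ?_) hU.exp fun x hx => ?_
      · obtain ⟨x', hx', rfl⟩ := hU' x hx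
        obtain ⟨y', hy', rfl⟩ := hU' y hy
        have := hU.comm x' hx' y' hy'
        calc g * x' * g⁻¹ * (g * y' * g⁻¹) = g * (x' * y') * g⁻¹ := by group
          _ = g * y' * g⁻¹ * (g * x' * g⁻¹) := by rw [this]; group
      · obtain ⟨y', hy', rfl⟩ := hU' y hy
        exact hU.central x hx _ (hgU y' hy')
      · obtain ⟨x', hx', rfl⟩ := hU' x hx
        rw [conj_pow, hU.exp x' hx', mul_one, mul_inv_cancel])).symm
    exact h4.le ((le_sup_right : U' ≤ U ⊔ U') ⟨b, hb, rfl⟩)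
  have h2 : 2 ≤ k := by
    by_contra hlt
    push Not at hlt
    haveI : Nontrivial (Vec p U) := by
      by_contra hc
      rw [not_nontrivial_iff_subsingleton] at hc
      exact hne (LinearMap.ext fun v => Subsingleton.elim _ _)
    have h5 := sub_one_pow_finrank (f := hU.act (hfU := hf) ⟨_, h.cE_mem hu⟩) (k := 1)
      (by rw [pow_one]; exact hU.act_pow_eq_one h (h.lin_cE_pow hu))
    have h6 : 0 < k := Module.finrank_pos
    rw [← hk, show k = 1 by omega, pow_one, sub_eq_zero] at h5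
    exact hne h5
  omega

end Frattini

end Hyp

end CfsgLib.RankThree
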