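import Cfsg.Agent.Lib.Fusion.RankThree.Split

/-!
Commutator calculus with central values, and the structure of `N` when the essential subgroup is
elementary abelian: generators, centre, Frattini subgroup and exponent.
-/

set_option autoImplicit false
set_option linter.unusedSectionVars false
set_option linter.style.haveILetI false

namespace CfsgLib.RankThree

open Subgroup
open scoped commutatorElement
open MaxClassEssential (Vec vec lin)

section Comm

variable {G : Type*} [Group G]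

theorem comm_mul_left' {x y w : G} (h : Commute x ⁅y, w⁆) : ⁅x * y, w⁆ = ⁅y, w⁆ * ⁅x, w⁆ := by
  calc ⁅x * y, w⁆ = x * ⁅y, w⁆ * x⁻¹ * ⁅x, w⁆ := by simp only [commutatorElement_def]; group
    _ = _ := by rw [h.eq, mul_inv_cancel_right]

theorem comm_mul_right' {x y w : G} (h : Commute y ⁅x, w⁆) : ⁅x, y * w⁆ = ⁅x, y⁆ * ⁅x, w⁆ := by
  calc ⁅x, y * w⁆ = ⁅x, y⁆ * (y * ⁅x, w⁆ * y⁻¹) := by simp only [commutatorElement_def]; group
    _ = _ := by rw [h.eq, mul_inv_cancel_right]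

theorem comm_pow_left' {x w : G} (h : Commute x ⁅x, w⁆) (n : ℕ) : ⁅x ^ n, w⁆ = ⁅x, w⁆ ^ n := by
  induction n with
  | zero => simp
  | succ n ih => rw [pow_succ, comm_mul_left' (h.pow_left n), ih, ← pow_succ']

theorem comm_pow_right' {x w : G} (h : Commute w ⁅x, w⁆) (n : ℕ) : ⁅x, w ^ n⁆ = ⁅x, w⁆ ^ n := by
  induction n with
  | zero => simp
  | succ n ih =>
    rw [pow_succ, comm_mul_right' (h.pow_left n), ih, ← pow_succ]

theorem mul_pow_central {x y : G} (h1 : Commute x ⁅y, x⁆) (h2 : Commute y ⁅y, x⁆) (n : ℕ) :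
    (x * y) ^ n = x ^ n * y ^ n * ⁅y, x⁆ ^ n.choose 2 := by
  have hyn : ∀ n : ℕ, y ^ n * x = x * y ^ n * ⁅y, x⁆ ^ n := by
    intro n
    have h3 := comm_pow_left' (x := y) (w := x) h2 n
    calc y ^ n * x = ⁅y ^ n, x⁆ * (x * y ^ n) := by simp only [commutatorElement_def]; group
      _ = x * y ^ n * ⁅y, x⁆ ^ n := by rw [h3, ((h1.symm.pow_left n).mul_right ((h2.symm.pow_pow n n))).eq]
  induction n with
  | zero => simp
  | succ n ih =>
    rw [pow_succ, ih]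
    calc x ^ n * y ^ n * ⁅y, x⁆ ^ n.choose 2 * (x * y)
        = x ^ n * y ^ n * (⁅y, x⁆ ^ n.choose 2 * (x * y)) := by group
      _ = x ^ n * (y ^ n * x) * (y * ⁅y, x⁆ ^ n.choose 2) := by
        rw [((h1.symm.pow_left _).mul_right (h2.symm.pow_left _)).eq]; group
      _ = x ^ (n + 1) * y ^ n * (⁅y, x⁆ ^ n * y) * ⁅y, x⁆ ^ n.choose 2 := by rw [hyn, pow_succ]; group
      _ = x ^ (n + 1) * y ^ (n + 1) * (⁅y, x⁆ ^ n * ⁅y, x⁆ ^ n.choose 2) := by
        rw [(h2.symm.pow_left n).eq, pow_succ]; group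
      _ = _ := by rw [← pow_add, Nat.choose_succ_succ', Nat.choose_one_right]

end Comm

variable {p : ℕ} [hpf : Fact p.Prime] {P : Type*} [Group P] [Finite P] {E N : Subgroup P}
  {A : Subgroup (MulAut E)} {B : Subgroup (MulAut N)}

theorem dvd_choose_two (hp : 3 ≤ p) : p ∣ p.choose 2 := hpf.out.dvd_choose_self two_ne_zero (by omega)

namespace Hyp

/-- Generators of `N` in the elementary abelian case. -/
structure Data (h : Hyp p E N A B) [Fact (IsPGroup p E)] (c d : Vec p E) (φ ψ : Vec p E →ₗ[ZMod p] ZMod p)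
    (b : A) (u z ee ed : P) : Prop where
  hu : u ∈ N
  hu' : u ∉ E
  opp : Opp h.rho c d φ ψ ⟨_, h.cE_mem hu⟩ b
  ab : ∀ x ∈ E, ∀ y ∈ E, x * y = y * x
  exp : ∀ x ∈ E, x ^ p = 1
  inj : Function.Injective (vec : E → Vec p E)
  zE : ∃ hz : z ∈ E, (vec (⟨z, hz⟩ : E) : Vec p E) = c
  dE : ∃ hd : ed ∈ E, (vec (⟨ed, hd⟩ : E) : Vec p E) = d
  eE : ∃ he : ee ∈ E, φ (vec (⟨ee, he⟩ : E) : Vec p E) = 0 ∧ ψ (vec (⟨ee, he⟩ : E) : Vec p E) = 0 ∧
    (vec (⟨ee, he⟩ : E) : Vec p E) ≠ 0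
  gen : ∀ x ∈ E, ∃ i j k : ℕ, x = z ^ i * ed ^ j * ee ^ k

section Frattini

variable [hfE : Fact (IsPGroup p E)] {c d : Vec p E} {φ ψ : Vec p E →ₗ[ZMod p] ZMod p} {b : A} {u : P}

theorem exists_data (h : Hyp p E N A B) (hu : u ∈ N) (hu' : u ∉ E)
    (O : Opp h.rho c d φ ψ ⟨_, h.cE_mem hu⟩ b) (hphi : phi E = ⊥) :
    ∃ z ee ed : P, Data h c d φ ψ b u z ee ed := by
  have hfr : ∀ x : E, x ∈ frattini E → x = 1 := fun x hx =>
    Subtype.ext (Subgroup.mem_bot.mp (hphi.le (coe_mem_phi.mpr hx)))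
  have hab : ∀ x y : E, x * y = y * x := fun x y => commutatorElement_eq_one_iff_mul_comm.mp
    (hfr _ (CfsgLib.commutator_le_frattini_pGroup hfE.out (commutator_mem_commutator (mem_top x) (mem_top y))))
  have hexp : ∀ x : E, x ^ p = 1 := fun x => hfr _ (CfsgLib.pow_mem_frattini_pGroup hfE.out x)
  have hinj : Function.Injective (vec : E → Vec p E) := fun x y e =>
    mul_inv_eq_one.mp (hfr _ (MaxClassEssential.vec_eq_vec.mp e))
  obtain ⟨e, he0, he1, he2, hspan⟩ := O.toPair.kernel_line h.finrank_eq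
  obtain ⟨zc, hzc⟩ := MaxClassEssential.vec_surjective c
  obtain ⟨dd, hdd⟩ := MaxClassEssential.vec_surjective d
  obtain ⟨ke, hke⟩ := MaxClassEssential.vec_surjective e
  refine ⟨zc, ke, dd, hu, hu', O, fun x hx y hy => congrArg Subtype.val (hab ⟨x, hx⟩ ⟨y, hy⟩),
    fun x hx => congrArg Subtype.val (hexp ⟨x, hx⟩), hinj, ⟨zc.2, hzc⟩, ⟨dd.2, hdd⟩,
    ⟨ke.2, by rw [hke]; exact ⟨he1, he2, he0⟩⟩, fun x hx => ?_⟩
  obtain ⟨k, hk⟩ := frame_decomp O.toPair hspan (v := (vec (⟨x, hx⟩ : E) : Vec p E))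
  refine ⟨(ψ (vec (⟨x, hx⟩ : E) : Vec p E)).val, (φ (vec (⟨x, hx⟩ : E) : Vec p E)).val, k.val, ?_⟩
  have h1 : (⟨x, hx⟩ : E) = zc ^ (ψ (vec (⟨x, hx⟩ : E) : Vec p E)).val *
      dd ^ (φ (vec (⟨x, hx⟩ : E) : Vec p E)).val * ke ^ k.val := hinj (by
    rw [MaxClassEssential.vec_mul, MaxClassEssential.vec_mul, MaxClassEssential.vec_pow, MaxClassEssential.vec_pow,
      MaxClassEssential.vec_pow, hzc, hdd, hke, ← Nat.cast_smul_eq_nsmul (ZMod p),
      ← Nat.cast_smul_eq_nsmul (ZMod p), ← Nat.cast_smul_eq_nsmul (ZMod p), ZMod.natCast_zmod_val,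
      ZMod.natCast_zmod_val, ZMod.natCast_zmod_val]
    exact hk)
  simpa using congrArg (fun t : E => (t : P)) h1

variable {z ee ed : P} {h : Hyp p E N A B}

theorem Data.z_mem (D : Data h c d φ ψ b u z ee ed) : z ∈ E := D.zE.1
theorem Data.d_mem (D : Data h c d φ ψ b u z ee ed) : ed ∈ E := D.dE.1
theorem Data.e_mem (D : Data h c d φ ψ b u z ee ed) : ee ∈ E := D.eE.1

theorem Data.z_ne (D : Data h c d φ ψ b u z ee ed) : z ≠ 1 := by
  intro e
  obtain ⟨hz, hzc⟩ := D.zE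
  have h1 := D.opp.gc
  rw [← hzc, show (⟨z, hz⟩ : E) = 1 from Subtype.ext e, MaxClassEssential.vec_one, map_zero] at h1
  exact zero_ne_one h1

theorem Data.u_vec (D : Data h c d φ ψ b u z ee ed) (x : E) :
    (vec (⟨u * x * u⁻¹, h.normal_E D.hu x.2⟩ : E) : Vec p E) = vec x + φ (vec x : Vec p E) • c := by
  have h1 : (vec (⟨u * x * u⁻¹, h.normal_E D.hu x.2⟩ : E) : Vec p E) = h.rho ⟨_, h.cE_mem D.hu⟩ (vec x) := rfl
  rw [h1, D.opp.ha, mat_up, one_smul, tv_apply]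

theorem Data.u_z (D : Data h c d φ ψ b u z ee ed) : Commute u z := by
  obtain ⟨hz, hzc⟩ := D.zE
  have h1 := D.u_vec ⟨z, hz⟩
  rw [hzc, D.opp.fc, zero_smul, add_zero] at h1
  exact mul_inv_eq_iff_eq_mul.mp (congrArg Subtype.val (D.inj (h1.trans hzc.symm)))

theorem Data.u_e (D : Data h c d φ ψ b u z ee ed) : Commute u ee := by
  obtain ⟨he, he1, -, -⟩ := D.eE
  have h1 := D.u_vec ⟨ee, he⟩
  rw [he1, zero_smul, add_zero] at h1
  exact mul_inv_eq_iff_eq_mul.mp (congrArg Subtype.val (D.inj h1))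

theorem Data.u_d (D : Data h c d φ ψ b u z ee ed) : ⁅u, ed⁆ = z := by
  obtain ⟨hd, hdd⟩ := D.dE
  obtain ⟨hz, hzc⟩ := D.zE
  have h1 := D.u_vec ⟨ed, hd⟩
  rw [hdd, D.opp.fd, one_smul] at h1
  have h2 : u * ed * u⁻¹ = ed * z := congrArg Subtype.val (D.inj (a₂ := (⟨ed, hd⟩ : E) * ⟨z, hz⟩)
    (h1.trans (by rw [MaxClassEssential.vec_mul, hdd, hzc])))
  rw [commutatorElement_def, h2, D.ab ed hd z hz, mul_inv_cancel_right]

theorem Data.central (D : Data h c d φ ψ b u z ee ed) {w : P} (hw : w ∈ E) (huw : Commute u w) :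
    ∀ x ∈ N, Commute x w := by
  intro x hx
  obtain ⟨i, hi⟩ := h.exists_pow D.hu D.hu' hx
  have h1 : Commute ((u ^ i)⁻¹ * x) w := D.ab _ hi w hw
  simpa using (huw.pow_left i).mul_left h1

theorem Data.z_central (D : Data h c d φ ψ b u z ee ed) : ∀ x ∈ N, Commute x z := D.central D.z_mem D.u_z

theorem Data.e_central (D : Data h c d φ ψ b u z ee ed) : ∀ x ∈ N, Commute x ee := D.central D.e_mem D.u_e

theorem Data.comm_mem (D : Data h c d φ ψ b u z ee ed) {x y : P} (hx : x ∈ N) (hy : y ∈ N) :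
    ⁅x, y⁆ ∈ zpowers z := by
  have hm : ⁅x, y⁆ ∈ phi N := by rw [commutatorElement_def]; exact h.comm_mem_phi_N hx hy
  obtain ⟨k, hk⟩ := h.phi_N_img D.hu D.hu' D.opp (x := (⟨_, h.phi_N_le hm⟩ : E)) hm
  obtain ⟨hz, hzc⟩ := D.zE
  rw [← hzc, ← ZMod.natCast_zmod_val k, Nat.cast_smul_eq_nsmul, ← MaxClassEssential.vec_pow] at hk
  have h1 : ⁅x, y⁆ = z ^ k.val := congrArg Subtype.val (D.inj hk)
  rw [h1]
  exact pow_mem (mem_zpowers z) _

theorem Data.comm_central (D : Data h c d φ ψ b u z ee ed) {x y w : P} (hx : x ∈ N) (hy : y ∈ N) (hw : w ∈ N) :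
    Commute w ⁅x, y⁆ := by
  obtain ⟨i, hi⟩ := D.comm_mem hx hy
  have hi' : z ^ i = ⁅x, y⁆ := hi
  rw [← hi']
  exact (D.z_central w hw).zpow_right i

theorem Data.z_pow (D : Data h c d φ ψ b u z ee ed) : z ^ p = 1 := D.exp z D.z_mem

theorem Data.comm_pow (D : Data h c d φ ψ b u z ee ed) {x y : P} (hx : x ∈ N) (hy : y ∈ N) :
    ⁅x, y⁆ ^ p = 1 := by
  obtain ⟨i, hi⟩ := D.comm_mem hx hy
  have hi' : z ^ i = ⁅x, y⁆ := hi
  rw [← hi', ← zpow_natCast, ← zpow_mul, mul_comm, zpow_mul, zpow_natCast, D.z_pow, one_zpow]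

theorem Data.mul_pow_p (D : Data h c d φ ψ b u z ee ed) {x y : P} (hx : x ∈ N) (hy : y ∈ N) :
    (x * y) ^ p = x ^ p * y ^ p := by
  rw [mul_pow_central (D.comm_central hy hx hx) (D.comm_central hy hx hy)]
  obtain ⟨m, hm⟩ := dvd_choose_two (p := p) h.three_le
  rw [hm, pow_mul, D.comm_pow hy hx, one_pow, mul_one]

theorem Data.u_pow (D : Data h c d φ ψ b u z ee ed) : u ^ p = 1 := by
  have hm := h.pow_mem_phi_N D.hu
  set w : E := ⟨u ^ p, h.phi_N_le hm⟩ with hw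
  obtain ⟨k, hk⟩ := h.phi_N_img D.hu D.hu' D.opp (x := w) hm
  set a : A := ⟨_, h.cE_mem D.hu⟩
  have h2 := two_ne_zero' h.five
  set τ := torE a b (2 : ZMod p)
  have hτ : h.rho τ * h.rho a = h.rho a ^ 4 * h.rho τ := by
    rw [← map_pow, ← map_mul, ← map_mul]; exact (h.frame_rel D.opp).2.2
  obtain ⟨β, -, hβe, hβu⟩ := h.exists_ext D.hu D.hu' hτ
  have h4 : (τ : MulAut E) w = w ^ 4 := by
    refine Subtype.ext ?_
    rw [← hβe w (h.le_N w.2)]
    have e1 : (⟨w, h.le_N w.2⟩ : N) = (⟨u, D.hu⟩ : N) ^ p := Subtype.ext (by rw [SubmonoidClass.coe_pow])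
    rw [e1, map_pow, SubmonoidClass.coe_pow, SubmonoidClass.coe_pow]
    set y : P := ((β ⟨u, D.hu⟩ : N) : P)
    have e2 : y = u ^ 4 * ((u ^ 4)⁻¹ * y) := by group
    rw [e2, D.mul_pow_p (N.pow_mem D.hu 4) (h.le_N hβu), D.exp _ hβu, mul_one, ← pow_mul, ← pow_mul, mul_comm]
  have h5 := congrArg (fun t : E => (vec t : Vec p E)) h4
  rw [← apply_vec h, MaxClassEssential.vec_pow, hk, map_smul, D.opp.torE_eq h2, D.opp.mat_c, zero_smul, add_zero,
    ← Nat.cast_smul_eq_nsmul (ZMod p), smul_smul, smul_smul, ← sub_eq_zero, ← sub_smul] at h5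
  have hc : c ≠ 0 := fun e0 => by have := D.opp.gc; rw [e0, map_zero] at this; exact zero_ne_one this
  have h6 := (smul_eq_zero.mp h5).resolve_right hc
  have h7 : (2 : ZMod p) * k = 0 := by push_cast at h6; linear_combination (-1 : ZMod p) * h6
  have h8 : k = 0 := (mul_eq_zero.mp h7).resolve_left h2
  rw [h8, zero_smul, ← MaxClassEssential.vec_one (p := p) (E := E)] at hk
  exact congrArg Subtype.val (D.inj hk)

theorem Data.pow_p (D : Data h c d φ ψ b u z ee ed) {x : P} (hx : x ∈ N) : x ^ p = 1 := by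
  obtain ⟨i, hi⟩ := h.exists_pow D.hu D.hu' hx
  have e : x = u ^ i * ((u ^ i)⁻¹ * x) := by group
  rw [e, D.mul_pow_p (N.pow_mem D.hu i) (h.le_N hi), D.exp _ hi, mul_one, ← pow_mul, mul_comm, pow_mul,
    D.u_pow, one_pow]

theorem Data.phi_N (D : Data h c d φ ψ b u z ee ed) : phi N = zpowers z := by
  refine le_antisymm (fun x hx => ?_) (zpowers_le.mpr ?_)
  · obtain ⟨k, hk⟩ := h.phi_N_img D.hu D.hu' D.opp (x := (⟨x, h.phi_N_le hx⟩ : E)) hx
    obtain ⟨hz, hzc⟩ := D.zE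
    rw [← hzc, ← ZMod.natCast_zmod_val k, Nat.cast_smul_eq_nsmul, ← MaxClassEssential.vec_pow] at hk
    have h1 : x = z ^ k.val := congrArg Subtype.val (D.inj hk)
    rw [h1]
    exact pow_mem (mem_zpowers z) _
  · rw [← D.u_d, commutatorElement_def]
    exact h.comm_mem_phi_N D.hu (h.le_N D.d_mem)

theorem Data.card_N (D : Data h c d φ ψ b u z ee ed) : Nat.card N = p ^ 4 := by
  have h1 : Nat.card E = p ^ 3 := by
    rw [Nat.card_congr (Equiv.ofBijective _ ⟨D.inj, MaxClassEssential.vec_surjective⟩),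
      Module.natCard_eq_pow_finrank (K := ZMod p), Nat.card_zmod, h.finrank_eq]
  have h2 := (E.subgroupOf N).card_mul_index
  rw [show (E.subgroupOf N).index = p from h.idx, Nat.card_congr (subgroupOfEquivOfLe h.le_N).toEquiv, h1] at h2
  rw [← h2, ← pow_succ]

theorem Data.frattini_index (D : Data h c d φ ψ b u z ee ed) : (frattini N).index = p ^ 3 := by
  have h1 : Nat.card (frattini N) = p := by
    have e : Nat.card (phi N) = Nat.card (frattini N) :=
      (Nat.card_congr ((frattini N).equivMapOfInjective _ N.subtype_injective).toEquiv).symm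
    rw [← e, D.phi_N, Nat.card_zpowers, orderOf_eq_prime D.z_pow D.z_ne]
  have h2 := (frattini N).card_mul_index
  rw [h1, D.card_N, pow_succ'] at h2
  exact Nat.eq_of_mul_eq_mul_left hpf.out.pos h2

end Frattini

end Hyp

end CfsgLib.RankThree
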