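import Cfsg.Agent.Lib.Fusion.RankThree.Weights

/-!
An elementary abelian subgroup of order `p ^ 4`: the configuration is impossible.
-/

set_option autoImplicit false
set_option linter.unusedSectionVars false
set_option linter.style.haveILetI false

namespace CfsgLib.RankThree

open Subgroup
open scoped commutatorElement
open MaxClassEssential (Vec vec lin)

variable {p : ℕ} [hpf : Fact p.Prime] {P : Type*} [Group P] [Finite P] {E N : Subgroup P}
  {A : Subgroup (MulAut E)} {B : Subgroup (MulAut N)}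

theorem pow_eq_of_cast {G : Type*} [Group G] {y : G} (hy : y ^ p = 1) {m n : ℕ} (e : (m : ZMod p) = n) :
    y ^ m = y ^ n := pow_eq_pow_of_modEq ((ZMod.natCast_eq_natCast_iff m n p).mp e) hy

theorem cast_eq_of_pow {G : Type*} [Group G] {y : G} (hy : y ^ p = 1) (hy1 : y ≠ 1) {m n : ℕ}
    (e : y ^ m = y ^ n) : (m : ZMod p) = n :=
  (ZMod.natCast_eq_natCast_iff m n p).mpr (orderOf_eq_prime hy hy1 ▸ pow_eq_pow_iff_modEq.mp e)

theorem pow_card_mul_le (hP : IsPGroup p P) {S T : Subgroup P} (h : S < T) {k : ℕ} (hk : p ^ k ≤ Nat.card S) :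
    p ^ (k + 1) ≤ Nat.card T := by
  obtain ⟨i, hi⟩ := (hP.to_subgroup S).exists_card_eq
  obtain ⟨j, hj⟩ := (hP.to_subgroup T).exists_card_eq
  have hlt : p ^ i < p ^ j := by
    rw [← hi, ← hj]
    exact lt_of_le_of_ne (card_le_of_le h.le) fun e => h.ne (eq_of_le_of_card_ge h.le e.ge)
  have h1 : i < j := (Nat.pow_lt_pow_iff_right hpf.out.one_lt).mp hlt
  rw [hi] at hk
  have h2 : k ≤ i := (Nat.pow_le_pow_iff_right hpf.out.one_lt).mp hk
  rw [hj]
  exact Nat.pow_le_pow_right hpf.out.pos (by omega)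

namespace Hyp

section Frattini

variable [hfE : Fact (IsPGroup p E)] [hfN : Fact (IsPGroup p N)] {c d : Vec p E}
  {φ ψ : Vec p E →ₗ[ZMod p] ZMod p} {b : A} {u z ee ed : P} {h : Hyp p E N A B}

theorem Data.ee_indep (D : Data h c d φ ψ b u z ee ed) {m r : ℕ} (e : z ^ m * ee ^ r = 1) :
    (m : ZMod p) = 0 ∧ (r : ZMod p) = 0 := by
  obtain ⟨hz, hzc⟩ := D.zE
  obtain ⟨he, he1, he2, he3⟩ := D.eE
  have h1 : (⟨z, hz⟩ : E) ^ m * ⟨ee, he⟩ ^ r = 1 := Subtype.ext (by simpa using e)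
  have h2 := congrArg (fun t : E => (vec t : Vec p E)) h1
  rw [MaxClassEssential.vec_mul, MaxClassEssential.vec_pow, MaxClassEssential.vec_pow, MaxClassEssential.vec_one,
    hzc, ← Nat.cast_smul_eq_nsmul (ZMod p), ← Nat.cast_smul_eq_nsmul (ZMod p)] at h2
  have h3 := congrArg ψ h2
  rw [map_add, map_smul, map_smul, D.opp.gc, he2, smul_zero, add_zero, map_zero, smul_eq_mul, mul_one] at h3
  rw [h3, zero_smul, zero_add] at h2
  exact ⟨h3, (smul_eq_zero.mp h2).resolve_right he3⟩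

theorem Data.z_center (D : Data h c d φ ψ b u z ee ed) (x : P) : Commute x z := by
  have hxz : x * z * x⁻¹ ∈ zpowers z :=
    D.phi_N ▸ h.conj_mem_phi_N x (D.phi_N.ge (mem_zpowers z))
  obtain ⟨k, hk⟩ := mem_powers_iff_mem_zpowers.mpr hxz
  have hk' : z ^ k = x * z * x⁻¹ := hk
  have key : ∀ n : ℕ, x ^ n * z * (x ^ n)⁻¹ = z ^ k ^ n := by
    intro n
    induction n with
    | zero => simp
    | succ n ih =>
      calc x ^ (n + 1) * z * (x ^ (n + 1))⁻¹ = x * (x ^ n * z * (x ^ n)⁻¹) * x⁻¹ := by rw [pow_succ']; group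
        _ = (x * z * x⁻¹) ^ k ^ n := by rw [ih, conj_pow]
        _ = _ := by rw [← hk', ← pow_mul, ← pow_succ']
  obtain ⟨j, hj⟩ := h.pg x
  have h1 := key (p ^ j)
  rw [hj, one_mul, inv_one, mul_one] at h1
  have h2 : ((k ^ p ^ j : ℕ) : ZMod p) = ((1 : ℕ) : ZMod p) := cast_eq_of_pow D.z_pow D.z_ne (by rw [pow_one, ← h1])
  push_cast at h2
  rw [ZMod.pow_card_pow] at h2
  have h3 : z ^ k = z := by
    conv_rhs => rw [← pow_one z]
    exact pow_eq_of_cast D.z_pow (by rw [h2, Nat.cast_one])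
  rw [h3] at hk'
  exact (mul_inv_eq_iff_eq_mul.mp hk'.symm)

/-- The configuration with an elementary abelian essential subgroup is impossible. -/
theorem Data.false (D : Data h c d φ ψ b u z ee ed) : False := by
  obtain ⟨g, a, b', ψ', β, hg, hPg, hψ, ⟨s, hs⟩, ha, hb, hb1, hb2, hab, hab2, hX0, hgX, hβX, ⟨kd, hβd⟩, hγ⟩ :=
    D.exists_weights
  haveI := h.nrm
  set dd : N := ⟨ed, h.le_N D.d_mem⟩ with hdd
  set cd := D.cl dd with hcd
  set cu := D.cl ⟨u, D.hu⟩ with hcu
  set X := D.cl (h.conjN g dd) - cd with hX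
  have hsX : D.sig (h.conjN g) X = X := by
    rw [hX, map_sub, D.sig_cl, hcd, D.sig_cl]; exact hgX
  have hXne : X ≠ 0 := sub_ne_zero.mpr hX0
  obtain ⟨r, s0, hXc⟩ : ∃ r s0 : ZMod p, X = r • cu + s0 • cd := by
    obtain ⟨i, -, j, -, -, hcl⟩ := D.decomp (h.conjN g dd)
    exact ⟨i, (j : ZMod p) - 1, by rw [hX, hcl, sub_smul, one_smul]; abel⟩
  have hr : r ≠ 0 := by
    intro e
    rw [e, zero_smul, zero_add] at hXc
    have h1 := hsX
    rw [hXc, map_smul, hcd, D.sig_cl, show D.cl (h.conjN g dd) = cd + X from (add_sub_cancel cd _).symm, ← hcd,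
      smul_add, add_eq_left, hXc, smul_smul] at h1
    have h2 : s0 = 0 := by
      rcases smul_eq_zero.mp h1 with h3 | h3
      · exact mul_self_eq_zero.mp h3
      · exact absurd h3 D.cd_ne
    rw [h2, zero_smul] at hXc
    exact hXne hXc
  -- the element in the fixed class
  set x1N : N := h.conjN g dd * dd⁻¹ with hx1N
  set x1 : P := (x1N : P) with hx1
  have hx1e : ⁅g, ed⁆ = x1 := by
    rw [commutatorElement_def, hx1, hx1N, Subgroup.coe_mul, h.coe_conjN]; rfl
  have hclx1 : D.cl x1N = X := by rw [hx1N, D.cl_mul, D.cl_inv, ← sub_eq_add_neg]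
  have hc1 : ⁅x1, ed⁆ = z ^ r.val := D.comm_d (x := x1N) (hclx1.trans hXc)
  -- central elements
  have hzs : ∀ w : N, D.cl w = 0 → ∀ n ∈ N, Commute n (w : P) := by
    intro w hw n hn
    obtain ⟨k, l, e⟩ := D.cl_eq_zero.mp hw
    rw [e]
    exact ((D.z_central n hn).pow_right k).mul_right ((D.e_central n hn).pow_right l)
  -- the image of `z`
  have hψz : ψ' z = z ^ (a * b').val := by
    set q1 : N := (x1N ^ a.val)⁻¹ * β x1N with hq1
    have hq1c : D.cl q1 = 0 := by
      rw [hq1, D.cl_mul, D.cl_inv, D.cl_pow, hclx1, ZMod.natCast_zmod_val, ← D.sig_cl, hclx1, hβX, neg_add_cancel]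
    set q2 : N := (dd ^ b'.val * x1N ^ kd.val)⁻¹ * β dd with hq2
    have hq2c : D.cl q2 = 0 := by
      rw [hq2, D.cl_mul, D.cl_inv, D.cl_mul, D.cl_pow, D.cl_pow, hclx1, ZMod.natCast_zmod_val,
        ZMod.natCast_zmod_val, ← D.sig_cl, ← hcd, hβd, neg_add_cancel]
    have e1 : ψ' x1 = x1 ^ a.val * (q1 : P) := by
      show ψ' (x1N : P) = (x1N : P) ^ a.val * _
      rw [hψ, hq1]
      exact (mul_inv_cancel_left _ _).symm
    have e2 : ψ' ed = ed ^ b'.val * x1 ^ kd.val * (q2 : P) := by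
      rw [show ψ' ed = (β dd : N) from hψ dd, hq2, Subgroup.coe_mul, InvMemClass.coe_inv, Subgroup.coe_mul,
        SubmonoidClass.coe_pow, SubmonoidClass.coe_pow, mul_inv_cancel_left]
    have hdN : ed ∈ N := h.le_N D.d_mem
    have hx1N' : x1 ∈ N := x1N.2
    have hA : x1 ^ a.val ∈ N := N.pow_mem hx1N' _
    have hW : ed ^ b'.val * x1 ^ kd.val ∈ N := N.mul_mem (N.pow_mem hdN _) (N.pow_mem hx1N' _)
    have d1 : ⁅x1 ^ a.val * (q1 : P), ed ^ b'.val * x1 ^ kd.val * (q2 : P)⁆ =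
        ⁅x1 ^ a.val, ed ^ b'.val⁆ := by
      have c1 : ⁅(q1 : P), ed ^ b'.val * x1 ^ kd.val * (q2 : P)⁆ = 1 := commutatorElement_eq_one_iff_mul_comm.mpr
        (hzs q1 hq1c _ (N.mul_mem hW q2.2)).symm.eq
      have c2 : ⁅x1 ^ a.val, (q2 : P)⁆ = 1 :=
        commutatorElement_eq_one_iff_mul_comm.mpr (hzs q2 hq2c _ hA).eq
      have c3 : ⁅x1 ^ a.val, x1 ^ kd.val⁆ = 1 :=
        commutatorElement_eq_one_iff_mul_comm.mpr ((Commute.refl x1).pow_pow _ _).eq
      rw [comm_mul_left' (by rw [c1]; exact Commute.one_right _), c1, one_mul,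
        comm_mul_right' (by rw [c2]; exact Commute.one_right _), c2, mul_one,
        comm_mul_right' (by rw [c3]; exact Commute.one_right _), c3, mul_one]
    have c4 : ⁅x1, ed ^ b'.val⁆ = z ^ (r.val * b'.val) := by
      rw [comm_pow_right' (by rw [hc1]; exact (D.z_center ed).pow_right _), hc1, ← pow_mul]
    have d2 : ⁅x1 ^ a.val, ed ^ b'.val⁆ = z ^ (r.val * b'.val * a.val) := by
      rw [comm_pow_left' (by rw [c4]; exact (D.z_center x1).pow_right _), c4, ← pow_mul]
    have e3 := congrArg ψ' hc1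
    rw [map_commutatorElement ψ', e1, e2, d1, d2, map_pow] at e3
    have e4 := congrArg (· ^ (r⁻¹).val) e3
    have e5 : z ^ (a * b').val = z ^ (r.val * b'.val * a.val * (r⁻¹).val) := pow_eq_of_cast D.z_pow (by
      simp only [Nat.cast_mul, ZMod.natCast_zmod_val]; field_simp)
    have e6 : (ψ' z) ^ (r.val * (r⁻¹).val) = (ψ' z) ^ 1 := pow_eq_of_cast
      (by rw [← map_pow, D.z_pow, map_one]) (by
      simp only [Nat.cast_mul, ZMod.natCast_zmod_val, Nat.cast_one]; field_simp)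
    rw [e5, pow_mul, e4, ← pow_mul, e6, pow_one]
  -- the image of `g`
  obtain ⟨i, hi⟩ := hPg (ψ' g)
  have hiγ := hγ i hi
  set n : P := (g ^ i)⁻¹ * ψ' g with hn
  have hψg : ψ' g = g ^ i * n := by rw [hn, mul_inv_cancel_left]
  -- `g` centralises the centre of `N`
  have hge : Commute g ee := by
    set eN : N := ⟨ee, h.le_N D.e_mem⟩
    have h0 : D.cl (h.conjN g eN) = 0 := by
      rw [D.cl_congr (h.conjN g) (D.cl_e.trans D.cl_one.symm), map_one, D.cl_one]
    obtain ⟨k, l, e⟩ := D.cl_eq_zero.mp h0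
    rw [h.coe_conjN] at e
    have e' : g * ee * g⁻¹ = z ^ k * ee ^ l := e
    have key : ∀ m : ℕ, ∃ k' : ℕ, g ^ m * ee * (g ^ m)⁻¹ = z ^ k' * ee ^ l ^ m := by
      intro m
      induction m with
      | zero => exact ⟨0, by simp⟩
      | succ m ih =>
        obtain ⟨k', ih⟩ := ih
        refine ⟨k' + k * l ^ m, ?_⟩
        calc g ^ (m + 1) * ee * (g ^ (m + 1))⁻¹ = g * (g ^ m * ee * (g ^ m)⁻¹) * g⁻¹ := by rw [pow_succ']; group
          _ = (g * z ^ k') * ee ^ l ^ m * g⁻¹ := by rw [ih]; group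
          _ = z ^ k' * (g * ee * g⁻¹) ^ l ^ m := by rw [((D.z_center g).pow_right k').eq, conj_pow]; group
          _ = _ := by
            rw [e', ((show Commute z ee from (D.z_center ee).symm).pow_pow k l).mul_pow, ← pow_mul, ← pow_mul,
              ← mul_assoc, ← pow_add, ← pow_succ']
    obtain ⟨j, hj⟩ := h.pg g
    obtain ⟨k', hk'⟩ := key (p ^ j)
    rw [hj, one_mul, inv_one, mul_one] at hk'
    have hl : (l : ZMod p) = 1 := by
      have h1 : z ^ k' * ee ^ (l ^ p ^ j + (p - 1)) = 1 := by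
        rw [pow_add, ← mul_assoc, ← hk', ← pow_succ', show p - 1 + 1 = p by have := hpf.out.two_le; omega]
        exact D.exp ee D.e_mem
      have h2 := (D.ee_indep h1).2
      push_cast [Nat.cast_sub hpf.out.one_lt.le] at h2
      rw [ZMod.pow_card_pow, ZMod.natCast_self] at h2
      linear_combination h2
    have e'' : g * ee * g⁻¹ = z ^ k * ee := by
      rw [e', show ee ^ l = ee ^ 1 from pow_eq_of_cast (D.exp ee D.e_mem) (by rw [hl, Nat.cast_one]), pow_one]
    have hcz : ⁅g, ee⁆ = z ^ k := by rw [commutatorElement_def, e'', mul_inv_cancel_right]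
    have hψe : ψ' ee = ee * z ^ s := (hψ eN).trans hs
    have h3 := congrArg ψ' hcz
    rw [map_commutatorElement ψ', hψg, hψe, map_pow, hψz] at h3
    have hnw : ⁅n, ee * z ^ s⁆ = 1 := commutatorElement_eq_one_iff_mul_comm.mpr
      ((D.e_central n hi).mul_right ((D.z_central n hi).pow_right s)).eq
    have hgi : ∀ m : ℕ, ⁅g ^ m, ee⁆ = z ^ (k * m) := fun m => by
      rw [comm_pow_left' (by rw [hcz]; exact (D.z_center g).pow_right k), hcz, ← pow_mul]
    have hzs' : ⁅g ^ i, z ^ s⁆ = 1 :=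
      commutatorElement_eq_one_iff_mul_comm.mpr ((D.z_center (g ^ i)).pow_right s).eq
    rw [comm_mul_left' (by rw [hnw]; exact Commute.one_right _), hnw, one_mul,
      comm_mul_right' (by rw [hzs']; exact Commute.one_right _), hzs', mul_one, hgi, ← pow_mul] at h3
    have h4 := cast_eq_of_pow D.z_pow D.z_ne h3
    simp only [Nat.cast_mul, ZMod.natCast_zmod_val] at h4
    have h5 : (k : ZMod p) * (a * (1 - b' ^ 2)) = 0 := by linear_combination b' * h4 - (k : ZMod p) * hiγ
    have h6 : (k : ZMod p) = 0 := (mul_eq_zero.mp h5).resolve_right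
      (mul_ne_zero ha (sub_ne_zero.mpr hb2.symm))
    rw [show z ^ k = z ^ 0 from pow_eq_of_cast D.z_pow (by rw [h6, Nat.cast_zero]), pow_zero] at hcz
    exact commutatorElement_eq_one_iff_mul_comm.mp hcz
  -- so the centre of `N` is central
  have hzc : ∀ w : N, D.cl w = 0 → ∀ x : P, Commute x (w : P) := by
    intro w hw x
    obtain ⟨m, hm⟩ := hPg x
    obtain ⟨k, l, e⟩ := D.cl_eq_zero.mp hw
    have h1 : Commute (g ^ m) (w : P) := by
      rw [e]
      exact (((D.z_center g).pow_right k).mul_right (hge.pow_right l)).pow_left m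
    simpa using h1.mul_left (hzs w hw _ hm)
  set q : N := (x1N ^ a.val)⁻¹ * β x1N with hq
  have hqc : D.cl q = 0 := by
    rw [hq, D.cl_mul, D.cl_inv, D.cl_pow, hclx1, ZMod.natCast_zmod_val, ← D.sig_cl, hclx1, hβX, neg_add_cancel]
  have hψx : ψ' x1 = x1 ^ a.val * (q : P) := by
    show ψ' (x1N : P) = (x1N : P) ^ a.val * _
    rw [hψ, hq]
    exact (mul_inv_cancel_left _ _).symm
  -- the commutator with the fixed class
  obtain ⟨l0, k0, hr0⟩ : ∃ l0 k0 : ℕ, ⁅g, x1⁆ = z ^ l0 * ee ^ k0 := by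
    obtain ⟨k, l, e⟩ := (D.cl_eq_zero (x := h.conjN g x1N * x1N⁻¹)).mp (by
      rw [D.cl_mul, D.cl_inv, ← D.sig_cl, hclx1, hsX, add_neg_cancel])
    exact ⟨k, l, by rw [commutatorElement_def, ← e, Subgroup.coe_mul, h.coe_conjN]; rfl⟩
  have hψee : ψ' ee = ee * z ^ s := (hψ ⟨ee, h.le_N D.e_mem⟩).trans hs
  have hrc : ∀ x : P, Commute x (z ^ l0 * ee ^ k0) := fun x =>
    ((D.z_center x).pow_right _).mul_right ((hzc ⟨ee, h.le_N D.e_mem⟩ D.cl_e x).pow_right _)
  have hgx : ⁅g, x1⁆ = z ^ l0 := by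
    have h1 := congrArg ψ' hr0
    rw [map_commutatorElement ψ', hψg, hψx, map_mul, map_pow, map_pow, hψz, hψee] at h1
    have hA : x1 ^ a.val ∈ N := N.pow_mem x1N.2 _
    have hAq : x1 ^ a.val * (q : P) ∈ N := N.mul_mem hA q.2
    obtain ⟨m1, hm1⟩ := mem_powers_iff_mem_zpowers.mpr (D.comm_mem hi hAq)
    have hm1' : z ^ m1 = ⁅n, x1 ^ a.val * (q : P)⁆ := hm1
    have c1 : ⁅g ^ i, (q : P)⁆ = 1 := commutatorElement_eq_one_iff_mul_comm.mpr (hzc q hqc _).eq
    have c2 : ⁅g, x1 ^ a.val⁆ = (z ^ l0 * ee ^ k0) ^ a.val := by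
      rw [comm_pow_right' (by rw [hr0]; exact hrc x1), hr0]
    have c3 : ⁅g ^ i, x1 ^ a.val⁆ = ((z ^ l0 * ee ^ k0) ^ a.val) ^ i := by
      rw [comm_pow_left' (by rw [c2]; exact (hrc g).pow_right _), c2]
    rw [comm_mul_left' (by rw [← hm1']; exact (D.z_center _).pow_right _),
      comm_mul_right' (x := g ^ i) (y := x1 ^ a.val) (w := (q : P)) (by rw [c1]; exact Commute.one_right _), c1,
      mul_one, c3, ← hm1', ← pow_mul] at h1
    have hze : ∀ x y : ℕ, Commute (z ^ x) (ee ^ y) := fun x y => (D.z_center ee).symm.pow_pow x y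
    rw [(hze l0 k0).mul_pow, ((D.z_center ee).pow_right s).mul_pow, ← pow_mul, ← pow_mul, ← pow_mul, ← pow_mul,
      ← mul_assoc, ← pow_add] at h1
    set M1 := m1 + l0 * (a.val * i)
    set K1 := k0 * (a.val * i)
    set M2 := (a * b').val * l0 + s * k0
    have h2 : z ^ (M1 + (p - 1) * M2) * ee ^ (K1 + (p - 1) * k0) = 1 := by
      have h1' : z ^ M1 * ee ^ K1 = z ^ M2 * ee ^ k0 := by
        rw [h1, pow_add z ((a * b').val * l0)]
        rw [mul_assoc (z ^ ((a * b').val * l0)), (hze (s * k0) k0).eq]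
      rw [pow_add z M1, pow_add ee K1, ← mul_assoc, mul_assoc (z ^ M1), (hze ((p - 1) * M2) K1).eq, ← mul_assoc (z ^ M1), h1',
        mul_assoc, mul_assoc, ← mul_assoc (ee ^ k0), ← (hze ((p - 1) * M2) k0).eq, mul_assoc, ← pow_add,
        ← mul_assoc, ← pow_add, show M2 + (p - 1) * M2 = p * M2 by
          have := hpf.out.one_lt; rw [Nat.sub_mul, one_mul, Nat.add_sub_cancel' (Nat.le_mul_of_pos_left _ (by omega))],
        show k0 + (p - 1) * k0 = p * k0 by
          have := hpf.out.one_lt; rw [Nat.sub_mul, one_mul, Nat.add_sub_cancel' (Nat.le_mul_of_pos_left _ (by omega))],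
        pow_mul, pow_mul, D.z_pow, D.exp ee D.e_mem, one_pow, one_pow, one_mul]
    have h3 := (D.ee_indep h2).2
    simp only [K1, Nat.cast_add, Nat.cast_mul, ZMod.natCast_zmod_val, Nat.cast_sub hpf.out.one_lt.le, ZMod.natCast_self,
      Nat.cast_one, zero_sub] at h3
    have h4 : (k0 : ZMod p) * (a * a - b') = 0 := by linear_combination b' * h3 - (k0 : ZMod p) * a * hiγ
    have h5 : (k0 : ZMod p) = 0 := (mul_eq_zero.mp h4).resolve_right (sub_ne_zero.mpr hab2)
    rw [hr0, show ee ^ k0 = ee ^ 0 from pow_eq_of_cast (D.exp ee D.e_mem) (by rw [h5, Nat.cast_zero]), pow_zero,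
      mul_one]
  -- an element centralising the subgroup of order `p ^ 3`
  set j := ((l0 : ZMod p) * r⁻¹).val with hj
  set g' := g * ed ^ j with hg'
  have hdx : ⁅ed, x1⁆ = (z ^ r.val)⁻¹ := by rw [← commutatorElement_inv, hc1]
  have hg'x : Commute g' x1 := by
    refine commutatorElement_eq_one_iff_mul_comm.mp ?_
    have c1 : ⁅ed ^ j, x1⁆ = ((z ^ r.val)⁻¹) ^ j := by
      rw [comm_pow_left' (by rw [hdx]; exact ((D.z_center ed).pow_right _).inv_right), hdx]
    rw [hg', comm_mul_left' (by rw [c1]; exact (((D.z_center g).pow_right _).inv_right).pow_right _), c1, hgx,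
      inv_pow, ← pow_mul, inv_mul_eq_one]
    exact pow_eq_of_cast D.z_pow (by rw [Nat.cast_mul, ZMod.natCast_zmod_val, hj, ZMod.natCast_zmod_val]; field_simp)
  have hdN : ed ∈ N := h.le_N D.d_mem
  have hg'N : g' ∉ N := fun e => hg (by
    have := N.mul_mem e (N.inv_mem (N.pow_mem hdN j))
    rwa [hg', mul_inv_cancel_right] at this)
  have hmk : ∀ x y : P, (QuotientGroup.mk x : P ⧸ N) = QuotientGroup.mk y ↔ x⁻¹ * y ∈ N := fun x y =>
    QuotientGroup.eq
  have hq0 : ∀ x ∈ N, (QuotientGroup.mk x : P ⧸ N) = 1 := fun x hx => (QuotientGroup.eq_one_iff x).mpr hx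
  have hψed : ψ' ed ∈ N := by rw [show ψ' ed = (β dd : N) from hψ dd]; exact SetLike.coe_mem _
  set n' := (g' ^ i)⁻¹ * ψ' g' with hn'
  have hn'N : n' ∈ N := by
    rw [← hmk]
    rw [hg', map_mul, map_pow, hψg, QuotientGroup.mk_pow, QuotientGroup.mk_mul, QuotientGroup.mk_mul,
      QuotientGroup.mk_mul, hq0 n hi, hq0 (ed ^ j) (N.pow_mem hdN j), hq0 _ (N.pow_mem hψed j), mul_one, mul_one,
      mul_one, QuotientGroup.mk_pow]
  have hx1p : x1 ^ p = 1 := D.pow_p x1N.2
  have hpull : ∀ w : P, Commute w (x1 ^ a.val) → Commute w x1 := fun w hw => by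
    have h1 := hw.pow_right (a⁻¹).val
    rwa [← pow_mul, pow_eq_of_cast hx1p (n := 1)
      (by simp only [Nat.cast_mul, ZMod.natCast_zmod_val, Nat.cast_one]; field_simp), pow_one] at h1
  have hn'x : Commute n' x1 := by
    have h1 : Commute (ψ' g') (ψ' x1) := by
      show ψ' g' * ψ' x1 = ψ' x1 * ψ' g'
      rw [← map_mul, ← map_mul, hg'x.eq]
    rw [hψx] at h1
    have h2 : Commute (ψ' g') (x1 ^ a.val) := by
      have := h1.mul_right (hzc q hqc (ψ' g')).inv_right
      rwa [mul_inv_cancel_right] at this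
    exact ((hg'x.pow_left i).inv_left).mul_left (hpull _ h2)
  -- `n'` lies in the subgroup of order `p ^ 3`
  obtain ⟨r', s', hn'c⟩ : ∃ r' s' : ZMod p, D.cl ⟨n', hn'N⟩ = r' • X + s' • cd := by
    obtain ⟨i', -, j', -, -, hcl⟩ := D.decomp ⟨n', hn'N⟩
    refine ⟨(i' : ZMod p) * r⁻¹, (j' : ZMod p) - (i' : ZMod p) * r⁻¹ * s0, ?_⟩
    rw [hcl, hXc, ← hcu, ← hcd]
    match_scalars <;> field_simp <;> ring
  set q' : N := (x1N ^ r'.val * dd ^ s'.val)⁻¹ * ⟨n', hn'N⟩ with hq'
  have hq'c : D.cl q' = 0 := by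
    rw [hq', D.cl_mul, D.cl_inv, D.cl_mul, D.cl_pow, D.cl_pow, hclx1, ← hcd, ZMod.natCast_zmod_val,
      ZMod.natCast_zmod_val, hn'c, neg_add_cancel]
  have hn'e : n' = x1 ^ r'.val * ed ^ s'.val * (q' : P) := by
    rw [hq', Subgroup.coe_mul, InvMemClass.coe_inv, Subgroup.coe_mul, SubmonoidClass.coe_pow,
      SubmonoidClass.coe_pow, mul_inv_cancel_left]
  have hs' : s' = 0 := by
    have h1 : Commute (ed ^ s'.val) x1 := by
      have h2 := hn'x.mul_left (hzc q' hq'c x1).symm.inv_left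
      rw [hn'e, mul_inv_cancel_right] at h2
      have h3 := ((Commute.refl x1).pow_left r'.val).inv_left.mul_left h2
      rwa [inv_mul_cancel_left] at h3
    have h2 := commutatorElement_eq_one_iff_mul_comm.mpr h1.eq
    rw [comm_pow_left' (by rw [hdx]; exact ((D.z_center ed).pow_right _).inv_right), hdx, inv_pow, inv_eq_one,
      ← pow_mul, ← pow_zero z] at h2
    have h3 := cast_eq_of_pow D.z_pow D.z_ne h2
    simp only [Nat.cast_mul, ZMod.natCast_zmod_val, Nat.cast_zero] at h3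
    exact (mul_eq_zero.mp h3).resolve_left hr
  rw [hs', ZMod.val_zero, pow_zero, mul_one] at hn'e
  -- the element has order `p`
  have hψh : ψ' g' = g' ^ i * n' := by rw [hn', mul_inv_cancel_left]
  have hn'p : n' ^ p = 1 := D.pow_p hn'N
  have hcn' : Commute g' n' := by
    rw [hn'e]; exact (hg'x.pow_right _).mul_right (hzc q' hq'c g')
  have hψp : ψ' (g' ^ p) = (g' ^ p) ^ i := by
    rw [map_pow, hψh, (hcn'.pow_left i).mul_pow, hn'p, mul_one, ← pow_mul, ← pow_mul, mul_comm]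
  have hgpN : g' ^ p ∈ N := by
    refine D.mem_of_fix ?_
    have hcdd : ∀ m : ℕ, D.sig (h.conjN (g' ^ m)) cd = cd + (m : ZMod p) • X := by
      have e0 : D.sig (h.conjN g') = D.sig (h.conjN g) := by
        rw [hg', map_mul, map_mul]
        have e1 : D.sig (h.conjN (ed ^ j)) = 1 := by
          refine LinearMap.ext fun v => ?_
          obtain ⟨w, rfl⟩ := Submodule.Quotient.mk_surjective _ v
          obtain ⟨y, rfl⟩ := MaxClassEssential.vec_surjective w
          show D.cl (h.conjN (ed ^ j) y) = D.cl y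
          have e : h.conjN (ed ^ j) y = (⟨_, N.pow_mem hdN j⟩ : N) * y * (⟨_, N.pow_mem hdN j⟩ : N)⁻¹ :=
            Subtype.ext (h.coe_conjN _ y)
          rw [e, D.cl_mul, D.cl_mul, D.cl_inv]
          abel
        rw [e1, mul_one]
      intro m
      induction m with
      | zero => rw [pow_zero, map_one h.conjN, map_one D.sig, Module.End.one_apply, Nat.cast_zero, zero_smul, add_zero]
      | succ m ih =>
        rw [pow_succ', map_mul, map_mul, Module.End.mul_apply, ih, e0, map_add, map_smul, hsX, hcd, D.sig_cl,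
          show D.cl (h.conjN g dd) = cd + X from (add_sub_cancel cd _).symm]
        push_cast
        module
    rw [← D.sig_cl, hcdd, ZMod.natCast_self, zero_smul, add_zero]
  obtain ⟨i1, k1, j1, l1, -, hcl1⟩ := D.decomp ⟨g' ^ p, hgpN⟩
  obtain ⟨r1, s1, hG⟩ : ∃ r1 s1 : ZMod p, D.cl ⟨g' ^ p, hgpN⟩ = r1 • X + s1 • cd := by
    refine ⟨(i1 : ZMod p) * r⁻¹, (j1 : ZMod p) - (i1 : ZMod p) * r⁻¹ * s0, ?_⟩
    rw [hcl1, hXc, ← hcu, ← hcd]
    match_scalars <;> field_simp <;> ring
  set qG : N := (x1N ^ r1.val * dd ^ s1.val)⁻¹ * ⟨g' ^ p, hgpN⟩ with hqG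
  have hqGc : D.cl qG = 0 := by
    rw [hqG, D.cl_mul, D.cl_inv, D.cl_mul, D.cl_pow, D.cl_pow, hclx1, ← hcd, ZMod.natCast_zmod_val,
      ZMod.natCast_zmod_val, hG, neg_add_cancel]
  have hGe : g' ^ p = x1 ^ r1.val * ed ^ s1.val * (qG : P) := by
    rw [hqG, Subgroup.coe_mul, InvMemClass.coe_inv, Subgroup.coe_mul, SubmonoidClass.coe_pow,
      SubmonoidClass.coe_pow, mul_inv_cancel_left]
  have hs1 : s1 = 0 := by
    have h1 : Commute (ed ^ s1.val) x1 := by
      have h2 := (hg'x.pow_left p).mul_left (hzc qG hqGc x1).symm.inv_left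
      rw [hGe, mul_inv_cancel_right] at h2
      have h3 := ((Commute.refl x1).pow_left r1.val).inv_left.mul_left h2
      rwa [inv_mul_cancel_left] at h3
    have h2 := commutatorElement_eq_one_iff_mul_comm.mpr h1.eq
    rw [comm_pow_left' (by rw [hdx]; exact ((D.z_center ed).pow_right _).inv_right), hdx, inv_pow, inv_eq_one,
      ← pow_mul, ← pow_zero z] at h2
    have h3 := cast_eq_of_pow D.z_pow D.z_ne h2
    simp only [Nat.cast_mul, ZMod.natCast_zmod_val, Nat.cast_zero] at h3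
    exact (mul_eq_zero.mp h3).resolve_left hr
  have hci : (i : ZMod p) * b' = a := hiγ
  have hr1 : r1 = 0 := by
    have h1 : D.sig β (D.cl ⟨g' ^ p, hgpN⟩) = (i : ZMod p) • D.cl ⟨g' ^ p, hgpN⟩ := by
      rw [D.sig_cl, ← D.cl_pow]
      congr 1
      exact Subtype.ext (by rw [← hψ, SubmonoidClass.coe_pow]; exact hψp)
    rw [hG, hs1, zero_smul, add_zero, map_smul, hβX, smul_smul, smul_smul] at h1
    have h2 : (r1 * a - (i : ZMod p) * r1) • X = 0 := by rw [sub_smul, h1, sub_self]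
    have h3 : r1 * (a * (b' - 1)) = 0 := by
      linear_combination b' * ((smul_eq_zero.mp h2).resolve_right hXne) + r1 * hci
    exact (mul_eq_zero.mp h3).resolve_right (mul_ne_zero ha (sub_ne_zero.mpr hb1))
  rw [hs1, hr1, ZMod.val_zero, pow_zero, pow_zero, one_mul, one_mul] at hGe
  obtain ⟨k2, l2, hkl⟩ := D.cl_eq_zero.mp hqGc
  rw [hkl] at hGe
  have hgp1 : g' ^ p = 1 := by
    have h1 := hψp
    rw [hGe, map_mul, map_pow, map_pow, hψz, hψee, ((D.z_center ee).pow_right s).mul_pow, ← pow_mul, ← pow_mul,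
      ((D.z_center ee).symm.pow_pow k2 l2).mul_pow, ← pow_mul, ← pow_mul] at h1
    have h2 : z ^ ((a * b').val * k2 + s * l2) * ee ^ l2 = z ^ (k2 * i) * ee ^ (l2 * i) := by
      rw [← h1, pow_add, mul_assoc, ((D.z_center ee).symm.pow_pow (s * l2) l2).eq]
    have h3 : z ^ ((a * b').val * k2 + s * l2 + (p - 1) * (k2 * i)) * ee ^ (l2 + (p - 1) * (l2 * i)) = 1 := by
      have hze : ∀ x y : ℕ, Commute (z ^ x) (ee ^ y) := fun x y => (D.z_center ee).symm.pow_pow x y
      rw [pow_add z _ ((p - 1) * (k2 * i)), pow_add ee, mul_assoc, ← mul_assoc (z ^ ((p - 1) * (k2 * i))),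
        (hze ((p - 1) * (k2 * i)) l2).eq, mul_assoc, ← mul_assoc, h2, mul_assoc, ← mul_assoc (ee ^ (l2 * i)),
        ← (hze ((p - 1) * (k2 * i)) (l2 * i)).eq, mul_assoc, ← pow_add, ← mul_assoc, ← pow_add,
        show k2 * i + (p - 1) * (k2 * i) = p * (k2 * i) by
          have := hpf.out.one_lt; rw [Nat.sub_mul, one_mul, Nat.add_sub_cancel' (Nat.le_mul_of_pos_left _ (by omega))],
        show l2 * i + (p - 1) * (l2 * i) = p * (l2 * i) by
          have := hpf.out.one_lt; rw [Nat.sub_mul, one_mul, Nat.add_sub_cancel' (Nat.le_mul_of_pos_left _ (by omega))],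
        pow_mul z p, pow_mul ee p, D.z_pow, D.exp ee D.e_mem, one_pow, one_pow, one_mul]
    obtain ⟨h4, h5⟩ := D.ee_indep h3
    simp only [Nat.cast_add, Nat.cast_mul, ZMod.natCast_zmod_val, Nat.cast_sub hpf.out.one_lt.le, ZMod.natCast_self,
      Nat.cast_one, zero_sub] at h4 h5
    have h6 : (l2 : ZMod p) * (b' - a) = 0 := by linear_combination b' * h5 + (l2 : ZMod p) * hci
    have h7 : (l2 : ZMod p) = 0 := (mul_eq_zero.mp h6).resolve_right (sub_ne_zero.mpr hab.symm)
    have h8 : (k2 : ZMod p) * (a * (b' ^ 2 - 1)) = 0 := by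
      linear_combination b' * h4 + (k2 : ZMod p) * hci - b' * (s : ZMod p) * h7
    have h9 : (k2 : ZMod p) = 0 := (mul_eq_zero.mp h8).resolve_right (mul_ne_zero ha (sub_ne_zero.mpr hb2))
    rw [hGe, show z ^ k2 = z ^ 0 from pow_eq_of_cast D.z_pow (by rw [h9, Nat.cast_zero]),
      show ee ^ l2 = ee ^ 0 from pow_eq_of_cast (D.exp ee D.e_mem) (by rw [h7, Nat.cast_zero]),
      pow_zero, pow_zero, one_mul]
  -- an elementary abelian subgroup of order `p ^ 4`
  set S1 : Subgroup P := closure {z, ee}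
  set S2 : Subgroup P := closure {z, ee, x1}
  set S3 : Subgroup P := closure {z, ee, x1, g'}
  have hex : Commute ee x1 := (hzc ⟨ee, h.le_N D.e_mem⟩ D.cl_e x1).symm
  have heg : Commute ee g' := (hzc ⟨ee, h.le_N D.e_mem⟩ D.cl_e g').symm
  have hcS : ∀ x ∈ ({z, ee, x1, g'} : Set P), ∀ y ∈ ({z, ee, x1, g'} : Set P), x * y = y * x := by
    have z1 : ∀ y, z * y = y * z := fun y => (D.z_center y).symm.eq
    rintro x (rfl | rfl | rfl | rfl) y (rfl | rfl | rfl | rfl)
    all_goals first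
      | rfl
      | exact z1 _
      | exact (z1 _).symm
      | exact hex.eq
      | exact hex.eq.symm
      | exact heg.eq
      | exact heg.eq.symm
      | exact hg'x.eq
      | exact hg'x.eq.symm
  have heS : ∀ x ∈ ({z, ee, x1, g'} : Set P), x ^ p = 1 := by
    rintro x (rfl | rfl | rfl | rfl)
    exacts [D.z_pow, D.exp _ D.e_mem, hx1p, hgp1]
  have habS : ∀ x ∈ S3, ∀ y ∈ S3, x * y = y * x := by
    intro x hx y hy
    have g1 : S3 ≤ centralizer (centralizer ({z, ee, x1, g'} : Set P) : Set P) :=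
      closure_le_centralizer_centralizer _
    have g2 : S3 ≤ centralizer ({z, ee, x1, g'} : Set P) :=
      (closure_le _).mpr fun x hx => mem_centralizer_iff.mpr fun x' hx' => hcS x' hx' x hx
    exact (mem_centralizer_iff.mp (g1 hx) y (g2 hy)).symm
  have h4 := h.card_le habS (exp_closure hcS heS)
  have hc1' : p ^ 1 ≤ Nat.card (zpowers z) := by rw [Nat.card_zpowers, orderOf_eq_prime D.z_pow D.z_ne, pow_one]
  have hl1 : zpowers z < S1 := by
    refine SetLike.lt_iff_le_and_exists.mpr ⟨zpowers_le.mpr (subset_closure (by simp)), ee,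
      subset_closure (by simp), fun e => ?_⟩
    obtain ⟨k, hk⟩ := mem_powers_iff_mem_zpowers.mpr e
    have hk' : z ^ k = ee := hk
    have h9 : z ^ k * ee ^ (p - 1) = 1 := by
      rw [hk', ← pow_succ', show p - 1 + 1 = p by have := hpf.out.two_le; omega, D.exp ee D.e_mem]
    have h10 := (D.ee_indep h9).2
    rw [Nat.cast_sub hpf.out.one_lt.le, ZMod.natCast_self, Nat.cast_one, zero_sub] at h10
    exact neg_ne_zero.mpr one_ne_zero h10
  have hl2 : S1 < S2 := by
    refine SetLike.lt_iff_le_and_exists.mpr ⟨Subgroup.closure_mono (by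
      intro x hx; rcases hx with rfl | rfl <;> simp), x1, subset_closure (by simp), fun e => ?_⟩
    have hS1 : S1 ≤ centralizer ({ed} : Set P) := (closure_le _).mpr fun x hx => by
      refine mem_centralizer_singleton_iff.mpr ?_
      rcases hx with rfl | rfl
      · exact (D.z_center ed).symm.eq
      · exact (D.e_central ed hdN).symm.eq
    have h9 : ⁅x1, ed⁆ = 1 :=
      commutatorElement_eq_one_iff_mul_comm.mpr (mem_centralizer_singleton_iff.mp (hS1 e))
    rw [hc1, ← pow_zero z] at h9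
    have h10 := cast_eq_of_pow D.z_pow D.z_ne h9
    rw [ZMod.natCast_zmod_val, Nat.cast_zero] at h10
    exact hr h10
  have hl3 : S2 < S3 := by
    refine SetLike.lt_iff_le_and_exists.mpr ⟨Subgroup.closure_mono (by
      intro x hx; rcases hx with rfl | rfl | rfl <;> simp), g', subset_closure (by simp), fun e => ?_⟩
    refine hg'N ((closure_le _).mpr (fun x hx => ?_) e)
    rcases hx with rfl | rfl | rfl
    exacts [h.le_N D.z_mem, h.le_N D.e_mem, x1N.2]
  have h5 := pow_card_mul_le h.pg hl3 (pow_card_mul_le h.pg hl2 (pow_card_mul_le h.pg hl1 hc1'))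
  exact absurd (h5.trans h4) (not_le.mpr (Nat.pow_lt_pow_right hpf.out.one_lt (by norm_num)))

end Frattini

/-- The configuration has an invariant subgroup in the Frattini subgroup. -/
theorem not_irr (h : Hyp p E N A B) : ¬ Irr E N A B := by
  intro hK
  haveI := h.fact
  haveI := h.factN
  obtain ⟨u, hu, hu'⟩ := h.exists_not_mem
  obtain ⟨g, hg⟩ : ∃ g, g ∉ N := by
    by_contra hh
    push Not at hh
    exact h.ltN (eq_top_iff.mpr fun x _ => hh x)
  rcases h.regular_or_frame hu hu' with hreg | ⟨c, d, φ, ψ, b, O, hker, -⟩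
  · exact h.false_of_regular hK hu hu' hg hreg
  · obtain ⟨z, ee, ed, D⟩ := h.exists_data hu hu' O (h.phi_eq_bot hK hu hu' hg O hker)
    exact D.false

end Hyp

end CfsgLib.RankThree
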