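import Mathlib.LinearAlgebra.FreeModule.Finite.Matrix
import Mathlib.LinearAlgebra.Dimension.Constructions
import Mathlib.LinearAlgebra.Dual.Lemmas
import Mathlib.Algebra.CharP.Lemmas
import Mathlib.FieldTheory.Finite.Basic
import Mathlib.Tactic.Module
import Mathlib.Tactic.LinearCombination

/-!
Transvections of a small module over the field with `p` elements: opposite pairs, the elements they
generate, and elementary facts about unipotent maps.
-/

set_option autoImplicit false
set_option linter.unusedSectionVars false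
set_option linter.style.haveILetI false

namespace CfsgLib.RankThree

variable {p : ℕ} {V : Type*} [AddCommGroup V] [Module (ZMod p) V]

/-- The map `v ↦ v + φ v • c`. -/
def tv (c : V) (φ : V →ₗ[ZMod p] ZMod p) : Module.End (ZMod p) V := 1 + φ.smulRight c

theorem tv_apply (c : V) (φ : V →ₗ[ZMod p] ZMod p) (v : V) : tv c φ v = v + φ v • c := rfl

theorem tv_smul (c : V) (φ : V →ₗ[ZMod p] ZMod p) (k : ZMod p) : tv (k • c) φ = tv c (k • φ) := by
  refine LinearMap.ext fun v => ?_
  rw [tv_apply, tv_apply, LinearMap.smul_apply, smul_eq_mul, smul_smul, mul_comm]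

theorem tv_mul_of {c c' : V} {φ φ' : V →ₗ[ZMod p] ZMod p} (h : φ c' = 0) :
    tv c φ * tv c' φ' = 1 + φ.smulRight c + φ'.smulRight c' := by
  refine LinearMap.ext fun v => ?_
  rw [Module.End.mul_apply, tv_apply, tv_apply, map_add, map_smul, h, smul_zero, add_zero]
  simp only [LinearMap.add_apply, Module.End.one_apply, LinearMap.smulRight_apply]
  abel

theorem tv_commute {c c' : V} {φ φ' : V →ₗ[ZMod p] ZMod p} (h : φ c' = 0) (h' : φ' c = 0) :
    tv c φ * tv c' φ' = tv c' φ' * tv c φ := by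
  rw [tv_mul_of h, tv_mul_of h']
  abel

theorem tv_mul_same {c : V} {φ χ : V →ₗ[ZMod p] ZMod p} (h : φ c = 0) :
    tv c φ * tv c χ = tv c (φ + χ) := by
  rw [tv_mul_of h]
  refine LinearMap.ext fun v => ?_
  simp only [LinearMap.add_apply, Module.End.one_apply, LinearMap.smulRight_apply, tv_apply]
  module

theorem tv_mul_axis {c c' : V} {φ : V →ₗ[ZMod p] ZMod p} (h' : φ c' = 0) :
    tv c φ * tv c' φ = tv (c + c') φ := by
  rw [tv_mul_of h']
  refine LinearMap.ext fun v => ?_
  simp only [LinearMap.add_apply, Module.End.one_apply, LinearMap.smulRight_apply, tv_apply]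
  module

theorem tv_zero (c : V) : tv c (0 : V →ₗ[ZMod p] ZMod p) = 1 := by
  refine LinearMap.ext fun v => ?_
  simp [tv_apply]

theorem tv_pow {c : V} {φ : V →ₗ[ZMod p] ZMod p} (h : φ c = 0) (k : ℕ) :
    tv c φ ^ k = tv c ((k : ZMod p) • φ) := by
  induction k with
  | zero => rw [pow_zero, Nat.cast_zero, zero_smul, tv_zero]
  | succ k ih =>
    rw [pow_succ, ih, tv_mul_same (by rw [LinearMap.smul_apply, h, smul_zero])]
    push_cast
    rw [add_smul, one_smul]

/-- A transvection determines its centre and its functional up to a scalar. -/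
theorem tv_unique [Fact p.Prime] {c c' : V} {φ φ' : V →ₗ[ZMod p] ZMod p} (hc : c ≠ 0) (hφ : φ ≠ 0)
    (h : tv c φ = tv c' φ') : ∃ k : ZMod p, k ≠ 0 ∧ c = k • c' ∧ φ' = k • φ := by
  obtain ⟨v, hv⟩ : ∃ v, φ v ≠ 0 := by
    by_contra hh
    push Not at hh
    exact hφ (LinearMap.ext hh)
  have key : ∀ u, φ u • c = φ' u • c' := fun u => by
    have := LinearMap.congr_fun h u
    rwa [tv_apply, tv_apply, add_right_inj] at this
  have hk : (φ v)⁻¹ * φ' v ≠ 0 := by
    refine mul_ne_zero (inv_ne_zero hv) fun h0 => ?_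
    have h1 := key v
    rw [h0, zero_smul] at h1
    exact hc (by rcases smul_eq_zero.mp h1 with h2 | h2; exacts [absurd h2 hv, h2])
  have hcc : c = ((φ v)⁻¹ * φ' v) • c' := by
    rw [mul_smul, ← key v, inv_smul_smul₀ hv]
  refine ⟨_, hk, hcc, LinearMap.ext fun u => ?_⟩
  have h1 := key u
  rw [hcc, smul_smul] at h1
  have hc' : c' ≠ 0 := fun h0 => hc (by rw [hcc, h0, smul_zero])
  rw [LinearMap.smul_apply, smul_eq_mul]
  by_contra hne
  have h2 : (φ u * ((φ v)⁻¹ * φ' v) - φ' u) • c' = 0 := by rw [sub_smul, h1, sub_self]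
  rcases smul_eq_zero.mp h2 with h3 | h3
  · exact hne (by linear_combination (-1 : ZMod p) * h3)
  · exact hc' h3

/-- Dual vectors for a plane. -/
structure Pair (c d : V) (φ ψ : V →ₗ[ZMod p] ZMod p) : Prop where
  fc : φ c = 0
  fd : φ d = 1
  gc : ψ c = 1
  gd : ψ d = 0

/-- The map with the given matrix on the plane, fixing the common kernel of the functionals. -/
def mat (c d : V) (φ ψ : V →ₗ[ZMod p] ZMod p) (a b e f : ZMod p) : Module.End (ZMod p) V :=
  1 + ψ.smulRight ((a - 1) • c + e • d) + φ.smulRight (b • c + (f - 1) • d)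

theorem mat_apply (c d : V) (φ ψ : V →ₗ[ZMod p] ZMod p) (a b e f : ZMod p) (v : V) :
    mat c d φ ψ a b e f v = v + ψ v • ((a - 1) • c + e • d) + φ v • (b • c + (f - 1) • d) := rfl

variable {c d : V} {φ ψ : V →ₗ[ZMod p] ZMod p}

theorem Pair.mat_c (P : Pair c d φ ψ) (a b e f : ZMod p) : mat c d φ ψ a b e f c = a • c + e • d := by
  rw [mat_apply, P.fc, P.gc]
  module

theorem Pair.mat_d (P : Pair c d φ ψ) (a b e f : ZMod p) : mat c d φ ψ a b e f d = b • c + f • d := by
  rw [mat_apply, P.fd, P.gd]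
  module

theorem mat_fix (a b e f : ZMod p) {v : V} (h1 : φ v = 0) (h2 : ψ v = 0) : mat c d φ ψ a b e f v = v := by
  rw [mat_apply, h1, h2]
  module

theorem Pair.phi_mat (P : Pair c d φ ψ) (a b e f : ZMod p) (v : V) :
    φ (mat c d φ ψ a b e f v) = e * ψ v + f * φ v := by
  simp only [mat_apply, map_add, map_smul, P.fc, P.fd, smul_eq_mul]
  ring

theorem Pair.psi_mat (P : Pair c d φ ψ) (a b e f : ZMod p) (v : V) :
    ψ (mat c d φ ψ a b e f v) = a * ψ v + b * φ v := by
  simp only [mat_apply, map_add, map_smul, P.gc, P.gd, smul_eq_mul]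
  ring

theorem Pair.mat_mul (P : Pair c d φ ψ) (a b e f a' b' e' f' : ZMod p) :
    mat c d φ ψ a b e f * mat c d φ ψ a' b' e' f' =
      mat c d φ ψ (a * a' + b * e') (a * b' + b * f') (e * a' + f * e') (e * b' + f * f') := by
  refine LinearMap.ext fun v => ?_
  rw [Module.End.mul_apply, mat_apply, P.phi_mat, P.psi_mat, mat_apply, mat_apply]
  module

theorem mat_one : mat c d φ ψ 1 0 0 1 = 1 := by
  refine LinearMap.ext fun v => ?_
  rw [mat_apply, Module.End.one_apply]
  module

theorem mat_up (k : ZMod p) : mat c d φ ψ 1 k 0 1 = tv c (k • φ) := by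
  refine LinearMap.ext fun v => ?_
  rw [mat_apply, tv_apply, LinearMap.smul_apply, smul_eq_mul]
  module

theorem mat_lo (k : ZMod p) : mat c d φ ψ 1 0 k 1 = tv d (k • ψ) := by
  refine LinearMap.ext fun v => ?_
  rw [mat_apply, tv_apply, LinearMap.smul_apply, smul_eq_mul]
  module

section Generated

variable [Fact p.Prime] {G : Type*} [Group G] {ρ : G →* Module.End (ZMod p) V}

/-- An opposite pair of elements of a represented group. -/
structure Opp (ρ : G →* Module.End (ZMod p) V) (c d : V) (φ ψ : V →ₗ[ZMod p] ZMod p) (a b : G) : Prop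
    extends Pair c d φ ψ where
  ha : ρ a = mat c d φ ψ 1 1 0 1
  hb : ρ b = mat c d φ ψ 1 0 1 1

variable {a b : G}

theorem Pair.up_pow (P : Pair c d φ ψ) (k : ℕ) : mat c d φ ψ 1 1 0 1 ^ k = mat c d φ ψ 1 (k : ZMod p) 0 1 := by
  rw [mat_up, one_smul, tv_pow P.fc, ← mat_up]

theorem Pair.lo_pow (P : Pair c d φ ψ) (k : ℕ) : mat c d φ ψ 1 0 1 1 ^ k = mat c d φ ψ 1 0 (k : ZMod p) 1 := by
  rw [mat_lo, one_smul, tv_pow P.gd, ← mat_lo]

/-- The upper element. -/
def upE (a : G) (t : ZMod p) : G := a ^ t.val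

/-- The antidiagonal element. -/
def wE (a b : G) (t : ZMod p) : G := upE a t * upE b (-t⁻¹) * upE a t

/-- The diagonal element. -/
def torE (a b : G) (t : ZMod p) : G := wE a b t * wE a b (-1 : ZMod p)

theorem Opp.upE_eq (h : Opp ρ c d φ ψ a b) (t : ZMod p) : ρ (upE a t) = mat c d φ ψ 1 t 0 1 := by
  rw [upE, map_pow, h.ha, h.up_pow, ZMod.natCast_zmod_val]

theorem Opp.loE_eq (h : Opp ρ c d φ ψ a b) (t : ZMod p) : ρ (upE b t) = mat c d φ ψ 1 0 t 1 := by
  rw [upE, map_pow, h.hb, h.lo_pow, ZMod.natCast_zmod_val]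

theorem Opp.wE_eq (h : Opp ρ c d φ ψ a b) {t : ZMod p} (ht : t ≠ 0) :
    ρ (wE a b t) = mat c d φ ψ 0 t (-t⁻¹) 0 := by
  rw [wE, map_mul, map_mul, h.upE_eq, h.loE_eq, h.mat_mul, h.mat_mul]
  congr 1 <;> field_simp <;> ring

theorem Opp.torE_eq (h : Opp ρ c d φ ψ a b) {t : ZMod p} (ht : t ≠ 0) :
    ρ (torE a b t) = mat c d φ ψ t 0 0 t⁻¹ := by
  rw [torE, map_mul, h.wE_eq ht, h.wE_eq (neg_ne_zero.mpr one_ne_zero), h.mat_mul]
  congr 1 <;> simp

theorem upE_mem {K : Subgroup G} (ha : a ∈ K) (t : ZMod p) : upE a t ∈ K := pow_mem ha _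

theorem wE_mem {K : Subgroup G} (ha : a ∈ K) (hb : b ∈ K) (t : ZMod p) : wE a b t ∈ K :=
  mul_mem (mul_mem (upE_mem ha t) (upE_mem hb _)) (upE_mem ha t)

theorem torE_mem {K : Subgroup G} (ha : a ∈ K) (hb : b ∈ K) (t : ZMod p) : torE a b t ∈ K :=
  mul_mem (wE_mem ha hb t) (wE_mem ha hb _)

/-- Every vector of the plane is the image of the first one, up to the group generated by the pair. -/
theorem Opp.exists_smul (h : Opp ρ c d φ ψ a b) (r s : ZMod p) (hrs : r ≠ 0 ∨ s ≠ 0) :
    ∃ (g : G) (b' f : ZMod p), ρ g = mat c d φ ψ r b' s f ∧ ρ g⁻¹ = mat c d φ ψ f (-b') (-s) r := by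
  have hinv : ∀ (g : G) (b' f : ZMod p), r * f - b' * s = 1 → ρ g = mat c d φ ψ r b' s f →
      ρ g⁻¹ = mat c d φ ψ f (-b') (-s) r := by
    intro g b' f hdet hg
    have h1 : mat c d φ ψ r b' s f * mat c d φ ψ f (-b') (-s) r = 1 := by
      rw [h.mat_mul, ← mat_one (c := c) (d := d) (φ := φ) (ψ := ψ)]
      congr 1
      · linear_combination hdet
      · ring
      · ring
      · linear_combination hdet
    calc ρ g⁻¹ = ρ g⁻¹ * (ρ g * mat c d φ ψ f (-b') (-s) r) := by rw [hg, h1, mul_one]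
      _ = mat c d φ ψ f (-b') (-s) r := by
        rw [← mul_assoc, ← map_mul, inv_mul_cancel, map_one, one_mul]
  rcases eq_or_ne r 0 with rfl | hr
  · have hs : s ≠ 0 := hrs.resolve_left fun hh => hh rfl
    have he : ρ (wE a b (-s⁻¹)) = mat c d φ ψ 0 (-s⁻¹) s 0 := by
      rw [h.wE_eq (neg_ne_zero.mpr (inv_ne_zero hs)), inv_neg, inv_inv, neg_neg]
    refine ⟨_, _, _, he, hinv _ _ _ ?_ he⟩
    field_simp
    ring
  · have he : ρ (upE b (s / r) * torE a b r) = mat c d φ ψ r 0 s r⁻¹ := by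
      rw [map_mul, h.loE_eq, h.torE_eq hr, h.mat_mul]
      congr 1 <;> field_simp <;> ring
    refine ⟨_, _, _, he, hinv _ _ _ ?_ he⟩
    field_simp
    ring

end Generated

section Unipotent

variable [Fact p.Prime]

/-- A `p`-element of endomorphisms of a nontrivial module is unipotent. -/
theorem isNilpotent_sub_one [Nontrivial V] {f : Module.End (ZMod p) V} {k : ℕ} (h : f ^ p ^ k = 1) :
    IsNilpotent (f - 1) := by
  haveI : CharP (Module.End (ZMod p) V) p :=
    charP_of_injective_algebraMap (algebraMap (ZMod p) (Module.End (ZMod p) V)).injective p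
  exact ⟨p ^ k, by rw [sub_pow_char_pow_of_commute p k (Commute.one_right f), h, one_pow, sub_self]⟩

theorem sub_one_pow_finrank [Nontrivial V] [Module.Finite (ZMod p) V] {f : Module.End (ZMod p) V} {k : ℕ}
    (h : f ^ p ^ k = 1) : (f - 1) ^ Module.finrank (ZMod p) V = 0 :=
  LinearMap.ker_eq_top.mp (eq_top_iff.mpr (by
    obtain ⟨m, hm⟩ := isNilpotent_sub_one h
    have h1 := Module.End.ker_pow_le_ker_pow_finrank (f - 1) m
    rwa [hm, LinearMap.ker_zero] at h1))

/-- A scalar fixed by a power of the field map. -/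
theorem eq_one_of_pow_eq_one {k : ZMod p} {j : ℕ} (h : k ^ p ^ j = 1) : k = 1 := by
  rwa [ZMod.pow_card_pow] at h

/-- A nilpotent map kills a vector spanning an invariant line. -/
theorem apply_eq_zero_of_nilpotent {n : Module.End (ZMod p) V} (hn : IsNilpotent n) {v : V} {k : ZMod p}
    (h : n v = k • v) : n v = 0 := by
  obtain ⟨m, hm⟩ := hn
  have key : ∀ i : ℕ, (n ^ i) v = k ^ i • v := by
    intro i
    induction i with
    | zero => simp
    | succ i ih => rw [pow_succ', Module.End.mul_apply, ih, map_smul, h, smul_smul, pow_succ]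
  have h0 := key m
  rw [hm, LinearMap.zero_apply] at h0
  rcases smul_eq_zero.mp h0.symm with h1 | h1
  · rw [h, eq_zero_of_pow_eq_zero h1, zero_smul]
  · rw [h1, map_zero]

/-- The common kernel of the functionals of a pair in dimension three is a line. -/
theorem Pair.kernel_line [Module.Finite (ZMod p) V] (P : Pair c d φ ψ) (hV : Module.finrank (ZMod p) V = 3) :
    ∃ e : V, e ≠ 0 ∧ φ e = 0 ∧ ψ e = 0 ∧
      ∀ v, φ v = 0 → ψ v = 0 → ∃ k : ZMod p, v = k • e := by
  let L : V →ₗ[ZMod p] ZMod p × ZMod p := φ.prod ψ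
  have hsurj : LinearMap.range L = ⊤ := by
    refine LinearMap.range_eq_top.mpr fun x => ⟨x.1 • d + x.2 • c, ?_⟩
    show (φ (x.1 • d + x.2 • c), ψ (x.1 • d + x.2 • c)) = x
    simp [P.fc, P.fd, P.gc, P.gd]
  have hk : Module.finrank (ZMod p) (LinearMap.ker L) = 1 := by
    have h := LinearMap.finrank_range_add_finrank_ker L
    rw [hsurj, finrank_top, Module.finrank_prod, Module.finrank_self, hV] at h
    omega
  obtain ⟨⟨e, he⟩, he0, hspan⟩ := finrank_eq_one_iff'.mp hk
  have he' : φ e = 0 ∧ ψ e = 0 := by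
    have : (φ e, ψ e) = (0 : ZMod p × ZMod p) := he
    exact ⟨congrArg Prod.fst this, congrArg Prod.snd this⟩
  refine ⟨e, fun h => he0 (Subtype.ext h), he'.1, he'.2, fun v h1 h2 => ?_⟩
  obtain ⟨k, hk⟩ := hspan ⟨v, show (φ v, ψ v) = (0 : ZMod p × ZMod p) from Prod.ext h1 h2⟩
  exact ⟨k, (congrArg Subtype.val hk).symm⟩

/-- A map of square zero distance from one in dimension three is a transvection. -/
theorem exists_tv [Module.Finite (ZMod p) V] (hV : Module.finrank (ZMod p) V = 3)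
    {f : Module.End (ZMod p) V} (h1 : f ≠ 1) (h2 : (f - 1) ^ 2 = 0) :
    ∃ (c : V) (φ : V →ₗ[ZMod p] ZMod p), c ≠ 0 ∧ φ ≠ 0 ∧ φ c = 0 ∧ f = tv c φ := by
  set n := f - 1 with hn
  have hle : LinearMap.range n ≤ LinearMap.ker n := by
    rintro _ ⟨v, rfl⟩
    rw [LinearMap.mem_ker, ← Module.End.mul_apply, ← pow_two, h2, LinearMap.zero_apply]
  have hr : Module.finrank (ZMod p) (LinearMap.range n) = 1 := by
    have h := LinearMap.finrank_range_add_finrank_ker n
    have h' := Submodule.finrank_mono hle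
    have h0 : Module.finrank (ZMod p) (LinearMap.range n) ≠ 0 := fun h0 => h1 (by
      rw [Submodule.finrank_eq_zero, LinearMap.range_eq_bot] at h0
      exact sub_eq_zero.mp h0)
    omega
  obtain ⟨⟨c, hcm⟩, hc0, hspan⟩ := finrank_eq_one_iff'.mp hr
  have hc : c ≠ 0 := fun h => hc0 (Subtype.ext h)
  obtain ⟨χ, hχ⟩ := Module.Projective.exists_dual_ne_zero (ZMod p) hc
  refine ⟨c, (χ c)⁻¹ • χ.comp n, hc, ?_, ?_, ?_⟩
  · intro h0
    obtain ⟨v, hv⟩ := hcm
    have := LinearMap.congr_fun h0 v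
    simp [hv, hχ] at this
  · obtain ⟨v, hv⟩ := hcm
    have h3 : n c = 0 := by rw [← hv, ← Module.End.mul_apply, ← pow_two, h2, LinearMap.zero_apply]
    rw [LinearMap.smul_apply, LinearMap.comp_apply, h3, map_zero, smul_zero]
  · refine LinearMap.ext fun v => ?_
    obtain ⟨k, hk⟩ := hspan ⟨n v, LinearMap.mem_range_self n v⟩
    have hk' : k • c = n v := congrArg Subtype.val hk
    rw [tv_apply, LinearMap.smul_apply, LinearMap.comp_apply, ← hk', map_smul, smul_eq_mul, smul_eq_mul,
      show (χ c)⁻¹ * (k * χ c) = k by field_simp, hk', hn, LinearMap.sub_apply, Module.End.one_apply]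
    abel

/-- The centraliser of a regular nilpotent map in dimension three. -/
theorem exists_poly [Module.Finite (ZMod p) V] (hV : Module.finrank (ZMod p) V = 3)
    {n f : Module.End (ZMod p) V} (h3 : n ^ 3 = 0) (h2 : n ^ 2 ≠ 0) (hf : f * n = n * f) :
    ∃ a0 a1 a2 : ZMod p, f = a0 • 1 + a1 • n + a2 • n ^ 2 := by
  obtain ⟨v, hv⟩ : ∃ v, (n ^ 2) v ≠ 0 := by
    by_contra hh
    push Not at hh
    exact h2 (LinearMap.ext hh)
  have hn2 : ∀ w, n (n w) = (n ^ 2) w := fun w => by rw [pow_two]; rfl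
  have hn3 : ∀ w, n ((n ^ 2) w) = 0 := fun w => by
    rw [← Module.End.mul_apply, ← pow_succ', h3, LinearMap.zero_apply]
  let L : (ZMod p × ZMod p × ZMod p) →ₗ[ZMod p] V :=
    (LinearMap.toSpanSingleton (ZMod p) V v).coprod
      ((LinearMap.toSpanSingleton (ZMod p) V (n v)).coprod (LinearMap.toSpanSingleton (ZMod p) V ((n ^ 2) v)))
  have hL : ∀ x, L x = x.1 • v + (x.2.1 • n v + x.2.2 • (n ^ 2) v) := fun x => rfl
  have hn4 : ∀ w, (n ^ 2) ((n ^ 2) w) = 0 := fun w => by rw [← hn2, hn3, map_zero]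
  have hinj : Function.Injective L := by
    rw [injective_iff_map_eq_zero]
    rintro ⟨r, s, t⟩ hx
    rw [hL] at hx
    have e1 : r = 0 := by
      have h := congrArg (n ^ 2 : Module.End (ZMod p) V) hx
      simp only [map_add, map_smul, map_zero, hn4, smul_zero, add_zero] at h
      rw [← hn2 (n v), hn2 v, hn3, smul_zero, add_zero] at h
      exact (smul_eq_zero.mp h).resolve_right hv
    subst e1
    simp only [zero_smul, zero_add] at hx
    have e2 : s = 0 := by
      have h := congrArg n hx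
      simp only [map_add, map_smul, map_zero, hn2, hn3, smul_zero, add_zero] at h
      exact (smul_eq_zero.mp h).resolve_right hv
    subst e2
    simp only [zero_smul, zero_add] at hx
    rw [(smul_eq_zero.mp hx).resolve_right hv]
    rfl
  have hsurj : Function.Surjective L :=
    (LinearMap.injective_iff_surjective_of_finrank_eq_finrank
      (by rw [Module.finrank_prod, Module.finrank_prod, Module.finrank_self, hV])).mp hinj
  obtain ⟨⟨a0, a1, a2⟩, ha⟩ := hsurj (f v)
  rw [hL] at ha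
  refine ⟨a0, a1, a2, LinearMap.ext fun w => ?_⟩
  obtain ⟨⟨r, s, t⟩, rfl⟩ := hsurj w
  have c1 : ∀ u, f (n u) = n (f u) := fun u => by
    rw [← Module.End.mul_apply, hf, Module.End.mul_apply]
  have c2 : ∀ u, f ((n ^ 2) u) = (n ^ 2) (f u) := fun u => by rw [← hn2, c1, c1, hn2]
  simp only [hL, map_add, map_smul, c1, c2, LinearMap.add_apply, LinearMap.smul_apply,
    Module.End.one_apply, ← ha, hn2, hn3, hn4, ← hn2 (n v)]
  module

/-- The `p`-th power of a polynomial in a nilpotent map. -/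
theorem pow_poly [Nontrivial V] (hp : 3 ≤ p) {n : Module.End (ZMod p) V} (h3 : n ^ 3 = 0) (a0 a1 a2 : ZMod p)
    {k : ℕ} (hk : 1 ≤ k) :
    (a0 • 1 + a1 • n + a2 • n ^ 2 : Module.End (ZMod p) V) ^ p ^ k = a0 • 1 := by
  haveI : CharP (Module.End (ZMod p) V) p :=
    charP_of_injective_algebraMap (algebraMap (ZMod p) (Module.End (ZMod p) V)).injective p
  have hc : Commute (a0 • (1 : Module.End (ZMod p) V)) (n * (a1 • 1 + a2 • n)) :=
    (Commute.one_left _).smul_left a0
  have hc' : Commute n (a1 • (1 : Module.End (ZMod p) V) + a2 • n) :=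
    Commute.add_right ((Commute.one_right n).smul_right a1) ((Commute.refl n).smul_right a2)
  have hle : 3 ≤ p ^ k := hp.trans (Nat.le_self_pow (by omega) p)
  have e : (a0 • 1 + a1 • n + a2 • n ^ 2 : Module.End (ZMod p) V) = a0 • 1 + n * (a1 • 1 + a2 • n) := by
    rw [mul_add, mul_smul_comm, mul_one, mul_smul_comm, pow_two, add_assoc]
  rw [e, add_pow_char_pow_of_commute p k hc, hc'.mul_pow, pow_eq_zero_of_le hle h3, zero_mul,
    add_zero, smul_pow, one_pow, ZMod.pow_card_pow]

end Unipotent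

end CfsgLib.RankThree
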