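import Cfsg.Agent.Lib.Fusion.RankThree.Opposite
import Cfsg.Agent.Lib.MaxClassEssential.Action
import Cfsg.Prelude.Def_CaseTheorems
import Cfsg.Agent.Lib.RankFrattini
import Mathlib.GroupTheory.Sylow

/-!
An abstract configuration for an essential subgroup with three generators that is not normal:
`E < N = N_P(E) < P`, with automorphism groups of `E` and `N` and their extension properties.
-/

set_option autoImplicit false
set_option linter.unusedSectionVars false
set_option linter.style.haveILetI false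

namespace CfsgLib.RankThree

open Subgroup
open MaxClassEssential (Vec vec lin)

/-- `α` is conjugation by `x`. -/
def Ind {P : Type*} [Group P] (E : Subgroup P) (x : P) (α : MulAut E) : Prop :=
  ∀ e : E, ((α e : E) : P) = x * e * x⁻¹

/-- The configuration. -/
structure Hyp (p : ℕ) {P : Type*} [Group P] (E N : Subgroup P) (A : Subgroup (MulAut E))
    (B : Subgroup (MulAut N)) : Prop where
  five : 5 ≤ p
  pg : IsPGroup p P
  rank : Cfsg.SectionalPRankLE p 3 P
  nrm : N.Normal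
  nE : normalizer (E : Set P) = N
  idx : E.relIndex N = p
  ltN : N ≠ ⊤
  d3 : (frattini E).index = p ^ 3
  cen : ∀ x ∈ N, (∀ e ∈ E, x * e = e * x) → x ∈ E
  conjA : ∀ x ∈ N, ∀ α, Ind E x α → α ∈ A
  sylA : ∀ R, R ≤ A → IsPGroup p R → ∃ α ∈ A, ∀ r ∈ R, ∃ x ∈ N, Ind E x (α * r * α⁻¹)
  core : ∀ R, R ≤ A → (∀ α ∈ A, ∀ r ∈ R, α * r * α⁻¹ ∈ R) → IsPGroup p R →
    ∀ r ∈ R, ∃ x ∈ E, Ind E x r
  extA : ∀ α ∈ A, (∀ x ∈ N, ∀ c, Ind E x c → ∃ x' ∈ N, Ind E x' (α * c * α⁻¹)) →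
    ∃ β ∈ B, ∀ (e : E) (he : (e : P) ∈ N), ((β ⟨e, he⟩ : N) : P) = α e
  conjB : ∀ x β, Ind N x β → β ∈ B
  sylB : ∀ R, R ≤ B → IsPGroup p R → ∃ β ∈ B, ∀ r ∈ R, ∃ x, Ind N x (β * r * β⁻¹)
  extB : ∀ β ∈ B, (∀ x c, Ind N x c → ∃ x', Ind N x' (β * c * β⁻¹)) →
    ∃ ψ : MulAut P, ∀ n : N, ψ n = β n

section Ind

variable {P : Type*} [Group P] {E : Subgroup P} {x y : P} {α γ : MulAut E}

theorem Ind.eq (h : Ind E x α) (h' : Ind E x γ) : α = γ :=
  MulEquiv.ext fun e => Subtype.ext ((h e).trans (h' e).symm)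

theorem Ind.mul (h : Ind E x α) (h' : Ind E y γ) : Ind E (x * y) (α * γ) := fun e => by
  rw [MulAut.mul_apply, h, h']
  group

theorem Ind.one : Ind E (1 : P) 1 := fun e => by simp

theorem Ind.inv (h : Ind E x α) : Ind E x⁻¹ α⁻¹ := fun e => by
  have h1 := h (α⁻¹ e)
  rw [MulAut.apply_inv_self] at h1
  rw [h1]
  group

theorem Ind.pow (h : Ind E x α) (k : ℕ) : Ind E (x ^ k) (α ^ k) := by
  induction k with
  | zero => rw [pow_zero, pow_zero]; exact Ind.one
  | succ k ih => rw [pow_succ, pow_succ]; exact ih.mul h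

theorem Ind.zpow (h : Ind E x α) (k : ℤ) : Ind E (x ^ k) (α ^ k) := by
  obtain ⟨n, rfl | rfl⟩ := Int.eq_nat_or_neg k
  · rw [zpow_natCast, zpow_natCast]; exact h.pow n
  · rw [zpow_neg, zpow_neg, zpow_natCast, zpow_natCast]; exact (h.pow n).inv

theorem ind_conj (e : E) : Ind E (e : P) (MulAut.conj e) := fun _ => rfl

end Ind

namespace Hyp

variable {p : ℕ} [hpf : Fact p.Prime] {P : Type*} [Group P] [Finite P] {E N : Subgroup P}
  {A : Subgroup (MulAut E)} {B : Subgroup (MulAut N)}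

theorem three_le (h : Hyp p E N A B) : 3 ≤ p := le_trans (by norm_num) h.five

theorem le_N (h : Hyp p E N A B) : E ≤ N := h.nE ▸ le_normalizer

theorem fact (h : Hyp p E N A B) : Fact (IsPGroup p E) := ⟨h.pg.to_subgroup E⟩

theorem factN (h : Hyp p E N A B) : Fact (IsPGroup p N) := ⟨h.pg.to_subgroup N⟩

theorem normal_E (h : Hyp p E N A B) {x e : P} (hx : x ∈ N) (he : e ∈ E) : x * e * x⁻¹ ∈ E :=
  (mem_normalizer_iff.mp (h.nE.ge hx) e).mp he

/-- Conjugation by an element of `N`, on `E`. -/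
def cE (h : Hyp p E N A B) (x : P) (hx : x ∈ N) : MulAut E :=
  E.normalizerMonoidHom ⟨x, h.nE.ge hx⟩

theorem ind_cE (h : Hyp p E N A B) {x : P} (hx : x ∈ N) : Ind E x (h.cE x hx) := fun _ => rfl

theorem cE_mem (h : Hyp p E N A B) {x : P} (hx : x ∈ N) : h.cE x hx ∈ A :=
  h.conjA x hx _ (h.ind_cE hx)

theorem cE_eq (h : Hyp p E N A B) {x : P} (hx : x ∈ N) {α : MulAut E} (hα : Ind E x α) :
    h.cE x hx = α :=
  (h.ind_cE hx).eq hα

theorem mem_of_ind (h : Hyp p E N A B) {x : P} (hx : x ∈ N) {e : E} (hi : Ind E x (MulAut.conj e)) :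
    x ∈ E := by
  have h1 : (e : P)⁻¹ * x ∈ E := by
    refine h.cen _ (N.mul_mem (N.inv_mem (h.le_N e.2)) hx) fun y hy => ?_
    have h2 : (e : P) * y * (e : P)⁻¹ = x * y * x⁻¹ := hi ⟨y, hy⟩
    calc (e : P)⁻¹ * x * y = (e : P)⁻¹ * (x * y * x⁻¹) * x := by group
      _ = y * ((e : P)⁻¹ * x) := by rw [← h2]; group
  simpa using E.mul_mem e.2 h1

/-- Elementary abelian subgroups have order at most `p ^ 3`. -/
theorem card_le (h : Hyp p E N A B) {U : Subgroup P} (hc : ∀ a ∈ U, ∀ b ∈ U, a * b = b * a)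
    (he : ∀ a ∈ U, a ^ p = 1) : Nat.card U ≤ p ^ 3 := by
  have h1 := h.rank U ⊥ ⊤ ⟨⟨fun a b => ?_⟩⟩ fun a _ => ?_
  · rwa [Subgroup.card_top, ← Nat.card_congr (QuotientGroup.quotientBot (G := U)).toEquiv.symm] at h1
  · obtain ⟨a', ha⟩ := QuotientGroup.mk_surjective (a : U ⧸ (⊥ : Subgroup U))
    obtain ⟨b', hb⟩ := QuotientGroup.mk_surjective (b : U ⧸ (⊥ : Subgroup U))
    refine Subtype.ext ?_
    rw [Subgroup.coe_mul, Subgroup.coe_mul, ← ha, ← hb, ← QuotientGroup.mk_mul, ← QuotientGroup.mk_mul]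
    exact congrArg _ (Subtype.ext (hc a' a'.2 b' b'.2))
  · obtain ⟨a', rfl⟩ := QuotientGroup.mk_surjective a
    rw [← QuotientGroup.mk_pow]
    exact congrArg _ (Subtype.ext (by rw [SubmonoidClass.coe_pow]; exact he a' a'.2)) |>.trans rfl

theorem pow_mem_E (h : Hyp p E N A B) {x : P} (hx : x ∈ N) : x ^ p ∈ E := by
  haveI : (E.subgroupOf N).Normal := ⟨fun n hn g => h.normal_E g.2 hn⟩
  have h1 := Subgroup.pow_index_mem (E.subgroupOf N) (⟨x, hx⟩ : N)
  rwa [show (E.subgroupOf N).index = p from h.idx] at h1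

theorem exists_not_mem (h : Hyp p E N A B) : ∃ u ∈ N, u ∉ E := by
  by_contra hh
  push Not at hh
  have h1 := h.idx
  rw [Subgroup.relIndex_eq_one.mpr hh] at h1
  exact hpf.out.one_lt.ne h1

theorem exists_pow (h : Hyp p E N A B) {u x : P} (hu : u ∈ N) (hu' : u ∉ E) (hx : x ∈ N) :
    ∃ i : ℕ, (u ^ i)⁻¹ * x ∈ E := by
  haveI : (E.subgroupOf N).Normal := ⟨fun n hn g => h.normal_E g.2 hn⟩
  set Q := N ⧸ E.subgroupOf N
  have hQ : Nat.card Q = p := h.idx
  have hu1 : (QuotientGroup.mk (⟨u, hu⟩ : N) : Q) ≠ 1 := fun hh =>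
    hu' (Subgroup.mem_subgroupOf.mp ((QuotientGroup.eq_one_iff (N := E.subgroupOf N) _).mp hh))
  obtain ⟨i, hi⟩ := mem_powers_iff_mem_zpowers.mpr
    (mem_zpowers_of_prime_card hQ (g' := QuotientGroup.mk (⟨x, hx⟩ : N)) hu1)
  refine ⟨i, ?_⟩
  have h2 : ((⟨u, hu⟩ : N) ^ i)⁻¹ * ⟨x, hx⟩ ∈ E.subgroupOf N :=
    (QuotientGroup.eq (s := E.subgroupOf N)).mp (by rw [QuotientGroup.mk_pow]; exact hi)
  simpa [Subgroup.mem_subgroupOf] using h2

/-! ### The action on the Frattini quotient -/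

section Frattini

variable [hfE : Fact (IsPGroup p E)]

theorem finrank_eq (h : Hyp p E N A B) : Module.finrank (ZMod p) (Vec p E) = 3 := by
  have h1 : Nat.card (Vec p E) = p ^ 3 := by
    rw [← h.d3, Subgroup.index_eq_card]
    exact Nat.card_congr Additive.toMul
  rw [Module.natCard_eq_pow_finrank (K := ZMod p), Nat.card_zmod] at h1
  exact Nat.pow_right_injective hpf.out.two_le h1

theorem finrank_pos (h : Hyp p E N A B) : Nontrivial (Vec p E) :=
  Module.nontrivial_of_finrank_eq_succ h.finrank_eq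

theorem lin_conj (e : E) : (lin (MulAut.conj e) : Module.End (ZMod p) (Vec p E)) = 1 :=
  MaxClassEssential.lin_inner e

theorem inner_of_lin (h : Hyp p E N A B) {α : MulAut E} (hα : α ∈ A)
    (hl : (lin α : Module.End (ZMod p) (Vec p E)) = 1) : ∃ e : E, α = MulAut.conj e := by
  obtain ⟨x, hx, hi⟩ := h.core (A ⊓ (lin : MulAut E →* Module.End (ZMod p) (Vec p E)).ker) inf_le_left
    (fun α hα r hr => ⟨A.mul_mem (A.mul_mem hα hr.1) (A.inv_mem hα), MonoidHom.mem_ker.mpr (by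
      rw [map_mul, map_mul, MonoidHom.mem_ker.mp hr.2, mul_one, ← map_mul, mul_inv_cancel, map_one])⟩)
    (MaxClassEssential.isPGroup_ker_lin.to_le inf_le_right) α ⟨hα, hl⟩
  exact ⟨⟨x, hx⟩, hi.eq (ind_conj ⟨x, hx⟩)⟩

theorem exists_inner (h : Hyp p E N A B) {α γ : MulAut E} (hα : α ∈ A) (hγ : γ ∈ A)
    (hl : (lin α : Module.End (ZMod p) (Vec p E)) = lin γ) : ∃ e : E, α = MulAut.conj e * γ := by
  obtain ⟨e, he⟩ := h.inner_of_lin (A.mul_mem hα (A.inv_mem hγ))
    (by rw [map_mul, hl, ← map_mul, mul_inv_cancel, map_one])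
  exact ⟨e, by rw [← he, inv_mul_cancel_right]⟩

/-- Automorphisms with the same image act the same way on central elements of `E`. -/
theorem apply_eq_of_lin (h : Hyp p E N A B) {α γ : MulAut E} (hα : α ∈ A) (hγ : γ ∈ A)
    (hl : (lin α : Module.End (ZMod p) (Vec p E)) = lin γ) {w : E} (hw : w ∈ center E) : α w = γ w := by
  obtain ⟨e, rfl⟩ := h.exists_inner hα hγ hl
  have hγw : γ w ∈ center E := by
    refine mem_center_iff.mpr fun y => ?_
    obtain ⟨y', rfl⟩ := γ.surjective y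
    rw [← map_mul, ← map_mul, mem_center_iff.mp hw y']
  rw [MulAut.mul_apply, MulAut.conj_apply, mem_center_iff.mp hγw e, mul_inv_cancel_right]

/-- An invariant set of automorphisms acting with exponent `p` on the quotient acts trivially. -/
theorem lin_eq_one_of_invariant (h : Hyp p E N A B) {R : Subgroup (MulAut E)} (hR : R ≤ A)
    (hinv : ∀ α ∈ A, ∀ r ∈ R, α * r * α⁻¹ ∈ R)
    (hexp : ∀ r ∈ R, (lin r : Module.End (ZMod p) (Vec p E)) ^ p = 1) {r : MulAut E} (hr : r ∈ R) :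
    (lin r : Module.End (ZMod p) (Vec p E)) = 1 := by
  have hp : IsPGroup p R := fun s => by
    have h1 : (s : MulAut E) ^ p ∈ (lin : MulAut E →* Module.End (ZMod p) (Vec p E)).ker := by
      rw [MonoidHom.mem_ker, map_pow]
      exact hexp s s.2
    obtain ⟨k, hk⟩ := MaxClassEssential.isPGroup_ker_lin ⟨_, h1⟩
    refine ⟨k + 1, Subtype.ext ?_⟩
    rw [SubmonoidClass.coe_pow, pow_succ', pow_mul]
    exact congrArg Subtype.val hk
  obtain ⟨x, hx, hi⟩ := h.core R hR hinv hp r hr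
  rw [hi.eq (ind_conj ⟨x, hx⟩), lin_conj]

theorem mem_of_lin (h : Hyp p E N A B) {x : P} (hx : x ∈ N)
    (hl : (lin (h.cE x hx) : Module.End (ZMod p) (Vec p E)) = 1) : x ∈ E := by
  obtain ⟨e, he⟩ := h.inner_of_lin (h.cE_mem hx) hl
  exact h.mem_of_ind hx (e := e) (he ▸ h.ind_cE hx)

/-- The images of the inner automorphisms from `N` are the powers of one of them. -/
theorem lin_cE (h : Hyp p E N A B) {u x : P} (hu : u ∈ N) (hu' : u ∉ E) (hx : x ∈ N) :
    ∃ i : ℕ, (lin (h.cE x hx) : Module.End (ZMod p) (Vec p E)) = lin (h.cE u hu) ^ i := by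
  obtain ⟨i, hi⟩ := h.exists_pow hu hu' hx
  refine ⟨i, ?_⟩
  have e : h.cE x hx = (h.cE u hu) ^ i * MulAut.conj ⟨_, hi⟩ := by
    refine h.cE_eq hx ?_
    have h1 := ((h.ind_cE hu).pow i).mul (ind_conj (⟨(u ^ i)⁻¹ * x, hi⟩ : E))
    simpa using h1
  rw [e, map_mul, map_pow, lin_conj, mul_one]

theorem lin_cE_pow (h : Hyp p E N A B) {u : P} (hu : u ∈ N) :
    (lin (h.cE u hu) : Module.End (ZMod p) (Vec p E)) ^ p = 1 := by
  rw [← map_pow, ((h.ind_cE hu).pow p).eq (ind_conj ⟨_, h.pow_mem_E hu⟩), lin_conj]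

theorem lin_cE_ne (h : Hyp p E N A B) {u : P} (hu : u ∈ N) (hu' : u ∉ E) :
    (lin (h.cE u hu) : Module.End (ZMod p) (Vec p E)) ≠ 1 :=
  fun hh => hu' (h.mem_of_lin hu hh)

/-- The representation of `A` on the Frattini quotient. -/
def rho (_h : Hyp p E N A B) : A →* Module.End (ZMod p) (Vec p E) :=
  (lin : MulAut E →* Module.End (ZMod p) (Vec p E)).comp A.subtype

theorem rho_apply (h : Hyp p E N A B) (α : A) :
    h.rho α = (lin (α : MulAut E) : Module.End (ZMod p) (Vec p E)) := rfl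

/-- The action as units. -/
def linU (_h : Hyp p E N A B) : MulAut E →* (Module.End (ZMod p) (Vec p E))ˣ :=
  (lin : MulAut E →* Module.End (ZMod p) (Vec p E)).toHomUnits

theorem coe_linU (h : Hyp p E N A B) (α : MulAut E) :
    ((h.linU α : (Module.End (ZMod p) (Vec p E))ˣ) : Module.End (ZMod p) (Vec p E)) = lin α := rfl

theorem linU_mul (h : Hyp p E N A B) (x y : A) :
    h.linU (x : MulAut E) * h.linU y = h.linU ((x * y : A) : MulAut E) := (map_mul h.linU _ _).symm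

theorem linU_eq (h : Hyp p E N A B) {x y : A} (e : h.rho x = h.rho y) :
    h.linU (x : MulAut E) = h.linU y := Units.ext e

theorem linU_pow (h : Hyp p E N A B) {x : A} (e : h.rho x ^ p = 1) : h.linU (x : MulAut E) ^ p = 1 :=
  Units.ext ((Units.val_pow_eq_pow_val _ _).trans e)

/-- A set of commuting elements of order dividing `p` generates a group of exponent `p`. -/
theorem exp_closure {G : Type*} [Group G] {s : Set G} (hc : ∀ a ∈ s, ∀ b ∈ s, a * b = b * a)
    (he : ∀ a ∈ s, a ^ p = 1) : ∀ a ∈ closure s, a ^ p = 1 := by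
  have hab : ∀ a ∈ closure s, ∀ b ∈ closure s, a * b = b * a := by
    intro a ha b hb
    have h1 : closure s ≤ centralizer (centralizer s : Set G) := closure_le_centralizer_centralizer s
    have h2 : closure s ≤ centralizer s :=
      (closure_le _).mpr fun x hx => mem_centralizer_iff.mpr fun y hy => hc y hy x hx
    exact (mem_centralizer_iff.mp (h1 ha) b (h2 hb)).symm
  intro a ha
  induction ha using closure_induction with
  | mem x hx => exact he x hx
  | one => exact one_pow p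
  | mul x y hx hy ix iy => rw [(show Commute x y from hab x hx y hy).mul_pow, ix, iy, one_mul]
  | inv x _ ix => rw [inv_pow, ix, inv_one]

/-- Two commuting elements of order `p` of the image are dependent. -/
theorem pow_of_commute (h : Hyp p E N A B) {r s : A} (hr : h.rho r ^ p = 1) (hs : h.rho s ^ p = 1)
    (hr1 : h.rho r ≠ 1) (hc : h.rho r * h.rho s = h.rho s * h.rho r) :
    ∃ k : ℕ, h.rho s = h.rho r ^ k := by
  obtain ⟨u, hu, hu'⟩ := h.exists_not_mem
  set R := A ⊓ (closure ({h.linU r, h.linU s} : Set _)).comap h.linU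
  have hexp : ∀ x ∈ closure ({h.linU r, h.linU s} : Set _), x ^ p = 1 := by
    refine exp_closure (fun a ha b hb => ?_) fun a ha => ?_
    · rcases ha with rfl | rfl <;> rcases hb with rfl | rfl <;> first | rfl | exact Units.ext hc |
        exact Units.ext hc.symm
    · rcases ha with rfl | rfl
      · exact Units.ext (by rw [Units.val_pow_eq_pow_val, coe_linU, Units.val_one]; exact hr)
      · exact Units.ext (by rw [Units.val_pow_eq_pow_val, coe_linU, Units.val_one]; exact hs)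
  have hRp : IsPGroup p R := fun x => by
    have h1 : (x : MulAut E) ^ p ∈ (lin : MulAut E →* Module.End (ZMod p) (Vec p E)).ker := by
      rw [MonoidHom.mem_ker, map_pow, ← coe_linU h, ← Units.val_pow_eq_pow_val, hexp _ x.2.2, Units.val_one]
    obtain ⟨k, hk⟩ := MaxClassEssential.isPGroup_ker_lin ⟨_, h1⟩
    refine ⟨k + 1, Subtype.ext ?_⟩
    rw [SubmonoidClass.coe_pow, pow_succ', pow_mul]
    exact congrArg Subtype.val hk
  obtain ⟨α, hα, hα'⟩ := h.sylA R inf_le_left hRp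
  have key : ∀ t : A, (t : MulAut E) ∈ R →
      ∃ i : ℕ, h.rho (⟨α, hα⟩ * t * ⟨α, hα⟩⁻¹) = lin (h.cE u hu) ^ i := by
    intro t ht
    obtain ⟨x, hx, hi⟩ := hα' t ht
    obtain ⟨i, hi'⟩ := h.lin_cE hu hu' hx
    exact ⟨i, by rw [← hi', rho_apply, h.cE_eq hx hi]; rfl⟩
  obtain ⟨i, hi⟩ := key r ⟨r.2, subset_closure (Set.mem_insert _ _)⟩
  obtain ⟨j, hj⟩ := key s ⟨s.2, subset_closure (Set.mem_insert_of_mem _ rfl)⟩
  have hback : ∀ t : A, h.rho t =
      h.rho ⟨α, hα⟩⁻¹ * h.rho (⟨α, hα⟩ * t * ⟨α, hα⟩⁻¹) * h.rho ⟨α, hα⟩ := by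
    intro t
    rw [← map_mul, ← map_mul]
    congr 1
    group
  have hip : (i : ZMod p) ≠ 0 := by
    intro h0
    refine hr1 ?_
    obtain ⟨m, hm⟩ := (ZMod.natCast_eq_zero_iff i p).mp h0 |> fun hd => (show ∃ m, i = p * m from hd)
    rw [hback r, hi, hm, pow_mul, h.lin_cE_pow hu, one_pow, mul_one, ← map_mul, inv_mul_cancel, map_one]
  set k := ((i : ZMod p)⁻¹ * j).val
  refine ⟨k, ?_⟩
  have hmod : i * k ≡ j [MOD p] := by
    rw [← ZMod.natCast_eq_natCast_iff, Nat.cast_mul, ZMod.natCast_zmod_val, ← mul_assoc, mul_inv_cancel₀ hip,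
      one_mul]
  have hpow : (lin (h.cE u hu) : Module.End (ZMod p) (Vec p E)) ^ (i * k) = lin (h.cE u hu) ^ j :=
    pow_eq_pow_of_modEq hmod (h.lin_cE_pow hu)
  calc h.rho s = h.rho ⟨α, hα⟩⁻¹ * h.rho (⟨α, hα⟩ * r * ⟨α, hα⟩⁻¹) ^ k * h.rho ⟨α, hα⟩ := by
        rw [hi, ← pow_mul, hpow, ← hj]; exact hback s
    _ = h.rho r ^ k := by
        rw [← map_pow, conj_pow, ← map_mul, ← map_mul, ← map_pow]
        congr 1
        group

/-- The image of an element of order `p` has a conjugate not commuting with it. -/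
theorem exists_noncomm (h : Hyp p E N A B) {r : A} (hr : h.rho r ^ p = 1) (hr1 : h.rho r ≠ 1) :
    ∃ α : A, h.rho (α * r * α⁻¹) * h.rho r ≠ h.rho r * h.rho (α * r * α⁻¹) := by
  by_contra hh
  push Not at hh
  set s : Set (Module.End (ZMod p) (Vec p E))ˣ :=
    Set.range fun α : A => h.linU ((α * r * α⁻¹ : A) : MulAut E) with hs
  have hc : ∀ a ∈ s, ∀ b ∈ s, a * b = b * a := by
    rintro _ ⟨α, rfl⟩ _ ⟨γ, rfl⟩
    simp only
    rw [linU_mul, linU_mul]
    refine linU_eq h ?_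
    have h1 : h.rho (γ⁻¹ * α * r * (γ⁻¹ * α)⁻¹ * r) = h.rho (r * (γ⁻¹ * α * r * (γ⁻¹ * α)⁻¹)) := by
      rw [map_mul, map_mul h.rho r]; exact hh _
    rw [show α * r * α⁻¹ * (γ * r * γ⁻¹) = γ * (γ⁻¹ * α * r * (γ⁻¹ * α)⁻¹ * r) * γ⁻¹ by group,
      show γ * r * γ⁻¹ * (α * r * α⁻¹) = γ * (r * (γ⁻¹ * α * r * (γ⁻¹ * α)⁻¹)) * γ⁻¹ by group,
      map_mul, map_mul h.rho γ, h1, ← map_mul, ← map_mul]
  have hexp := exp_closure (p := p) hc (by
    rintro _ ⟨α, rfl⟩
    refine linU_pow h ?_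
    rw [← map_pow, conj_pow, map_mul, map_mul, map_pow, hr, mul_one, ← map_mul, mul_inv_cancel, map_one])
  refine hr1 (h.lin_eq_one_of_invariant (R := A ⊓ (closure s).comap h.linU) inf_le_left ?_ ?_
    (r := (r : MulAut E)) ⟨r.2, subset_closure ⟨1, by simp⟩⟩)
  · intro α hα x hx
    refine ⟨A.mul_mem (A.mul_mem hα hx.1) (A.inv_mem hα), ?_⟩
    have hle : closure s ≤ (closure s).comap (MulAut.conj (h.linU α)).toMonoidHom := by
      rw [closure_le]
      rintro _ ⟨γ, rfl⟩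
      refine subset_closure ⟨⟨α, hα⟩ * γ, ?_⟩
      simp only [MulEquiv.coe_toMonoidHom, MulAut.conj_apply]
      rw [← map_inv, ← map_mul, ← map_mul]
      simp [mul_assoc]
    have h2 := hle hx.2
    simp only [Subgroup.mem_comap, MulEquiv.coe_toMonoidHom, MulAut.conj_apply] at h2
    rw [← map_inv, ← map_mul, ← map_mul] at h2
    exact h2
  · intro x hx
    rw [← coe_linU h, ← Units.val_pow_eq_pow_val, hexp _ hx.2, Units.val_one]

end Frattini

end Hyp

end CfsgLib.RankThree
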