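import Cfsg.Agent.Lib.Fusion.RankThree.Opposite
import Cfsg.Agent.Lib.Fusion.Alperin

/-!
A group of linear maps of a three-dimensional module over the field with `p` elements that has a
strongly `p`-embedded subgroup has Sylow `p`-subgroups of order at most `p`.
-/

set_option autoImplicit false
set_option linter.unusedSectionVars false
set_option linter.style.haveILetI false

namespace CfsgLib.RankThree

open Cfsg

variable {p : ℕ} [Fact p.Prime] {V : Type*} [AddCommGroup V] [Module (ZMod p) V] {G : Type*} [Group G]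
  {ρ : G →* Module.End (ZMod p) V} {a : G} {c : V} {φ : V →ₗ[ZMod p] ZMod p}

/-- A map fixing a plane vector and functional commutes past the rotation. -/
theorem comp_mat {d : V} {ψ χ : V →ₗ[ZMod p] ZMod p} (hc : χ c = 0) (hd : χ d = 0) (x y z w : ZMod p) :
    χ ∘ₗ mat c d φ ψ x y z w = χ := by
  refine LinearMap.ext fun v => ?_
  simp only [LinearMap.comp_apply, mat_apply, map_add, map_smul, hc, hd, smul_zero, add_zero]

/-- A chain of commuting transvections between the members of an opposite pair. -/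
theorem exists_chain [Module.Finite (ZMod p) V] (hV : Module.finrank (ZMod p) V = 3)
    (ha : IsTV ρ a c φ) {g : G} {c2 : V} {φ2 : V →ₗ[ZMod p] ZMod p} (hg : IsTV ρ g c2 φ2)
    (h1 : φ c2 = 0) (h2 : φ2 c = 0) (hdep : ¬ Dep c c2 φ φ2) {h : G} (e0 : φ (ρ h c) ≠ 0)
    (e1 : φ (ρ h⁻¹ c) ≠ 0) :
    ∃ (g' g'' : G) (c' c'' : V) (φ' φ'' : V →ₗ[ZMod p] ZMod p), IsTV ρ g' c' φ' ∧ IsTV ρ g'' c'' φ'' ∧
      ρ (g' * a) = ρ (a * g') ∧ ρ (g' * g'') = ρ (g'' * g') ∧
      ρ (g'' * (h * a * h⁻¹)) = ρ (h * a * h⁻¹ * g'') := by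
  obtain ⟨d, ψ, k, r, O, hr, hcj⟩ := exists_opp ha e0 e1
  set b := (h * a * h⁻¹) ^ k with hb
  obtain ⟨e, he0, he1, he2, hspan⟩ := O.toPair.kernel_line hV
  set w := wE a b (1 : ZMod p) with hw
  have hw1 : ρ w = mat c d φ ψ 0 1 (-1) 0 := by rw [hw, O.wE_eq one_ne_zero, inv_one]
  have hw2 : ρ w⁻¹ = mat c d φ ψ 0 (-1) 1 0 := by
    have e3 : mat c d φ ψ 0 1 (-1) 0 * mat c d φ ψ 0 (-1) 1 0 = 1 := by
      rw [O.mat_mul, ← mat_one (c := c) (d := d) (φ := φ) (ψ := ψ)]
      congr 1 <;> ring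
    calc ρ w⁻¹ = ρ w⁻¹ * (ρ w * mat c d φ ψ 0 (-1) 1 0) := by rw [hw1, e3, mul_one]
      _ = _ := by rw [← mul_assoc, ← map_mul, inv_mul_cancel, map_one, one_mul]
  have key : ∀ x y : G, ρ x * ρ y = ρ y * ρ x → ρ (x * y) = ρ (y * x) := fun x y hxy => by
    rw [map_mul, map_mul, hxy]
  by_cases hspan2 : ∃ s : ZMod p, c2 = s • c
  · -- a common centre
    obtain ⟨s, rfl⟩ := hspan2
    have hs : s ≠ 0 := fun h0 => hg.cne (by rw [h0, zero_smul])
    set χ := s • φ2 + (-(s * φ2 d)) • φ with hχ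
    have hχc : χ c = 0 := by
      simp only [hχ, LinearMap.add_apply, LinearMap.smul_apply, h2, ha.self, smul_zero, add_zero]
    have hχd : χ d = 0 := by
      simp only [hχ, LinearMap.add_apply, LinearMap.smul_apply, O.fd, smul_eq_mul]
      ring
    have hχ0 : χ ≠ 0 := fun h0 => hdep ⟨⟨s, rfl⟩, φ2 d, LinearMap.ext fun v => by
      have h3 := LinearMap.congr_fun h0 v
      simp only [hχ, LinearMap.add_apply, LinearMap.smul_apply, smul_eq_mul, LinearMap.zero_apply] at h3 ⊢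
      exact mul_left_cancel₀ hs (by linear_combination h3)⟩
    set g' := g * a ^ (-(s * φ2 d)).val with hg'def
    have hg' : IsTV ρ g' c χ := by
      refine ⟨?_, ha.cne, hχ0, hχc⟩
      rw [hg'def, map_mul, map_pow, hg.eq, ha.eq, tv_pow ha.self, ZMod.natCast_zmod_val, tv_smul,
        tv_mul_same (by rw [LinearMap.smul_apply, h2, smul_zero])]
    refine ⟨g', w * g' * w⁻¹, _, _, _, _, hg', hg'.conj w, key _ _ ?_, key _ _ ?_, key _ _ ?_⟩
    · rw [hg'.eq, ha.eq, tv_commute hχc ha.self]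
    · rw [hg'.eq, (hg'.conj w).eq, hw2, comp_mat hχc hχd,
        tv_commute (by rw [hw1, O.mat_c, zero_smul, zero_add, map_smul, hχd, smul_zero]) hχc]
    · rw [(hg'.conj w).eq, hw2, comp_mat hχc hχd, hcj, tv_commute hχd
        (by rw [hw1, O.mat_c, zero_smul, zero_add, LinearMap.smul_apply, map_smul, O.gd, smul_zero,
          smul_zero])]
  · -- a common axis
    set r0 := ψ c2
    set e2 := c2 - r0 • c with he2def
    have hz1 : φ e2 = 0 := by rw [he2def, map_sub, map_smul, h1, ha.self, smul_zero, sub_zero]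
    have hz2 : ψ e2 = 0 := by rw [he2def, map_sub, map_smul, O.gc, smul_eq_mul, mul_one, sub_self]
    obtain ⟨t, ht⟩ := hspan e2 hz1 hz2
    have ht0 : t ≠ 0 := fun h0 => hspan2 ⟨r0, by rw [← sub_eq_zero, ← he2def, ht, h0, zero_smul]⟩
    have hφe : φ2 e = 0 := by
      have h3 : φ2 e2 = 0 := by rw [he2def, map_sub, map_smul, hg.self, h2, smul_zero, sub_zero]
      rw [ht, map_smul, smul_eq_mul] at h3
      exact (mul_eq_zero.mp h3).resolve_left ht0
    have hφ2 : φ2 = φ2 d • φ := by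
      refine LinearMap.ext fun v => ?_
      obtain ⟨u, hu⟩ := hspan (v - ψ v • c - φ v • d)
        (by simp [ha.self, O.fd]) (by simp [O.gc, O.gd])
      have h3 := congrArg φ2 hu
      simp only [map_sub, map_smul, h2, hφe, smul_eq_mul, mul_zero, sub_zero] at h3
      rw [LinearMap.smul_apply, smul_eq_mul]
      linear_combination h3
    set σ := φ2 d
    have hσ : σ ≠ 0 := fun h0 => hg.fne (by rw [hφ2, h0, zero_smul])
    set g' := g * a ^ (-(σ * r0)).val with hg'def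
    have hg' : IsTV ρ g' (σ • e2) φ := by
      refine ⟨?_, smul_ne_zero hσ (by rw [ht]; exact smul_ne_zero ht0 he0), ha.fne,
        by rw [map_smul, hz1, smul_zero]⟩
      rw [hg'def, map_mul, map_pow, hg.eq, ha.eq, tv_pow ha.self, ZMod.natCast_zmod_val, hφ2,
        ← tv_smul, ← tv_smul, tv_mul_axis (by rw [map_smul, ha.self, smul_zero]), he2def]
      congr 1
      module
    refine ⟨g', w * g' * w⁻¹, _, _, _, _, hg', hg'.conj w, key _ _ ?_, key _ _ ?_, key _ _ ?_⟩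
    · rw [hg'.eq, ha.eq, tv_commute ha.self hg'.self]
    · rw [hg'.eq, (hg'.conj w).eq, hw1, hw2, mat_fix _ _ _ _ hg'.self (by rw [map_smul, hz2, smul_zero]),
        tv_commute hg'.self]
      rw [LinearMap.comp_apply, O.phi_mat, map_smul, hz2, smul_zero, mul_zero, zero_mul, add_zero]
    · rw [(hg'.conj w).eq, hw1, hw2, mat_fix _ _ _ _ hg'.self (by rw [map_smul, hz2, smul_zero]), hcj,
        tv_commute]
      · rw [LinearMap.comp_apply, O.phi_mat, O.gd, O.fd]
        ring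
      · rw [LinearMap.smul_apply, map_smul, hz2, smul_zero, smul_zero]

/-- A Sylow subgroup of order at least `p ^ 2` contains a transvection and an independent element
commuting with it. -/
theorem exists_central_tv [Finite G] [Module.Finite (ZMod p) V] (hV : Module.finrank (ZMod p) V = 3)
    (hp : 3 ≤ p) (hρ : Function.Injective ρ) {T : Subgroup G} (hT : IsPGroup p T) (hlt : p < Nat.card T) :
    ∃ (z : G) (c : V) (φ : V →ₗ[ZMod p] ZMod p) (t : G), z ∈ T ∧ t ∈ T ∧ IsTV ρ z c φ ∧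
      t ∉ Subgroup.zpowers z ∧ t * z = z * t := by
  haveI : Nontrivial V := Module.nontrivial_of_finrank_eq_succ hV
  haveI : Nontrivial T := Finite.one_lt_card_iff_nontrivial.mp ((Fact.out : p.Prime).one_lt.trans hlt)
  haveI := hT.center_nontrivial
  obtain ⟨n, hn, hc⟩ := (hT.to_subgroup (Subgroup.center T)).nontrivial_iff_card.mp inferInstance
  obtain ⟨⟨z0', hz0c⟩, hz0o⟩ := exists_prime_orderOf_dvd_card' (G := Subgroup.center T) p
    (hc ▸ dvd_pow_self p (by omega))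
  set z0 : G := (z0' : G)
  have hz0p : z0 ^ p = 1 := by
    have h1 := pow_orderOf_eq_one (⟨z0', hz0c⟩ : Subgroup.center T)
    rw [hz0o] at h1
    exact congrArg (fun x : Subgroup.center T => ((x : T) : G)) h1
  have hz01 : z0 ≠ 1 := fun h => by
    have h1 : (⟨z0', hz0c⟩ : Subgroup.center T) = 1 := Subtype.ext (Subtype.ext h)
    rw [h1, orderOf_one] at hz0o
    exact (Fact.out : p.Prime).one_lt.ne hz0o
  have hcomm : ∀ t ∈ T, t * z0 = z0 * t := fun t ht =>
    congrArg Subtype.val (Subgroup.mem_center_iff.mp hz0c ⟨t, ht⟩)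
  obtain ⟨t0, ht0T, ht0⟩ : ∃ t ∈ T, t ∉ Subgroup.zpowers z0 := by
    by_contra hh
    push Not at hh
    have h1 := Subgroup.card_le_of_le (show T ≤ Subgroup.zpowers z0 from hh)
    rw [Nat.card_zpowers, orderOf_eq_prime hz0p hz01] at h1
    omega
  have hunip : ∀ t ∈ T, ∃ j, ρ t ^ p ^ j = 1 := fun t ht => by
    obtain ⟨j, hj⟩ := hT ⟨t, ht⟩
    exact ⟨j, by rw [← map_pow, show t ^ p ^ j = 1 from congrArg Subtype.val hj, map_one]⟩
  have hne : ∀ {g : G}, g ≠ 1 → ρ g ≠ 1 := fun hg h => hg (hρ (h.trans (map_one ρ).symm))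
  by_cases hsq : (ρ z0 - 1) ^ 2 = 0
  · obtain ⟨c, φ, h1, h2, h3, h4⟩ := exists_tv hV (hne hz01) hsq
    exact ⟨z0, c, φ, t0, z0'.2, ht0T, ⟨h4, h1, h2, h3⟩, ht0, hcomm t0 ht0T⟩
  set n := ρ z0 - 1 with hn'
  have hn3 : n ^ 3 = 0 := by
    obtain ⟨j, hj⟩ := hunip z0 z0'.2
    have := sub_one_pow_finrank hj
    rwa [hV] at this
  have hpoly : ∀ t ∈ T, ∃ a1 a2 : ZMod p, ρ t = 1 + a1 • n + a2 • n ^ 2 := by
    intro t ht
    have hct : ρ t * n = n * ρ t := by
      rw [hn', mul_sub, sub_mul, mul_one, one_mul, ← map_mul, ← map_mul, hcomm t ht]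
    obtain ⟨a0, a1, a2, h⟩ := exists_poly hV hn3 hsq hct
    obtain ⟨j, hj⟩ := hunip t ht
    have h1 : a0 • (1 : Module.End (ZMod p) V) = 1 := by
      rw [← pow_poly hp hn3 a0 a1 a2 (k := j + 1) (by omega), ← h, pow_succ, pow_mul, hj, one_pow]
    exact ⟨a1, a2, by rw [h, h1]⟩
  obtain ⟨a1, a2, ht0e⟩ := hpoly t0 ht0T
  set t1 := t0 * (z0 ^ a1.val)⁻¹ with ht1
  have ht1T : t1 ∈ T := T.mul_mem ht0T (T.inv_mem (pow_mem z0'.2 _))
  obtain ⟨b1, b2, ht1e⟩ := hpoly t1 ht1T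
  have hnz : ∀ k : ℕ, n * ρ (z0 ^ k) = n + (k : ZMod p) • n ^ 2 := by
    intro k
    induction k with
    | zero => rw [pow_zero, map_one, mul_one, Nat.cast_zero, zero_smul, add_zero]
    | succ k ih =>
      have hzz : ρ z0 = 1 + n := by rw [hn', add_sub_cancel]
      rw [pow_succ, map_mul, ← mul_assoc, ih, hzz, mul_add, mul_one, add_mul, smul_mul_assoc, ← pow_two,
        ← pow_succ, hn3, smul_zero, add_zero]
      push_cast
      module
  have hb1 : b1 = 0 := by
    have e1 : n * ρ t0 = n + a1 • n ^ 2 := by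
      rw [ht0e, mul_add, mul_add, mul_one, mul_smul_comm, mul_smul_comm, ← pow_two, ← pow_succ', hn3,
        smul_zero, add_zero]
    have e2 : n * ρ t0 = n + (b1 + a1) • n ^ 2 := by
      have h5 : ρ t0 = ρ t1 * ρ (z0 ^ a1.val) := by rw [← map_mul, ht1, inv_mul_cancel_right]
      have h6 : n * ρ t1 = n + b1 • n ^ 2 := by
        rw [ht1e, mul_add, mul_add, mul_one, mul_smul_comm, mul_smul_comm, ← pow_two, ← pow_succ', hn3,
          smul_zero, add_zero]
      rw [h5, ← mul_assoc, h6, add_mul, smul_mul_assoc, hnz, pow_two, mul_assoc n n, hnz, mul_add,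
        mul_smul_comm, ← pow_two, ← pow_succ', hn3, smul_zero, add_zero, ZMod.natCast_zmod_val]
      module
    rw [e1, add_right_inj, ← sub_eq_zero, ← sub_smul] at e2
    rcases smul_eq_zero.mp e2 with h7 | h7
    · linear_combination (-1 : ZMod p) * h7
    · exact absurd h7 hsq
  have ht1sq : (ρ t1 - 1) ^ 2 = 0 := by
    rw [ht1e, hb1, zero_smul, add_zero, add_sub_cancel_left, smul_pow, ← pow_mul,
      pow_eq_zero_of_le (by omega) hn3, smul_zero]
  have ht11 : t1 ≠ 1 := fun h => ht0 (by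
    rw [show t0 = z0 ^ a1.val from mul_inv_eq_one.mp h]
    exact pow_mem (Subgroup.mem_zpowers z0) _)
  obtain ⟨c, φ, h1, h2, h3, h4⟩ := exists_tv hV (hne ht11) ht1sq
  refine ⟨t1, c, φ, z0, ht1T, z0'.2, ⟨h4, h1, h2, h3⟩, fun h => hsq ?_, (hcomm t1 ht1T).symm⟩
  obtain ⟨k, hk⟩ := (mem_powers_iff_mem_zpowers).mpr h
  rw [hn', ← hk, map_pow, h4, tv_pow h3, tv, add_sub_cancel_left, pow_two]
  refine LinearMap.ext fun v => ?_
  simp [h3]

/-- The Sylow subgroups have order at most `p`. -/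
theorem card_sylow_le [Finite G] [Module.Finite (ZMod p) V] (hV : Module.finrank (ZMod p) V = 3)
    (hp : 3 ≤ p) (hρ : Function.Injective ρ) {Y : Subgroup G} (hY : IsStronglyPEmbedded p Y)
    (T : Sylow p G) : Nat.card (T : Subgroup G) ≤ p := by
  by_contra hlt
  push Not at hlt
  haveI : Nontrivial V := Module.nontrivial_of_finrank_eq_succ hV
  obtain ⟨z, c, φ, t, hzT, htT, hz, htz, hcomm⟩ := exists_central_tv hV hp hρ T.2 hlt
  have inj : ∀ {x y : G}, ρ x = ρ y → x = y := fun h => hρ h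
  have hz1 : z ≠ 1 := fun h => hz.ne_one (by rw [h, map_one])
  obtain ⟨M, hM, hTM⟩ := IsStronglyPEmbedded.exists_sylow_normalizer_le hY T
  have hT1 : (T : Subgroup G) ≠ ⊥ := fun h => hz1 (Subgroup.mem_bot.mp (h ▸ hzT))
  have hTM' : (T : Subgroup G) ≤ M :=
    Subgroup.le_normalizer.trans ((normalizer_le_kGeneratedCore T.2 le_rfl hT1).trans hTM)
  have cent : ∀ {q g : G}, q ^ p = 1 → q ≠ 1 → q ∈ M → g * q = q * g → g ∈ M := by
    intro q g hq hq1 hqM hgq
    refine mem_of_conj_le_of_kGeneratedCore_le T hTM (Z := Subgroup.zpowers q)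
      (IsPGroup.of_card (n := 1) (by rw [Nat.card_zpowers, orderOf_eq_prime hq hq1, pow_one]))
      (by rwa [Ne, Subgroup.zpowers_eq_bot]) (Subgroup.zpowers_le.mpr hqM) fun x hx => ?_
    have hc : Commute g x := by
      obtain ⟨i, rfl⟩ := hx
      exact (show Commute g q from hgq).zpow_right i
    rw [hc.eq, mul_inv_cancel_right]
    exact Subgroup.zpowers_le.mpr hqM hx
  have tcent : ∀ {q g : G} {c' : V} {φ' : V →ₗ[ZMod p] ZMod p}, IsTV ρ q c' φ' → q ∈ M →
      ρ (g * q) = ρ (q * g) → g ∈ M := fun hq hqM h =>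
    cent (inj (hq.pow_prime.trans (map_one ρ).symm)) (fun e => hq.ne_one (by rw [e, map_one])) hqM (inj h)
  by_cases hex : ∃ (g : G) (c2 : V) (φ2 : V →ₗ[ZMod p] ZMod p),
      IsTV ρ g c2 φ2 ∧ φ c2 = 0 ∧ φ2 c = 0 ∧ ¬ Dep c c2 φ φ2
  · obtain ⟨g, c2, φ2, hg, h1, h2, hdep⟩ := hex
    have hconj : ∀ h, h * z * h⁻¹ ∈ M := by
      intro h
      rcases eq_or_ne (φ (ρ h c)) 0 with e0 | e0 <;> rcases eq_or_ne (φ (ρ h⁻¹ c)) 0 with e1 | e1
      · refine tcent hz (hTM' hzT) ?_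
        rw [map_mul ρ _ z, map_mul ρ z, (hz.conj h).eq, hz.eq, tv_commute (φ := φ ∘ₗ ρ h⁻¹) e1 e0]
      · obtain ⟨w, c', φ', hw, hwz, hwb⟩ := oneSided hz (Or.inl ⟨e0, e1⟩)
        exact tcent hw (tcent hz (hTM' hzT) hwz) hwb.symm
      · obtain ⟨w, c', φ', hw, hwz, hwb⟩ := oneSided hz (Or.inr ⟨e1, e0⟩)
        exact tcent hw (tcent hz (hTM' hzT) hwz) hwb.symm
      · obtain ⟨g', g'', c', c'', φ', φ'', hg', hg'', k1, k2, k3⟩ := exists_chain hV hz hg h1 h2 hdep e0 e1
        exact tcent hg'' (tcent hg' (tcent hz (hTM' hzT) k1) k2.symm) k3.symm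
    refine hM (eq_top_iff.mpr fun h _ => ?_)
    refine mem_of_conj_le_of_kGeneratedCore_le T hTM (Z := Subgroup.zpowers z)
      (T.2.to_le (Subgroup.zpowers_le.mpr hzT)) (by rwa [Ne, Subgroup.zpowers_eq_bot])
      (Subgroup.zpowers_le.mpr (hTM' hzT)) fun x hx => ?_
    obtain ⟨i, rfl⟩ := hx
    rw [← conj_zpow]
    exact zpow_mem (hconj h) i
  push Not at hex
  have hNP : NP ρ c φ := hex
  obtain ⟨h, hmoved⟩ : ∃ h, h * z * h⁻¹ ∉ Subgroup.zpowers z := by
    by_contra hh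
    push Not at hh
    haveI : (Subgroup.zpowers z).Normal := ⟨fun x hx g => by
      obtain ⟨i, rfl⟩ := hx
      rw [← conj_zpow]
      exact zpow_mem (hh g) i⟩
    exact hz1 (Subgroup.zpowers_eq_bot.mp
      (IsStronglyPEmbedded.eq_bot_of_normal_pGroup hY _ (T.2.to_le (Subgroup.zpowers_le.mpr hzT))))
  have hdep : ∀ h', Dep c (ρ h' c) φ (φ ∘ₗ ρ h'⁻¹) → h' * z * h'⁻¹ ∈ Subgroup.zpowers z := by
    intro h' hd
    obtain ⟨⟨k, hk⟩, k', hk'⟩ := hd
    have e : h' * z * h'⁻¹ = z ^ (k * k').val := inj (by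
      rw [(hz.conj h').eq, hk, hk', map_pow, hz.eq, tv_pow hz.self, ZMod.natCast_zmod_val, tv_smul, smul_smul])
    rw [e]
    exact pow_mem (Subgroup.mem_zpowers z) _
  have e0 : φ (ρ h c) ≠ 0 := fun e => hmoved (hdep h (hNP.conj_zero hz e))
  have e1 : φ (ρ h⁻¹ c) ≠ 0 := fun e => by
    have h2 := hdep _ (hNP.conj_zero hz e)
    refine hmoved ?_
    obtain ⟨i, hi⟩ := h2
    have hio : z ∈ Subgroup.zpowers (h⁻¹ * z * h⁻¹⁻¹) := by
      have hsub : Subgroup.zpowers (h⁻¹ * z * h⁻¹⁻¹) ≤ Subgroup.zpowers z :=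
        Subgroup.zpowers_le.mpr ⟨i, hi⟩
      have hcard : Nat.card (Subgroup.zpowers (h⁻¹ * z * h⁻¹⁻¹)) = Nat.card (Subgroup.zpowers z) := by
        rw [Nat.card_zpowers, Nat.card_zpowers]
        exact orderOf_injective (MulAut.conj h⁻¹).toMonoidHom (MulEquiv.injective _) z
      rw [Subgroup.eq_of_le_of_card_ge hsub hcard.ge]
      exact Subgroup.mem_zpowers z
    obtain ⟨j, hj⟩ := hio
    refine ⟨j, ?_⟩
    have h5 : h * (h⁻¹ * z * h⁻¹⁻¹) ^ j * h⁻¹ = z ^ j := by rw [conj_zpow]; group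
    simp only at hj ⊢
    rw [← h5, hj]
  obtain ⟨d, ψ, k, r, O, -, -⟩ := exists_opp hz e0 e1
  obtain ⟨hker, hpl⟩ := decomposition hz hNP O
  obtain ⟨e, he0, he1, he2, hspan⟩ := O.toPair.kernel_line hV
  obtain ⟨j, hj⟩ := T.2 ⟨t, htT⟩
  have hnil : IsNilpotent (ρ t - 1) :=
    isNilpotent_sub_one (k := j) (by rw [← map_pow, show t ^ p ^ j = 1 from congrArg Subtype.val hj, map_one])
  have hfix : ∀ v, (∃ l : ZMod p, ρ t v = l • v) → ρ t v = v := fun v ⟨l, hl⟩ => by
    have h3 : (ρ t - 1) v = (l - 1) • v := by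
      rw [LinearMap.sub_apply, Module.End.one_apply, hl, sub_smul, one_smul]
    have h4 := apply_eq_zero_of_nilpotent hnil h3
    rwa [LinearMap.sub_apply, Module.End.one_apply, sub_eq_zero] at h4
  have hsw : ∀ v, ρ t v + φ v • ρ t c = ρ t v + φ (ρ t v) • c := fun v => by
    have h5 := congrArg (fun x => ρ x v) hcomm
    simpa [map_mul, hz.eq, tv_apply] using h5
  have htc : ρ t c = c := hfix c ⟨φ (ρ t d), by
    have h5 := add_left_cancel (hsw d)
    rwa [O.fd, one_smul] at h5⟩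
  have hte : ρ t e = e := hfix e (hspan _ (hker t e he1 he2).1 (hker t e he1 he2).2)
  obtain ⟨r', s', hrs⟩ := (hpl t).2
  have hs' : s' = 1 := by
    have h5 := add_left_cancel (hsw d)
    rw [O.fd, one_smul, htc, hrs, map_add, map_smul, map_smul, O.fc, O.fd] at h5
    have h6 := congrArg ψ h5
    rw [map_smul, O.gc] at h6
    simp only [smul_eq_mul, mul_zero, zero_add, mul_one] at h6
    exact h6.symm
  refine htz ?_
  have : t = z ^ r'.val := inj (by
    rw [map_pow, hz.eq, tv_pow hz.self, ZMod.natCast_zmod_val]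
    refine LinearMap.ext fun v => ?_
    obtain ⟨u, hu⟩ := hspan (v - ψ v • c - φ v • d) (by simp [hz.self, O.fd]) (by simp [O.gc, O.gd])
    have hv : v = ψ v • c + φ v • d + u • e := by rw [← hu]; abel
    rw [tv_apply, LinearMap.smul_apply, smul_eq_mul]
    conv_lhs => rw [hv]
    rw [map_add, map_add, map_smul, map_smul, map_smul, htc, hte, hrs, hs']
    conv_rhs => rw [hv]
    simp only [map_add, map_smul, hz.self, O.fd, he1, smul_eq_mul, mul_zero, add_zero, zero_add, mul_one]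
    module)
  rw [this]
  exact pow_mem (Subgroup.mem_zpowers z) _

end CfsgLib.RankThree
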