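import Cfsg.Agent.Lib.Fusion.RankThree.Reduce
import Cfsg.Agent.Lib.Fusion.RankThree.StepZero
import Cfsg.Agent.Lib.Fusion.EssentialSmall.Basic

/-!
An essential subgroup with three generators is normal in a group of sectional rank three.
-/

set_option autoImplicit false
set_option linter.unusedSectionVars false
set_option linter.style.haveILetI false

namespace CfsgLib.RankThree

open Subgroup
open MaxClassEssential (Vec vec lin)
open Cfsg Cfsg.FusionSystem

/-- Sectional rank passes along injective homomorphisms. -/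
theorem sectional_inj {p k : ℕ} {G G' : Type*} [Group G] [Group G'] (f : G →* G')
    (hf : Function.Injective f) (hr : Cfsg.SectionalPRankLE p k G') : Cfsg.SectionalPRankLE p k G := by
  intro H L _ V hV hVp
  let e0 : H ≃* H.map f := H.equivMapOfInjective f hf
  let ψ : H.map f →* H ⧸ L := (QuotientGroup.mk' L).comp e0.symm.toMonoidHom
  have hψ : Function.Surjective ψ := fun q => by
    obtain ⟨a, rfl⟩ := QuotientGroup.mk'_surjective L q
    exact ⟨e0 a, congrArg (QuotientGroup.mk' L) (e0.symm_apply_apply a)⟩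
  let e := QuotientGroup.quotientKerEquivOfSurjective ψ hψ
  have h1 := hr _ ψ.ker (V.map e.symm.toMonoidHom) ⟨⟨by
      rintro ⟨_, a, ha, rfl⟩ ⟨_, b, hb, rfl⟩
      refine Subtype.ext ?_
      show e.symm a * e.symm b = e.symm b * e.symm a
      rw [← map_mul, ← map_mul, show a * b = b * a from congrArg Subtype.val (hV.is_comm.comm ⟨a, ha⟩ ⟨b, hb⟩)]⟩⟩
    (by rintro _ ⟨a, ha, rfl⟩; rw [← map_pow, hVp a ha, map_one])
  rwa [← Nat.card_congr (V.equivMapOfInjective _ e.symm.injective).toEquiv] at h1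

theorem frattini_le_comap {p : ℕ} [Fact p.Prime] {A B : Type*} [Group A] [Group B] [Finite A] [Finite B]
    (f : A ≃* B) (hA : IsPGroup p A) (hB : IsPGroup p B) : frattini A ≤ (frattini B).comap f.toMonoidHom :=
  CfsgLib.RankFrattini.frattini_le_of_elementary hA _
    (fun a b => by
      rw [mem_comap, map_commutatorElement]
      exact CfsgLib.commutator_le_frattini_pGroup hB (commutator_mem_commutator (mem_top _) (mem_top _)))
    (fun a => by
      rw [mem_comap, map_pow]
      exact CfsgLib.pow_mem_frattini_pGroup hB _)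

/-- The index of the Frattini subgroup is an invariant. -/
theorem frattini_index_congr {p : ℕ} [Fact p.Prime] {G G' : Type*} [Group G] [Group G'] [Finite G] [Finite G']
    (e : G ≃* G') (hG : IsPGroup p G) : (frattini G').index = (frattini G).index := by
  have hG' : IsPGroup p G' := hG.of_equiv e
  have h1 : (frattini G).map e.toMonoidHom = frattini G' := by
    refine le_antisymm (map_le_iff_le_comap.mpr (frattini_le_comap e hG hG')) fun x hx => ?_
    exact ⟨e.symm x, frattini_le_comap e.symm hG' hG hx, e.apply_symm_apply x⟩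
  rw [← h1]
  exact index_map_equiv _ e

section

universe u

variable {Ω : Type u} [Group Ω] {S : Subgroup Ω} [Finite S] {p : ℕ} [Fact p.Prime] {F : FusionSystem S}

/-- The subgroup has index `p` in its normaliser. -/
theorem relIndex_normalizerIn (hp : 3 ≤ p) (hS : IsPGroup p S) (hF : F.IsSaturated p) {E : Subgroup Ω}
    (hE : F.IsEssential p E) (hrk : (frattini ↥E).index = p ^ 3) :
    Nat.card (normalizerIn S E) = Nat.card E * p := by
  have hES := hE.1.1
  haveI : Finite E := finite_of_le hES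
  haveI := finite_mulAut_of_le hES
  haveI := finite_normalizerIn (S := S) (P := E)
  haveI : Fact (IsPGroup p E) := ⟨hS.to_le hES⟩
  haveI := finite_autGroup (F := F) hES
  obtain ⟨-, hfn, hnorm, Y, hY⟩ := id hE
  haveI := hnorm
  set A := F.autGroup E with hA
  have hV : Module.finrank (ZMod p) (Vec p E) = 3 := by
    have h1 : Nat.card (Vec p E) = p ^ 3 := by
      rw [← hrk, Subgroup.index_eq_card]
      exact Nat.card_congr Additive.toMul
    rw [Module.natCard_eq_pow_finrank (K := ZMod p), Nat.card_zmod] at h1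
    exact Nat.pow_right_injective (Fact.out : p.Prime).two_le h1
  set f : A →* Module.End (ZMod p) (Vec p E) :=
    (lin : MulAut E →* Module.End (ZMod p) (Vec p E)).comp A.subtype with hf
  have hle : (Inn E).subgroupOf A ≤ f.ker := by
    rintro ⟨α, hα⟩ ⟨a, ha⟩
    refine MonoidHom.mem_ker.mpr ?_
    show (lin α : Module.End (ZMod p) (Vec p E)) = 1
    rw [← show MulAut.conj a = α from ha]
    exact MaxClassEssential.lin_inner a
  have hker : f.ker ≤ (Inn E).subgroupOf A := by
    intro α hα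
    have hp1 : IsPGroup p f.ker := fun s => by
      obtain ⟨j, hj⟩ := MaxClassEssential.isPGroup_ker_lin
        ⟨((s : A) : MulAut E), MonoidHom.mem_ker.mp s.2⟩
      exact ⟨j, Subtype.ext (Subtype.ext (congrArg Subtype.val hj :))⟩
    rw [mem_subgroupOf, ← (hE.isRadical hS hF).2]
    exact ⟨α, CfsgLib.le_pCore hp1 hα, rfl⟩
  set ρ := QuotientGroup.lift ((Inn E).subgroupOf A) f hle with hρ
  have hρi : Function.Injective ρ := by
    rw [injective_iff_map_eq_one]
    intro x hx
    obtain ⟨a, rfl⟩ := QuotientGroup.mk'_surjective _ x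
    exact (QuotientGroup.eq_one_iff _).mpr (hker (MonoidHom.mem_ker.mpr hx))
  obtain ⟨-, T, hT⟩ := hF.isFullyAutomized_of_isFullyNormalized hS hfn
  set q := QuotientGroup.mk' ((Inn E).subgroupOf A) with hq
  have h1 := card_sylow_le hV hp hρi hY
    (T.mapSurjective (QuotientGroup.mk'_surjective ((Inn E).subgroupOf A)))
  set g := q.comp (T : Subgroup A).subtype with hg
  have h2 : Nat.card g.range ≤ p := by
    refine le_of_eq_of_le ?_ h1
    congr 1
    rw [hg, MonoidHom.range_comp, Subgroup.range_subtype]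
    rfl
  have h3 : Nat.card g.ker ≤ Nat.card (Inn E) := by
    refine Nat.card_le_card_of_injective
      (fun x => (⟨((x : (T : Subgroup A)) : A), mem_subgroupOf.mp ((QuotientGroup.eq_one_iff (N := (Inn E).subgroupOf A) _).mp x.2)⟩ : Inn E)) fun x y e => ?_
    exact Subtype.ext (Subtype.ext (Subtype.ext (congrArg Subtype.val e :)))
  have h4 := g.ker.card_mul_index
  rw [Subgroup.index_ker] at h4
  have h5 : Nat.card (T : Subgroup A) = Nat.card (autInducedBy S E) := by
    rw [hT]
    exact Nat.card_congr (subgroupOfEquivOfLe (autInducedBy_le_autGroup hES)).toEquiv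
  have h6 : Nat.card (autInducedBy E E) * Nat.card (centralizerIn E E) = Nat.card E := by
    rw [card_autInducedBy_mul]
    exact congrArg (fun X : Subgroup Ω => Nat.card X) (inf_eq_left.mpr le_normalizer)
  have hCc : centralizerIn E E = centralizerIn S E :=
    le_antisymm (fun x hx => ⟨hES hx.1, hx.2⟩) fun x hx => ⟨hE.1.2 E (F.isConj_refl hES) hx, hx.2⟩
  have h7 : Nat.card (normalizerIn S E) ≤ Nat.card E * p := by
    rw [← card_autInducedBy_mul, ← h6, hCc, ← inn_eq_autInducedBy, mul_right_comm, ← h5, ← h4]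
    exact Nat.mul_le_mul_right _ (Nat.mul_le_mul h3 h2)
  have h8 : E < normalizerIn S E := lt_normalizerIn hS (hE.lt hS hF)
  obtain ⟨i, hi⟩ := (hS.to_le hES).exists_card_eq
  obtain ⟨j, hj⟩ := (hS.to_le (normalizerIn_le (S := S) (P := E))).exists_card_eq
  have h9 : Nat.card E < Nat.card (normalizerIn S E) :=
    lt_of_le_of_ne (card_le_of_le h8.le) fun e => h8.ne (eq_of_le_of_card_ge h8.le e.ge)
  rw [hi, hj] at h9
  rw [hi, hj, ← pow_succ] at h7 ⊢
  have hp1 := (Fact.out : p.Prime).one_lt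
  have h10 := (Nat.pow_lt_pow_iff_right hp1).mp h9
  have h11 := (Nat.pow_le_pow_iff_right hp1).mp h7
  rw [show j = i + 1 by omega]

/-- A fully normalised conjugate of the normaliser. -/
theorem exists_good_conj (hp : 3 ≤ p) (hS : IsPGroup p S) (hF : F.IsSaturated p) {E : Subgroup Ω}
    (hE : F.IsEssential p E) (hrk : (frattini ↥E).index = p ^ 3) (hn : ¬ S ≤ normalizer (E : Set Ω)) :
    ∃ E' N' : Subgroup Ω, F.IsConj E E' ∧ F.IsFullyNormalized E' ∧ F.IsFullyNormalized N' ∧
      normalizerIn S E' = N' ∧ E' ≤ N' ∧ E'.relIndex N' = p ∧ N' < S := by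
  have hES := hE.1.1
  obtain ⟨-, hfn, -⟩ := id hE
  obtain ⟨N', hconj, hN'⟩ := F.exists_isFullyNormalized (normalizerIn_le (S := S) (P := E))
  obtain ⟨φ, hφ, hφr⟩ := id hconj
  have hEN : E ≤ normalizerIn S E := le_normalizerIn hES
  set φE := φ.comp (Subgroup.inclusion hEN) with hφE
  have hφEm : φE ∈ F.Hom E := F.restrict_mem hφ hEN
  set E' := φE.range with hE'
  have hc : F.IsConj E E' := ⟨φE, hφEm, rfl⟩
  have hE'N : E' ≤ N' := by
    rintro _ ⟨x, rfl⟩
    exact hφr.le ⟨_, rfl⟩
  have hle : N' ≤ normalizerIn S E' := by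
    intro y hy
    obtain ⟨g, rfl⟩ := hφr.ge hy
    exact ⟨F.apply_mem hφ g, apply_mem_normalizer hEN (φ := φE) (fun _ => rfl) rfl g g.2.2⟩
  haveI := finite_normalizerIn (S := S) (P := E')
  haveI : Finite N' := finite_of_le (hle.trans normalizerIn_le)
  haveI : Finite E' := finite_of_le hc.le_right
  have hcard : Nat.card N' = Nat.card (normalizerIn S E) := hconj.card_eq.symm
  have heq : normalizerIn S E' = N' :=
    (eq_of_le_of_card_ge hle ((hfn.2 E' hc).trans hcard.ge)).symm
  have hfn' : F.IsFullyNormalized E' := by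
    refine ⟨hc.le_right, fun Q hQ => ?_⟩
    rw [heq, hcard]
    exact hfn.2 Q (hc.trans hQ)
  refine ⟨E', N', hc, hfn', hN', heq, hE'N, ?_, ?_⟩
  · have h1 := relIndex_normalizerIn hp hS hF hE hrk
    have h2 := relIndex_mul_relIndex ⊥ E' N' bot_le hE'N
    rw [relIndex_bot_left, relIndex_bot_left] at h2
    rw [← hcard, hc.card_eq, ← h2] at h1
    exact Nat.eq_of_mul_eq_mul_left Nat.card_pos h1
  · refine lt_of_le_of_ne (heq ▸ normalizerIn_le) fun e => hn ?_
    rw [e] at hcard
    have h2 : normalizerIn S E = S :=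
      haveI := finite_normalizerIn (S := S) (P := E)
      eq_of_le_of_card_ge normalizerIn_le hcard.le
    exact fun x hx => (h2.ge hx).2

/-- Conjugation, in the language of the configuration. -/
theorem congr_apply {M H : Subgroup Ω} (hHM : H ≤ M) (α : MulAut (H.subgroupOf M)) (y : H) :
    ((MulAut.congr (subgroupOfEquivOfLe hHM) α y : H) : Ω) =
      (((α ((subgroupOfEquivOfLe hHM).symm y) : H.subgroupOf M) : M) : Ω) := rfl

theorem ind_iff {M H : Subgroup Ω} (hHM : H ≤ M) (x : M) (α : MulAut (H.subgroupOf M)) :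
    Ind (H.subgroupOf M) x α ↔
      ∀ y : H, ((MulAut.congr (subgroupOfEquivOfLe hHM) α y : H) : Ω) = (x : Ω) * y * (x : Ω)⁻¹ := by
  refine ⟨fun h y => ?_, fun h e => Subtype.ext ?_⟩
  · rw [congr_apply, h]
    rfl
  · have h1 := h (subgroupOfEquivOfLe hHM e)
    rw [congr_apply, MulEquiv.symm_apply_apply] at h1
    exact h1

/-- A non-normal essential subgroup with three generators gives a configuration. -/
theorem le_normalizer_of_rank_three (hp : 5 ≤ p) (hS : IsPGroup p S) (hsr : Cfsg.SectionalPRankLE p 3 ↥S)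
    (hF : F.IsSaturated p) {E : Subgroup Ω} (hE : F.IsEssential p E) (hrk : (frattini ↥E).index = p ^ 3) :
    S ≤ normalizer (E : Set Ω) := by
  by_contra hn
  obtain ⟨E', N', hc, hfn', hN', heq, hE'N, hidx, hlt⟩ := exists_good_conj (by omega) hS hF hE hrk hn
  have hES := hE.1.1
  have hE'S : E' ≤ S := hc.le_right
  haveI := finite_of_le hES
  haveI := finite_of_le hE'S
  haveI := finite_mulAut_of_le hE'S
  haveI := finite_autGroup (F := F) hE'S
  haveI := finite_autGroup (F := F) hN'.1
  have hNM : N' ≤ normalizerIn S N' := le_normalizerIn hN'.1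
  have hEM : E' ≤ normalizerIn S N' := hE'N.trans hNM
  haveI := finite_normalizerIn (S := S) (P := N')
  haveI : Finite N' := finite_of_le hN'.1
  obtain ⟨-, TE, hTE⟩ := hF.isFullyAutomized_of_isFullyNormalized hS hfn'
  obtain ⟨-, TN, hTN⟩ := hF.isFullyAutomized_of_isFullyNormalized hS hN'
  set cE := MulAut.congr (subgroupOfEquivOfLe hEM) with hcE
  set cN := MulAut.congr (subgroupOfEquivOfLe hNM) with hcN
  -- Sylow subgroups
  have syl : ∀ {H : Subgroup Ω} (hH : H ≤ normalizerIn S N') (T : Sylow p (F.autGroup H)),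
      (T : Subgroup (F.autGroup H)) = (autInducedBy S H).subgroupOf (F.autGroup H) → [Finite (F.autGroup H)] →
      ∀ R, R ≤ (F.autGroup H).comap (MulAut.congr (subgroupOfEquivOfLe hH)).toMonoidHom → IsPGroup p R →
      ∃ α ∈ (F.autGroup H).comap (MulAut.congr (subgroupOfEquivOfLe hH)).toMonoidHom, ∀ r ∈ R,
        ∃ g ∈ S, g ∈ normalizer (H : Set Ω) ∧ ∀ y : H,
          ((MulAut.congr (subgroupOfEquivOfLe hH) (α * r * α⁻¹) y : H) : Ω) = g * y * g⁻¹ := by
    intro H hH T hT _ R hR hRp
    set c := MulAut.congr (subgroupOfEquivOfLe hH)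
    have hX : R.map c.toMonoidHom ≤ F.autGroup H := map_le_iff_le_comap.mpr hR
    obtain ⟨a, ha⟩ := exists_conj_mem_sylow T
      ((hRp.map c.toMonoidHom).of_equiv (subgroupOfEquivOfLe hX).symm)
    refine ⟨c.symm a, ?_, fun r hr => ?_⟩
    · show c (c.symm a) ∈ F.autGroup H
      rw [MulEquiv.apply_symm_apply]
      exact a.2
    · have h1 := ha ⟨c r, hX (mem_map_of_mem _ hr)⟩ (mem_map_of_mem _ hr)
      rw [hT] at h1
      obtain ⟨g, hg, hgN, he⟩ := mem_autInducedBy_iff.mp (mem_subgroupOf.mp h1)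
      refine ⟨g, hg, hgN, fun y => ?_⟩
      rw [map_mul, map_mul, map_inv, MulEquiv.apply_symm_apply]
      exact he y
  have hP : IsPGroup p (normalizerIn S N') := hS.to_le normalizerIn_le
  refine Hyp.false (E := E'.subgroupOf (normalizerIn S N')) (N := N'.subgroupOf (normalizerIn S N'))
    (A := (F.autGroup E').comap cE.toMonoidHom) (B := (F.autGroup N').comap cN.toMonoidHom) (p := p)
    ⟨hp, hP, sectional_inj (Subgroup.inclusion normalizerIn_le) (Subgroup.inclusion_injective _) hsr,
      ?_, ?_, ?_, ?_, ?_, ?_, ?_, ?_, ?_, ?_, ?_, ?_, ?_⟩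
  · -- normality
    refine ⟨fun n hn g => ?_⟩
    exact (mem_normalizer_iff.mp g.2.2 (n : Ω)).mp hn
  · -- the normaliser
    ext x
    constructor
    · intro hx
      show (x : Ω) ∈ N'
      refine heq.le ⟨x.2.1, mem_normalizer_iff.mpr fun y => ?_⟩
      constructor
      · intro hy
        exact (mem_normalizer_iff.mp hx ⟨y, hEM hy⟩).mp hy
      · intro hy
        have hy' : y ∈ normalizerIn S N' := by
          have := mul_mem (mul_mem (inv_mem x.2) (hEM hy)) x.2
          simpa [mul_assoc] using this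
        exact (mem_normalizer_iff.mp hx ⟨y, hy'⟩).mpr hy
    · intro hx
      have hx' : (x : Ω) ∈ normalizerIn S E' := heq.ge hx
      exact mem_normalizer_iff.mpr fun y => mem_normalizer_iff.mp hx'.2 (y : Ω)
  · -- the index
    rw [relIndex_subgroupOf hNM]
    exact hidx
  · -- properness
    intro ht
    refine (lt_normalizerIn hS hlt).not_ge fun x hx => ?_
    exact (ht.ge (mem_top (⟨x, hx⟩ : normalizerIn S N')) :)
  · -- the Frattini quotient
    obtain ⟨e⟩ := hc.nonempty_mulEquiv
    rw [frattini_index_congr (p := p) (e.trans (subgroupOfEquivOfLe hEM).symm) (hS.to_le hES)]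
    exact hrk
  · -- centralisers
    intro x _ hx
    refine hE.1.2 E' hc ⟨x.2.1, mem_centralizer_iff.mpr fun y hy => ?_⟩
    exact (congrArg Subtype.val (hx ⟨y, hEM hy⟩ hy)).symm
  · -- inner automorphisms
    intro x _ α hα
    refine mem_comap.mpr (autInducedBy_le_autGroup hE'S ?_)
    exact subset_closure ⟨x, x.2.1, (ind_iff hEM x α).mp hα⟩
  · -- Sylow
    intro R hR hRp
    obtain ⟨α, hα, hα'⟩ := syl hEM TE hTE R hR hRp
    refine ⟨α, hα, fun r hr => ?_⟩
    obtain ⟨g, hg, hgN, he⟩ := hα' r hr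
    have hgN' : g ∈ N' := heq ▸ ⟨hg, hgN⟩
    exact ⟨⟨g, hNM hgN'⟩, hgN', (ind_iff hEM _ _).mpr he⟩
  · -- the core
    intro R hR hinv hRp r hr
    obtain ⟨φ, hφ, hφr⟩ := id hc
    set c := MulAut.congr (F.isoOf hφ hφr) with hcdef
    have hmap := F.autGroup_map_congr hφ hφr
    set R' := ((R.map cE.toMonoidHom).comap c.toMonoidHom).subgroupOf (F.autGroup E) with hR'
    haveI : R'.Normal := ⟨fun s hs a => by
      have ha : c (a : MulAut E) ∈ F.autGroup E' := hmap.le ⟨_, a.2, rfl⟩
      obtain ⟨t, ht, hts⟩ := hs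
      refine ⟨cE.symm (c a) * t * (cE.symm (c a))⁻¹, hinv _ ?_ t ht, ?_⟩
      · show cE (cE.symm (c (a : MulAut E))) ∈ F.autGroup E'
        rw [MulEquiv.apply_symm_apply]
        exact ha
      · show cE (cE.symm (c (a : MulAut E)) * t * (cE.symm (c (a : MulAut E)))⁻¹) =
          c ((a : MulAut E) * (s : MulAut E) * (a : MulAut E)⁻¹)
        rw [map_mul, map_mul, map_inv, MulEquiv.apply_symm_apply, map_mul, map_mul, map_inv,
          show cE t = c (s : MulAut E) from hts]⟩
    have hR'p : IsPGroup p R' :=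
      ((hRp.map cE.toMonoidHom).comap_of_injective _ c.injective).comap_of_injective _ Subtype.coe_injective
    have hmem : c.symm (cE r) ∈ F.autGroup E := by
      obtain ⟨a, ha, hac⟩ := hmap.ge (hR hr)
      rwa [← show c a = cE r from hac, MulEquiv.symm_apply_apply]
    have h1 : c.symm (cE r) ∈ Inn E := by
      rw [← (hE.isRadical hS hF).2]
      refine ⟨⟨_, hmem⟩, CfsgLib.le_pCore hR'p ⟨r, hr, ?_⟩, rfl⟩
      exact (c.apply_symm_apply (cE r)).symm
    obtain ⟨a, ha⟩ := h1
    have hea : φ a ∈ E' := hφr.le ⟨a, rfl⟩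
    refine ⟨⟨φ a, hEM hea⟩, hea, (ind_iff hEM _ _).mpr fun y => ?_⟩
    have h2 : cE r = c (MulAut.conj a) := by
      rw [show MulAut.conj a = c.symm (cE r) from ha, MulEquiv.apply_symm_apply]
    obtain ⟨y, rfl⟩ := (F.isoOf hφ hφr).surjective y
    show ((cE r _ : E') : Ω) = _
    rw [h2]
    show ((F.isoOf hφ hφr ((MulAut.conj a) ((F.isoOf hφ hφr).symm (F.isoOf hφ hφr y))) : E') : Ω) = _
    rw [MulEquiv.symm_apply_apply, MulAut.conj_apply, map_mul, map_mul, map_inv]
    rfl
  · -- extension from `E'`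
    intro α hα hnormα
    obtain ⟨φ, hφ, hφr, hφe⟩ := F.exists_map_of_mem_autGroup hE'S hα
    obtain ⟨ψ, hψ, hψe⟩ := (hF.isReceptive_of_isFullyNormalized hS hfn').2 E' φ hφ hφr
    have hle : N' ≤ extender S E' φ := by
      intro g hg
      refine (mem_extender_iff (F.apply_mem hφ)).mpr ⟨hN'.1 hg, (heq.ge hg).2, ?_⟩
      have hgE : (⟨g, hNM hg⟩ : normalizerIn S N') ∈ normalizer ((E'.subgroupOf (normalizerIn S N')) : Set _) :=
        mem_normalizer_iff.mpr fun y => mem_normalizer_iff.mp (heq.ge hg).2 (y : Ω)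
      set c0 : MulAut (E'.subgroupOf (normalizerIn S N')) := normalizerMonoidHom _ ⟨_, hgE⟩
      have hc0 : Ind (E'.subgroupOf (normalizerIn S N')) ⟨g, hNM hg⟩ c0 := fun _ => rfl
      obtain ⟨x', hx', hi⟩ := hnormα _ hg c0 hc0
      refine ⟨x', x'.2.1, fun y hy => ?_⟩
      have h2 := (ind_iff hEM _ _).mp hi (cE α y)
      rw [map_mul, map_mul, map_inv, MulAut.mul_apply, MulAut.mul_apply, MulAut.inv_apply_self] at h2
      rw [hφe, hφe]
      refine Eq.trans ?_ h2
      refine congrArg (fun z : E' => ((cE α z : E') : Ω)) (Subtype.ext ?_)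
      exact ((ind_iff hEM _ _).mp hc0 y).symm
    set ψN := ψ.comp (Subgroup.inclusion hle) with hψN
    have hψNm : ψN ∈ F.Hom N' := F.restrict_mem hψ hle
    have hψNr : ψN.range = N' := by
      refine eq_of_le_of_card_ge ?_ ?_
      · rintro _ ⟨g, rfl⟩
        exact heq.le ⟨F.apply_mem hψNm g, apply_mem_normalizer hE'N (φ := φ)
          (fun x => hψe x x.2 _) hφr g (heq.ge g.2).2⟩
      · exact le_of_eq (Nat.card_congr (MonoidHom.ofInjective (F.injective_of_mem hψNm)).toEquiv)
    refine ⟨cN.symm (F.isoOf hψNm hψNr), ?_, fun e he => Subtype.ext ?_⟩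
    · show cN (cN.symm (F.isoOf hψNm hψNr : MulAut N')) ∈ F.autGroup N'
      rw [MulEquiv.apply_symm_apply]
      exact F.isoOf_mem_autGroup hψNm hψNr
    · show ψ ⟨((e : normalizerIn S N') : Ω), hle he⟩ = _
      refine (hψe _ e.2 (hle he)).trans ((hφe _).trans ?_)
      exact congrArg (fun z : E'.subgroupOf (normalizerIn S N') => (((α z : _) : normalizerIn S N') : Ω))
        ((subgroupOfEquivOfLe hEM).symm_apply_apply e)
  · -- inner automorphisms of `N'`
    intro x β hβ
    refine mem_comap.mpr (autInducedBy_le_autGroup hN'.1 ?_)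
    exact subset_closure ⟨x, x.2.1, (ind_iff hNM x β).mp hβ⟩
  · -- Sylow
    intro R hR hRp
    obtain ⟨α, hα, hα'⟩ := syl hNM TN hTN R hR hRp
    refine ⟨α, hα, fun r hr => ?_⟩
    obtain ⟨g, hg, hgN, he⟩ := hα' r hr
    exact ⟨⟨g, hg, hgN⟩, (ind_iff hNM _ _).mpr he⟩
  · -- extension from `N'`
    intro β hβ hnormβ
    obtain ⟨φ, hφ, hφr, hφe⟩ := F.exists_map_of_mem_autGroup hN'.1 hβ
    obtain ⟨ψ, hψ, hψe⟩ := (hF.isReceptive_of_isFullyNormalized hS hN').2 N' φ hφ hφr
    have hle : normalizerIn S N' ≤ extender S N' φ := by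
      intro g hg
      refine (mem_extender_iff (F.apply_mem hφ)).mpr ⟨hg.1, hg.2, ?_⟩
      have hgN : (⟨g, hg⟩ : normalizerIn S N') ∈ normalizer ((N'.subgroupOf (normalizerIn S N')) : Set _) :=
        mem_normalizer_iff.mpr fun y => mem_normalizer_iff.mp hg.2 (y : Ω)
      set c0 : MulAut (N'.subgroupOf (normalizerIn S N')) := normalizerMonoidHom _ ⟨_, hgN⟩
      have hc0 : Ind (N'.subgroupOf (normalizerIn S N')) ⟨g, hg⟩ c0 := fun _ => rfl
      obtain ⟨x', hi⟩ := hnormβ _ c0 hc0
      refine ⟨x', x'.2.1, fun y hy => ?_⟩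
      have h2 := (ind_iff hNM _ _).mp hi (cN β y)
      rw [map_mul, map_mul, map_inv, MulAut.mul_apply, MulAut.mul_apply, MulAut.inv_apply_self] at h2
      rw [hφe, hφe]
      refine Eq.trans ?_ h2
      refine congrArg (fun z : N' => ((cN β z : N') : Ω)) (Subtype.ext ?_)
      exact ((ind_iff hNM _ _).mp hc0 y).symm
    set ψM := ψ.comp (Subgroup.inclusion hle) with hψM
    have hψMm : ψM ∈ F.Hom (normalizerIn S N') := F.restrict_mem hψ hle
    have hψMr : ψM.range = normalizerIn S N' := by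
      refine eq_of_le_of_card_ge ?_ ?_
      · rintro _ ⟨g, rfl⟩
        exact ⟨F.apply_mem hψMm g, apply_mem_normalizer hNM (φ := φ)
          (fun x => hψe x x.2 _) hφr g g.2.2⟩
      · exact le_of_eq (Nat.card_congr (MonoidHom.ofInjective (F.injective_of_mem hψMm)).toEquiv)
    refine ⟨F.isoOf hψMm hψMr, fun n => Subtype.ext ?_⟩
    show ψ ⟨((n : normalizerIn S N') : Ω), hle (n : normalizerIn S N').2⟩ = _
    refine (hψe _ n.2 (hle (n : normalizerIn S N').2)).trans ((hφe _).trans ?_)
    exact congrArg (fun z : N'.subgroupOf (normalizerIn S N') => (((β z : _) : normalizerIn S N') : Ω))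
      ((subgroupOfEquivOfLe hNM).symm_apply_apply n)

end

end CfsgLib.RankThree
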