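import Cfsg.Agent.Lib.Fusion.RankThree.Frame

/-!
Pairs of conjugate transvections: one-sided pairs, opposite pairs, and the decomposition of a module
when no two independent transvections commute.
-/

set_option autoImplicit false
set_option linter.unusedSectionVars false

namespace CfsgLib.RankThree

variable {p : ℕ} [Fact p.Prime] {V : Type*} [AddCommGroup V] [Module (ZMod p) V] {G : Type*} [Group G]
  {ρ : G →* Module.End (ZMod p) V} {a : G} {c : V} {φ : V →ₗ[ZMod p] ZMod p}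

/-- An element acting as a transvection. -/
structure IsTV (ρ : G →* Module.End (ZMod p) V) (g : G) (c : V) (φ : V →ₗ[ZMod p] ZMod p) : Prop where
  eq : ρ g = tv c φ
  cne : c ≠ 0
  fne : φ ≠ 0
  self : φ c = 0

/-- Dependence of centres and of functionals. -/
def Dep (c c' : V) (φ φ' : V →ₗ[ZMod p] ZMod p) : Prop :=
  (∃ k : ZMod p, c' = k • c) ∧ ∃ k : ZMod p, φ' = k • φ

/-- No transvection independent of the given one commutes with it. -/
def NP (ρ : G →* Module.End (ZMod p) V) (c : V) (φ : V →ₗ[ZMod p] ZMod p) : Prop :=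
  ∀ (g : G) (c' : V) (φ' : V →ₗ[ZMod p] ZMod p), IsTV ρ g c' φ' → φ c' = 0 → φ' c = 0 → Dep c c' φ φ'

theorem rho_inv_apply (g : G) (v : V) : ρ g (ρ g⁻¹ v) = v := by
  rw [← Module.End.mul_apply, ← map_mul, mul_inv_cancel, map_one, Module.End.one_apply]

theorem rho_apply_inv (g : G) (v : V) : ρ g⁻¹ (ρ g v) = v := by
  rw [← Module.End.mul_apply, ← map_mul, inv_mul_cancel, map_one, Module.End.one_apply]

theorem conj_tv (h : G) {g : G} (hg : ρ g = tv c φ) :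
    ρ (h * g * h⁻¹) = tv (ρ h c) (φ ∘ₗ ρ h⁻¹) := by
  refine LinearMap.ext fun v => ?_
  rw [map_mul, map_mul, Module.End.mul_apply, Module.End.mul_apply, hg, tv_apply, map_add, map_smul,
    rho_inv_apply, tv_apply, LinearMap.comp_apply]

theorem IsTV.conj (ha : IsTV ρ a c φ) (h : G) : IsTV ρ (h * a * h⁻¹) (ρ h c) (φ ∘ₗ ρ h⁻¹) where
  eq := conj_tv h ha.eq
  cne h0 := ha.cne (by rw [← rho_apply_inv (ρ := ρ) h c, h0, map_zero])
  fne h0 := ha.fne (LinearMap.ext fun v => by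
    have h1 := LinearMap.congr_fun h0 (ρ h v)
    rwa [LinearMap.comp_apply, rho_apply_inv] at h1)
  self := by rw [LinearMap.comp_apply, rho_apply_inv, ha.self]

theorem IsTV.pow_prime (ha : IsTV ρ a c φ) : ρ (a ^ p) = 1 := by
  rw [map_pow, ha.eq, tv_pow ha.self, ZMod.natCast_self, zero_smul, tv_zero]

theorem IsTV.ne_one (ha : IsTV ρ a c φ) : ρ a ≠ 1 := by
  intro h
  refine ha.fne (LinearMap.ext fun v => ?_)
  have h1 := LinearMap.congr_fun h v
  rw [ha.eq, tv_apply, Module.End.one_apply, add_eq_left] at h1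
  exact (smul_eq_zero.mp h1).resolve_right ha.cne

/-- A one-sided pair gives a transvection commuting with both members. -/
theorem oneSided_left (ha : IsTV ρ a c φ) {h : G} (h0 : φ (ρ h c) = 0) (h1 : φ (ρ h⁻¹ c) ≠ 0) :
    ∃ w, IsTV ρ w (ρ h c) (φ (ρ h⁻¹ c) • φ) ∧ ρ (w * a) = ρ (a * w) ∧
      ρ (w * (h * a * h⁻¹)) = ρ (h * a * h⁻¹ * w) := by
  have hb' := ha.conj h
  generalize hb : h * a * h⁻¹ = b at hb' ⊢
  set c' := ρ h c
  set φ' := φ ∘ₗ ρ h⁻¹ with hφ'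
  have hm : φ' c = φ (ρ h⁻¹ c) := rfl
  set m := φ (ρ h⁻¹ c)
  refine ⟨(a * b)⁻¹ * (b * a), ?_⟩
  have hw : ρ ((a * b)⁻¹ * (b * a)) = tv c' (m • φ) := by
    have e1 : ρ (a * b) * tv c' (m • φ) = ρ (b * a) := by
      rw [map_mul, map_mul, ha.eq, hb'.eq]
      refine LinearMap.ext fun v => ?_
      simp only [Module.End.mul_apply, tv_apply, map_add, map_smul, LinearMap.smul_apply, smul_eq_mul,
        hb'.self, h0, ha.self, hm, mul_zero, zero_add, add_zero]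
      module
    calc ρ ((a * b)⁻¹ * (b * a)) = ρ (a * b)⁻¹ * (ρ (a * b) * tv c' (m • φ)) := by rw [e1, ← map_mul]
      _ = tv c' (m • φ) := by rw [← mul_assoc, ← map_mul, inv_mul_cancel, map_one, one_mul]
  have hT : IsTV ρ ((a * b)⁻¹ * (b * a)) c' (m • φ) :=
    ⟨hw, hb'.cne, smul_ne_zero h1 ha.fne, by rw [LinearMap.smul_apply, h0, smul_zero]⟩
  refine ⟨hT, ?_, ?_⟩
  · rw [map_mul ρ _ a, map_mul ρ a _, hw, ha.eq, tv_commute (by rw [LinearMap.smul_apply, ha.self, smul_zero]) h0]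
  · rw [map_mul ρ _ b, map_mul ρ b, hw, hb'.eq,
      tv_commute (by rw [LinearMap.smul_apply, h0, smul_zero]) hb'.self]

/-- The same with either side degenerate. -/
theorem oneSided (ha : IsTV ρ a c φ) {h : G}
    (h0 : (φ (ρ h c) = 0 ∧ φ (ρ h⁻¹ c) ≠ 0) ∨ (φ (ρ h⁻¹ c) = 0 ∧ φ (ρ h c) ≠ 0)) :
    ∃ (w : G) (c' : V) (φ' : V →ₗ[ZMod p] ZMod p), IsTV ρ w c' φ' ∧ ρ (w * a) = ρ (a * w) ∧
      ρ (w * (h * a * h⁻¹)) = ρ (h * a * h⁻¹ * w) := by
  rcases h0 with ⟨h0, h1⟩ | ⟨h0, h1⟩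
  · obtain ⟨w, hw⟩ := oneSided_left ha h0 h1
    exact ⟨w, _, _, hw⟩
  · obtain ⟨w, hw, hwa, hwb⟩ := oneSided_left ha (h := h⁻¹) h0 (by rwa [inv_inv])
    have key : ∀ x : G, ρ (w * x) = ρ (x * w) →
        ρ (h * w * h⁻¹ * (h * x * h⁻¹)) = ρ (h * x * h⁻¹ * (h * w * h⁻¹)) := by
      intro x hx
      calc ρ (h * w * h⁻¹ * (h * x * h⁻¹)) = ρ h * ρ (w * x) * ρ h⁻¹ := by
            rw [← map_mul, ← map_mul]; congr 1; group
        _ = _ := by rw [hx, ← map_mul, ← map_mul]; congr 1; group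
    refine ⟨h * w * h⁻¹, _, _, hw.conj h, ?_, key a hwa⟩
    have h2 := key _ hwb
    rwa [show h * (h⁻¹ * a * h⁻¹⁻¹) * h⁻¹ = a by group] at h2

theorem NP.conj_zero (hNP : NP ρ c φ) (ha : IsTV ρ a c φ) {h : G} (h0 : φ (ρ h c) = 0) :
    Dep c (ρ h c) φ (φ ∘ₗ ρ h⁻¹) := by
  refine hNP _ _ _ (ha.conj h) h0 ?_
  by_contra h1
  obtain ⟨w, hw, -⟩ := oneSided_left ha h0 h1
  obtain ⟨⟨k, hk⟩, -⟩ := hNP w _ _ hw h0 (by rw [LinearMap.smul_apply, ha.self, smul_zero])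
  have h2 := (ha.conj h).self
  rw [hk, map_smul, smul_eq_mul] at h2
  rcases mul_eq_zero.mp h2 with h3 | h3
  · exact (ha.conj h).cne (by rw [hk, h3, zero_smul])
  · exact h1 h3

/-- An opposite conjugate completes a frame. -/
theorem exists_opp (ha : IsTV ρ a c φ) {h : G} (h0 : φ (ρ h c) ≠ 0) (h1 : φ (ρ h⁻¹ c) ≠ 0) :
    ∃ (d : V) (ψ : V →ₗ[ZMod p] ZMod p) (k : ℕ) (r : ZMod p), Opp ρ c d φ ψ a ((h * a * h⁻¹) ^ k) ∧
      r ≠ 0 ∧ ρ (h * a * h⁻¹) = tv d (r • ψ) := by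
  have hb := ha.conj h
  set m := φ (ρ h c) with hm
  set n := φ (ρ h⁻¹ c) with hn
  refine ⟨m⁻¹ • ρ h c, n⁻¹ • (φ ∘ₗ ρ h⁻¹), ((m * n)⁻¹).val, m * n, ?_, mul_ne_zero h0 h1, ?_⟩
  · have P : Pair c (m⁻¹ • ρ h c) φ (n⁻¹ • (φ ∘ₗ ρ h⁻¹)) := by
      refine ⟨ha.self, ?_, ?_, ?_⟩
      · rw [map_smul, ← hm, smul_eq_mul, inv_mul_cancel₀ h0]
      · rw [LinearMap.smul_apply, LinearMap.comp_apply, ← hn, smul_eq_mul, inv_mul_cancel₀ h1]
      · rw [map_smul, LinearMap.smul_apply, hb.self, smul_zero, smul_zero]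
    refine ⟨P, by rw [mat_up, one_smul, ha.eq], ?_⟩
    rw [map_pow, hb.eq, tv_pow hb.self, ZMod.natCast_zmod_val, mat_lo, tv_smul, one_smul, smul_smul]
    congr 2
    field_simp
  · rw [hb.eq, tv_smul, smul_smul, smul_smul]
    rw [show m⁻¹ * (m * n) * n⁻¹ = 1 by field_simp, one_smul]

/-- Without commuting independent transvections the frame of an opposite pair is invariant. -/
theorem decomposition {d : V} {ψ : V →ₗ[ZMod p] ZMod p} {b : G} (ha : IsTV ρ a c φ) (hNP : NP ρ c φ)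
    (O : Opp ρ c d φ ψ a b) :
    (∀ g v, φ v = 0 → ψ v = 0 → φ (ρ g v) = 0 ∧ ψ (ρ g v) = 0) ∧
      ∀ g, (∃ r s : ZMod p, ρ g c = r • c + s • d) ∧ ∃ r s : ZMod p, ρ g d = r • c + s • d := by
  have main : ∀ h, (∃ r s : ZMod p, ρ h c = r • c + s • d) ∧
      ∀ v, φ v = 0 → ψ v = 0 → φ (ρ h⁻¹ v) = 0 := by
    intro h
    set r := ψ (ρ h c) with hr
    set s := φ (ρ h c) with hs
    rcases eq_or_ne s 0 with hs0 | hs0
    · obtain ⟨⟨k, hk⟩, k', hk'⟩ := hNP.conj_zero ha (hs.symm.trans hs0)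
      exact ⟨⟨k, 0, by rw [hk, zero_smul, add_zero]⟩, fun v hv _ => by
        have h2 := LinearMap.congr_fun hk' v
        rwa [LinearMap.comp_apply, LinearMap.smul_apply, hv, smul_zero] at h2⟩
    obtain ⟨g, b', f, hg, hg'⟩ := O.exists_smul r s (Or.inr hs0)
    have h0 : φ (ρ (g⁻¹ * h) c) = 0 := by
      rw [map_mul, Module.End.mul_apply, hg', O.phi_mat, ← hr, ← hs]
      ring
    obtain ⟨⟨k, hk⟩, k', hk'⟩ := hNP.conj_zero ha h0
    refine ⟨⟨k * r, k * s, ?_⟩, fun v hv hv' => ?_⟩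
    · have h2 : ρ h c = ρ g (k • c) := by rw [← hk, map_mul, Module.End.mul_apply, rho_inv_apply]
      rw [h2, map_smul, hg, O.mat_c, smul_add, smul_smul, smul_smul]
    · have h2 := LinearMap.congr_fun hk' v
      rwa [LinearMap.comp_apply, LinearMap.smul_apply, hv, smul_zero, mul_inv_rev, inv_inv, map_mul,
        Module.End.mul_apply, hg, mat_fix _ _ _ _ hv hv'] at h2
  refine ⟨fun g v hv hv' => ⟨?_, ?_⟩, fun g => ⟨(main g).1, ?_⟩⟩
  · have h2 := (main g⁻¹).2 v hv hv'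
    rwa [inv_inv] at h2
  · have h2 := (main (wE a b (1 : ZMod p) * g)⁻¹).2 v hv hv'
    rw [inv_inv, map_mul, Module.End.mul_apply, O.wE_eq one_ne_zero, O.phi_mat, inv_one, zero_mul,
      add_zero, neg_mul, one_mul, neg_eq_zero] at h2
    exact h2
  · obtain ⟨r, s, hrs⟩ := (main (g * wE a b (1 : ZMod p))).1
    refine ⟨-r, -s, ?_⟩
    rw [map_mul, Module.End.mul_apply, O.wE_eq one_ne_zero, O.mat_c, inv_one, zero_smul, zero_add,
      map_smul, neg_smul, one_smul, neg_eq_iff_eq_neg] at hrs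
    rw [hrs]
    module

end CfsgLib.RankThree
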