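import Cfsg.Agent.Lib.Fusion.RankThree.Final

/-!
Passing to the quotient by an invariant subgroup of the Frattini subgroup, and the induction.
-/

set_option autoImplicit false
set_option linter.unusedSectionVars false
set_option linter.style.haveILetI false

namespace CfsgLib.RankThree

open Subgroup
open MaxClassEssential (Vec vec lin)

/-! ### Reduction of automorphisms along a surjection -/

section Red

variable {G G' : Type*} [Group G] [Group G']

/-- `β` is the automorphism induced by `α` along `f`. -/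
def Red (f : G →* G') (α : MulAut G) (β : MulAut G') : Prop := ∀ x, β (f x) = f (α x)

theorem Red.one (f : G →* G') : Red f 1 1 := fun _ => rfl

theorem Red.mul {f : G →* G'} {α α' : MulAut G} {β β' : MulAut G'} (h : Red f α β) (h' : Red f α' β') :
    Red f (α * α') (β * β') := fun x => by
  rw [MulAut.mul_apply, MulAut.mul_apply, h', h]

theorem Red.inv {f : G →* G'} {α : MulAut G} {β : MulAut G'} (h : Red f α β) : Red f α⁻¹ β⁻¹ := fun x => by
  have h1 := h (α⁻¹ x)
  rw [MulAut.apply_inv_self] at h1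
  rw [← h1, MulAut.inv_apply_self]

theorem Red.pow {f : G →* G'} {α : MulAut G} {β : MulAut G'} (h : Red f α β) (k : ℕ) :
    Red f (α ^ k) (β ^ k) := by
  induction k with
  | zero => rw [pow_zero, pow_zero]; exact Red.one f
  | succ k ih => rw [pow_succ, pow_succ]; exact ih.mul h

theorem Red.unique {f : G →* G'} (hf : Function.Surjective f) {α : MulAut G} {β β' : MulAut G'}
    (h : Red f α β) (h' : Red f α β') : β = β' := MulEquiv.ext fun y => by
  obtain ⟨x, rfl⟩ := hf y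
  rw [h x, h' x]

theorem exists_red [Finite G'] {f : G →* G'} (hf : Function.Surjective f) {α : MulAut G}
    (hα : ∀ x, f x = 1 → f (α x) = 1) : ∃ β, Red f α β := by
  set g : G' →* G' := MonoidHom.liftOfSurjective f hf
    ⟨f.comp α.toMonoidHom, fun x hx => MonoidHom.mem_ker.mpr (hα x (MonoidHom.mem_ker.mp hx))⟩ with hg
  have hgc : ∀ x, g (f x) = f (α x) := fun x => MonoidHom.liftOfRightInverse_comp_apply _ _ _ _ x
  have hgs : Function.Surjective g := fun y => by
    obtain ⟨x, rfl⟩ := hf y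
    exact ⟨f (α.symm x), by rw [hgc, MulEquiv.apply_symm_apply]⟩
  exact ⟨MulEquiv.ofBijective g ⟨Finite.injective_iff_surjective.mpr hgs, hgs⟩, hgc⟩

/-- The automorphisms induced by those in `A`. -/
def RedGrp (f : G →* G') (A : Subgroup (MulAut G)) : Subgroup (MulAut G') where
  carrier := {β | ∃ α ∈ A, Red f α β}
  one_mem' := ⟨1, A.one_mem, Red.one f⟩
  mul_mem' := fun ⟨α, hα, h⟩ ⟨α', hα', h'⟩ => ⟨α * α', A.mul_mem hα hα', h.mul h'⟩
  inv_mem' := fun ⟨α, hα, h⟩ => ⟨α⁻¹, A.inv_mem hα, h.inv⟩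

/-- The automorphisms in `A` inducing one in `R`. -/
def RedPre (f : G →* G') (A : Subgroup (MulAut G)) (R : Subgroup (MulAut G')) : Subgroup (MulAut G) where
  carrier := {α | α ∈ A ∧ ∃ β ∈ R, Red f α β}
  one_mem' := ⟨A.one_mem, 1, R.one_mem, Red.one f⟩
  mul_mem' := fun ⟨hα, β, hβ, h⟩ ⟨hα', β', hβ', h'⟩ => ⟨A.mul_mem hα hα', β * β', R.mul_mem hβ hβ', h.mul h'⟩
  inv_mem' := fun ⟨hα, β, hβ, h⟩ => ⟨A.inv_mem hα, β⁻¹, R.inv_mem hβ, h.inv⟩

theorem isPGroup_redPre {p : ℕ} {f : G →* G'} {A : Subgroup (MulAut G)} {R : Subgroup (MulAut G')}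
    (hR : IsPGroup p R) (hker : ∀ α ∈ A, Red f α 1 → ∃ j : ℕ, α ^ p ^ j = 1) :
    IsPGroup p (RedPre f A R) := by
  rintro ⟨α, hα, β, hβ, h⟩
  obtain ⟨k, hk⟩ := hR ⟨β, hβ⟩
  have hk' : β ^ p ^ k = 1 := congrArg Subtype.val hk
  obtain ⟨j, hj⟩ := hker _ (A.pow_mem hα _) (hk' ▸ h.pow (p ^ k))
  refine ⟨k + j, Subtype.ext ?_⟩
  show α ^ p ^ (k + j) = 1
  rw [pow_add, pow_mul]
  exact hj

end Red

/-- Sectional rank passes to quotients. -/
theorem sectional_quot {p k : ℕ} {P : Type*} [Group P] (K : Subgroup P) [K.Normal]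
    (hr : Cfsg.SectionalPRankLE p k P) : Cfsg.SectionalPRankLE p k (P ⧸ K) := by
  intro H L _ V hV hVp
  let π := QuotientGroup.mk' K
  let H' := H.comap π
  let ψ : H' →* H ⧸ L := (QuotientGroup.mk' L).comp (π.subgroupComap H)
  have hψ : Function.Surjective ψ := fun q => by
    obtain ⟨⟨a, ha⟩, rfl⟩ := QuotientGroup.mk'_surjective L q
    obtain ⟨g, rfl⟩ := QuotientGroup.mk'_surjective K a
    exact ⟨⟨g, ha⟩, rfl⟩
  let e := QuotientGroup.quotientKerEquivOfSurjective ψ hψ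
  have h1 := hr H' ψ.ker (V.map e.symm.toMonoidHom) ⟨⟨by
      rintro ⟨_, a, ha, rfl⟩ ⟨_, b, hb, rfl⟩
      refine Subtype.ext ?_
      show e.symm a * e.symm b = e.symm b * e.symm a
      rw [← map_mul, ← map_mul, show a * b = b * a from congrArg Subtype.val (hV.is_comm.comm ⟨a, ha⟩ ⟨b, hb⟩)]⟩⟩
    (by rintro _ ⟨a, ha, rfl⟩; rw [← map_pow, hVp a ha, map_one])
  rwa [← Nat.card_congr (V.equivMapOfInjective _ e.symm.injective).toEquiv] at h1

theorem Ind.red {P P' : Type*} [Group P] [Group P'] {π : P →* P'} {E : Subgroup P} {x : P} {α : MulAut E}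
    {β : MulAut (E.map π)} (h : Ind E x α) (hr : Red (π.subgroupMap E) α β) : Ind (E.map π) (π x) β := by
  intro y
  obtain ⟨e, rfl⟩ := π.subgroupMap_surjective E y
  rw [hr]
  show π ((α e : E) : P) = π x * π e * (π x)⁻¹
  rw [h e, map_mul, map_mul, map_inv]

theorem red_of_ind {P P' : Type*} [Group P] [Group P'] {π : P →* P'} {E : Subgroup P} {x : P} {α : MulAut E}
    {β : MulAut (E.map π)} (h : Ind E x α) (h' : Ind (E.map π) (π x) β) : Red (π.subgroupMap E) α β := by
  intro e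
  refine Subtype.ext ?_
  rw [h']
  show π x * π e * (π x)⁻¹ = π ((α e : E) : P)
  rw [h e, map_mul, map_mul, map_inv]

namespace Hyp

variable {p : ℕ} [hpf : Fact p.Prime] {P : Type*} [Group P] [Finite P] {E N : Subgroup P}
  {A : Subgroup (MulAut E)} {B : Subgroup (MulAut N)}

variable {K : Subgroup P} [hKn : K.Normal]

theorem vec_eq_of_red (h : Hyp p E N A B) {H : Subgroup P} [Fact (IsPGroup p H)] (hK : K ≤ phi H)
    {α : MulAut H} (hr : Red ((QuotientGroup.mk' K).subgroupMap H) α 1) :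
    (lin α : Module.End (ZMod p) (Vec p H)) = 1 := by
  refine LinearMap.ext fun v => ?_
  obtain ⟨e, rfl⟩ := MaxClassEssential.vec_surjective v
  rw [MaxClassEssential.lin_vec, Module.End.one_apply, MaxClassEssential.vec_eq_vec, ← coe_mem_phi]
  refine hK ((QuotientGroup.eq_one_iff _).mp ?_)
  have h1 : QuotientGroup.mk' K ((α e : H) : P) = QuotientGroup.mk' K (e : P) :=
    (congrArg Subtype.val (hr e)).symm
  show QuotientGroup.mk' K ((α e : P) * ((e⁻¹ : H) : P)) = 1
  rw [map_mul, h1, ← map_mul]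
  simp

/-- The quotient by an invariant subgroup of the Frattini subgroup. -/
theorem quot (h : Hyp p E N A B) (hK : K ≤ phi E)
    (hKA : ∀ α ∈ A, ∀ e : E, (e : P) ∈ K → ((α e : E) : P) ∈ K)
    (hKB : ∀ β ∈ B, ∀ n : N, (n : P) ∈ K → ((β n : N) : P) ∈ K) :
    Hyp p (E.map (QuotientGroup.mk' K)) (N.map (QuotientGroup.mk' K))
      (RedGrp ((QuotientGroup.mk' K).subgroupMap E) A) (RedGrp ((QuotientGroup.mk' K).subgroupMap N) B) := by
  haveI := h.fact
  haveI := h.factN
  haveI := h.nrm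
  set π := QuotientGroup.mk' K with hπ
  set fE := π.subgroupMap E with hfEdef
  set fN := π.subgroupMap N with hfNdef
  have hπs : Function.Surjective π := QuotientGroup.mk'_surjective K
  have hEs : Function.Surjective fE := π.subgroupMap_surjective E
  have hNs : Function.Surjective fN := π.subgroupMap_surjective N
  have hπ1 : ∀ x : P, π x = 1 ↔ x ∈ K := fun x => QuotientGroup.eq_one_iff x
  have hKE : K ≤ E := hK.trans phi_le
  have hKN : K ≤ phi N := hK.trans h.phi_le_phi_N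
  have hEc : (E.map π).comap π = E := comap_map_eq_self (by rw [hπ, QuotientGroup.ker_mk']; exact hKE)
  have hNc : (N.map π).comap π = N := comap_map_eq_self (by
    rw [hπ, QuotientGroup.ker_mk']; exact hKE.trans h.le_N)
  haveI : (N.map π).Normal := h.nrm.map π hπs
  -- automorphisms descend
  have redA : ∀ α ∈ A, ∃ β, Red fE α β := fun α hα => exists_red hEs fun e he => by
    refine Subtype.ext ((hπ1 _).mpr (hKA α hα e ((hπ1 _).mp ?_)))
    exact congrArg Subtype.val he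
  have redB : ∀ β ∈ B, ∃ γ, Red fN β γ := fun β hβ => exists_red hNs fun e he => by
    refine Subtype.ext ((hπ1 _).mpr (hKB β hβ e ((hπ1 _).mp ?_)))
    exact congrArg Subtype.val he
  -- the kernels
  have kerA : ∀ α ∈ A, Red fE α 1 → ∃ j : ℕ, α ^ p ^ j = 1 := fun α _ hr => by
    obtain ⟨j, hj⟩ := MaxClassEssential.isPGroup_ker_lin
      ⟨α, MonoidHom.mem_ker.mpr (h.vec_eq_of_red hK hr)⟩
    exact ⟨j, congrArg Subtype.val hj⟩
  have kerB : ∀ β ∈ B, Red fN β 1 → ∃ j : ℕ, β ^ p ^ j = 1 := fun β _ hr => by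
    obtain ⟨j, hj⟩ := MaxClassEssential.isPGroup_ker_lin
      ⟨β, MonoidHom.mem_ker.mpr (h.vec_eq_of_red hKN hr)⟩
    exact ⟨j, congrArg Subtype.val hj⟩
  -- inner automorphisms in `A` upstairs
  have indA : ∀ x ∈ N, ∀ {β}, Ind (E.map π) (π x) β → ∃ hx : x ∈ N, Red fE (h.cE x hx) β := fun x hx β hb =>
    ⟨hx, red_of_ind (h.ind_cE hx) hb⟩
  refine ⟨h.five, h.pg.to_quotient K, sectional_quot K h.rank, inferInstance, ?_, ?_, ?_, ?_, ?_, ?_, ?_, ?_, ?_, ?_,
    ?_, ?_⟩
  · -- the normaliser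
    ext x'
    obtain ⟨x, rfl⟩ := hπs x'
    constructor
    · intro hx
      refine mem_map_of_mem _ (h.nE ▸ ?_)
      refine mem_normalizer_iff.mpr fun e => ?_
      have h1 := mem_normalizer_iff.mp hx (π e)
      rw [← map_mul, ← map_inv, ← map_mul] at h1
      change e ∈ E ↔ x * e * x⁻¹ ∈ E
      rw [← hEc]
      exact h1
    · intro hx
      have hxN : x ∈ N := hNc.le hx
      have h2 := mem_normalizer_iff.mp (h.nE.ge hxN)
      refine mem_normalizer_iff.mpr fun e' => ?_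
      obtain ⟨e, rfl⟩ := hπs e'
      rw [← map_mul, ← map_inv, ← map_mul]
      show e ∈ (E.map π).comap π ↔ x * e * x⁻¹ ∈ (E.map π).comap π
      rw [hEc]
      exact h2 e
  · -- the index
    rw [relIndex_map_map, hπ, QuotientGroup.ker_mk', sup_eq_left.mpr hKE, sup_eq_left.mpr (hKE.trans h.le_N)]
    exact h.idx
  · intro ht
    exact h.ltN (by rw [← hNc, ht, comap_top])
  · -- the Frattini quotient
    have hker : fE.ker ≤ frattini E := fun e he =>
      coe_mem_phi.mp (hK ((hπ1 _).mp (congrArg Subtype.val (MonoidHom.mem_ker.mp he))))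
    have hpgE : IsPGroup p (E.map π) := (h.pg.to_quotient K).to_subgroup _
    haveI : ((frattini E).map fE).Normal := (inferInstance : (frattini E).Normal).map _ hEs
    have h1 : frattini (E.map π) ≤ (frattini E).map fE :=
      CfsgLib.RankFrattini.frattini_le_of_elementary hpgE _
        (fun a b => by
          obtain ⟨a, rfl⟩ := hEs a
          obtain ⟨b, rfl⟩ := hEs b
          rw [← map_commutatorElement]
          exact mem_map_of_mem _ (CfsgLib.commutator_le_frattini_pGroup (h.pg.to_subgroup E)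
            (commutator_mem_commutator (mem_top a) (mem_top b))))
        (fun a => by
          obtain ⟨a, rfl⟩ := hEs a
          rw [← map_pow]
          exact mem_map_of_mem _ (CfsgLib.pow_mem_frattini_pGroup (h.pg.to_subgroup E) a))
    have h2 : (frattini E).map fE ≤ frattini (E.map π) := map_le_iff_le_comap.mpr
      (CfsgLib.RankFrattini.frattini_le_of_elementary (h.pg.to_subgroup E) _
        (fun a b => by
          rw [mem_comap, map_commutatorElement]
          exact CfsgLib.commutator_le_frattini_pGroup hpgE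
            (commutator_mem_commutator (mem_top (fE a)) (mem_top (fE b))))
        (fun a => by
          rw [mem_comap, map_pow]
          exact CfsgLib.pow_mem_frattini_pGroup hpgE (fE a)))
    rw [le_antisymm h1 h2, index_map_eq _ hEs hker]
    exact h.d3
  · -- centralisers
    intro x' hx' hc
    obtain ⟨x, hx, rfl⟩ := hx'
    refine mem_map_of_mem _ (h.mem_of_lin hx (h.vec_eq_of_red hK ?_))
    refine red_of_ind (h.ind_cE hx) ?_
    intro y
    obtain ⟨e, rfl⟩ := hEs y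
    show π e = π x * π e * (π x)⁻¹
    rw [hc (π e) (mem_map_of_mem _ e.2), mul_inv_cancel_right]
  · -- inner automorphisms
    rintro x' hx' β hb
    obtain ⟨x, hx, rfl⟩ := hx'
    exact ⟨h.cE x hx, h.cE_mem hx, red_of_ind (h.ind_cE hx) hb⟩
  · -- Sylow
    intro R hR hRp
    obtain ⟨α, hα, hα'⟩ := h.sylA (RedPre fE A R) (fun _ hh => hh.1) (isPGroup_redPre hRp kerA)
    obtain ⟨β, hβ⟩ := redA α hα
    refine ⟨β, ⟨α, hα, hβ⟩, fun r hr => ?_⟩
    obtain ⟨s, hs, hsr⟩ := hR hr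
    obtain ⟨x, hx, hi⟩ := hα' s ⟨hs, r, hr, hsr⟩
    exact ⟨π x, mem_map_of_mem _ hx, hi.red ((hβ.mul hsr).mul hβ.inv)⟩
  · -- the core
    intro R hR hinv hRp r hr
    obtain ⟨s, hs, hsr⟩ := hR hr
    obtain ⟨x, hx, hi⟩ := h.core (RedPre fE A R) (fun _ hh => hh.1)
      (fun α hα t ⟨ht, b, hb, htb⟩ => by
        obtain ⟨β, hβ⟩ := redA α hα
        exact ⟨A.mul_mem (A.mul_mem hα ht) (A.inv_mem hα), _, hinv β ⟨α, hα, hβ⟩ b hb,
          (hβ.mul htb).mul hβ.inv⟩)
      (isPGroup_redPre hRp kerA) s ⟨hs, r, hr, hsr⟩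
    exact ⟨π x, mem_map_of_mem _ hx, hi.red hsr⟩
  · -- extension from `E`
    rintro β ⟨α, hα, hαβ⟩ hnorm
    obtain ⟨γ, hγ, hγα⟩ := h.extA α hα fun x hx c hc => by
      have hcA := h.conjA x hx c hc
      obtain ⟨c', hc'⟩ := redA c hcA
      obtain ⟨x2', hx2, hi⟩ := hnorm (π x) (mem_map_of_mem _ hx) c' (hc.red hc')
      obtain ⟨x2, hx2, rfl⟩ := hx2
      have hr1 : Red fE (h.cE x2 hx2) (β * c' * β⁻¹) := red_of_ind (h.ind_cE hx2) hi
      have hr2 : Red fE (α * c * α⁻¹) (β * c' * β⁻¹) := (hαβ.mul hc').mul hαβ.inv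
      have hl := h.vec_eq_of_red hK ((mul_inv_cancel (β * c' * β⁻¹)) ▸ hr2.mul hr1.inv)
      obtain ⟨e, he⟩ := h.inner_of_lin (A.mul_mem (A.mul_mem (A.mul_mem hα hcA) (A.inv_mem hα))
        (A.inv_mem (h.cE_mem hx2))) hl
      exact ⟨(e : P) * x2, N.mul_mem (h.le_N e.2) hx2, by
        rw [mul_inv_eq_iff_eq_mul.mp he]; exact (ind_conj e).mul (h.ind_cE hx2)⟩
    obtain ⟨γ', hγ'⟩ := redB γ hγ
    refine ⟨γ', ⟨γ, hγ, hγ'⟩, fun y hy => ?_⟩
    obtain ⟨e, rfl⟩ := hEs y
    have h1 := congrArg Subtype.val (hγ' ⟨e, h.le_N e.2⟩)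
    exact h1.trans ((congrArg π (hγα e (h.le_N e.2))).trans (congrArg Subtype.val (hαβ e)).symm)
  · -- inner automorphisms of `N`
    intro x' β hb
    obtain ⟨x, rfl⟩ := hπs x'
    exact ⟨h.conjN x, h.conjB x _ (h.ind_conjN x), red_of_ind (h.ind_conjN x) hb⟩
  · -- Sylow in `B`
    intro R hR hRp
    obtain ⟨α, hα, hα'⟩ := h.sylB (RedPre fN B R) (fun _ hh => hh.1) (isPGroup_redPre hRp kerB)
    obtain ⟨β, hβ⟩ := redB α hα
    refine ⟨β, ⟨α, hα, hβ⟩, fun r hr => ?_⟩
    obtain ⟨s, hs, hsr⟩ := hR hr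
    obtain ⟨x, hi⟩ := hα' s ⟨hs, r, hr, hsr⟩
    exact ⟨π x, hi.red ((hβ.mul hsr).mul hβ.inv)⟩
  · -- extension from `N`
    rintro β ⟨γ, hγ, hγβ⟩ hnorm
    set T : Subgroup (MulAut N) := (h.conjN).range with hTdef
    set cb : P ⧸ K →* MulAut (N.map π) := MulAut.conjNormal with hcb
    have hcbi : ∀ x, Ind (N.map π) x (cb x) := fun x n => MulAut.conjNormal_apply x n
    set M := RedPre fN B cb.range with hMdef
    have hTp : IsPGroup p T := h.pg.of_surjective h.conjN.rangeRestrict h.conjN.rangeRestrict_surjective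
    have hcp : IsPGroup p cb.range :=
      (h.pg.to_quotient K).of_surjective cb.rangeRestrict cb.rangeRestrict_surjective
    have hTM : T ≤ M := by
      rintro _ ⟨x, rfl⟩
      exact ⟨h.conjB x _ (h.ind_conjN x), cb (π x), ⟨π x, rfl⟩, red_of_ind (h.ind_conjN x) (hcbi (π x))⟩
    have hmax : ∀ R ≤ M, IsPGroup p R → Nat.card R ≤ Nat.card T := by
      intro R hR hRp
      obtain ⟨β0, -, hβ0⟩ := h.sylB R (fun r hr => (hR hr).1) hRp
      have h1 : R.map (MulAut.conj β0).toMonoidHom ≤ T := by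
        rintro _ ⟨r, hr, rfl⟩
        obtain ⟨x, hx⟩ := hβ0 r hr
        exact ⟨x, (h.ind_conjN x).eq hx⟩
      refine le_trans (le_of_eq ?_) (card_le_of_le h1)
      exact Nat.card_congr (R.equivMapOfInjective _ (MulAut.conj β0).injective).toEquiv
    obtain ⟨m, ⟨hmB, m', ⟨y', rfl⟩, hm⟩, hmT⟩ := exists_normalizing (β := γ) hTp hTM hmax fun t ht => by
      obtain ⟨x, rfl⟩ := ht
      obtain ⟨x', hx'⟩ := hnorm (π x) (cb (π x)) (hcbi _)
      exact ⟨B.mul_mem (B.mul_mem hγ (h.conjB x _ (h.ind_conjN x))) (B.inv_mem hγ), cb x', ⟨x', rfl⟩,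
        (hcbi x').eq hx' ▸ (hγβ.mul (red_of_ind (h.ind_conjN x) (hcbi (π x)))).mul hγβ.inv⟩
    obtain ⟨ψ, hψ⟩ := h.extB (m * γ) (B.mul_mem hmB hγ) fun x c hc => by
      obtain ⟨x', hx'⟩ := hmT c ⟨x, (h.ind_conjN x).eq hc⟩
      exact ⟨x', hx' ▸ h.ind_conjN x'⟩
    obtain ⟨ψ', hψ'⟩ := exists_red hπs (α := ψ) fun x hx => by
      have hxK : x ∈ K := (hπ1 x).mp hx
      rw [hπ1, hψ ⟨x, h.le_N (hKE hxK)⟩]
      exact hKB _ (B.mul_mem hmB hγ) _ hxK
    refine ⟨MulAut.conj y'⁻¹ * ψ', fun n' => ?_⟩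
    obtain ⟨n, rfl⟩ := hNs n'
    have h1 : ψ' (π n) = y' * (β (fN n) : P ⧸ K) * y'⁻¹ := by
      rw [hψ', hψ, ← hcbi y' (β (fN n))]
      exact (congrArg Subtype.val ((hm.mul hγβ) n)).symm
    rw [show ((fN n : N.map π) : P ⧸ K) = π n from rfl, MulAut.mul_apply, h1, MulAut.conj_apply]
    group

end Hyp

universe v

theorem false_aux {p : ℕ} [Fact p.Prime] : ∀ (n : ℕ) {P : Type v} [Group P] [Finite P] {E N : Subgroup P}
    {A : Subgroup (MulAut E)} {B : Subgroup (MulAut N)}, Nat.card P = n → Hyp p E N A B → False := by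
  intro n
  induction n using Nat.strong_induction_on with
  | _ n IH =>
    intro P _ _ E N A B hn h
    haveI := h.fact
    haveI := h.factN
    refine h.not_irr fun K hK hKA hKB => ?_
    by_contra hne
    haveI : K.Normal := ⟨fun k hk x => by
      have h1 := hKB (h.conjN x) (h.conjB x _ (h.ind_conjN x)) ⟨k, h.le_N (phi_le (hK hk))⟩ hk
      rwa [h.coe_conjN] at h1⟩
    refine IH _ ?_ rfl (h.quot hK hKA hKB)
    rw [← hn, Subgroup.card_eq_card_quotient_mul_card_subgroup K]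
    exact lt_mul_of_one_lt_right Nat.card_pos (one_lt_card_iff_ne_bot K |>.mpr hne)

/-- The configuration is impossible. -/
theorem Hyp.false {p : ℕ} [Fact p.Prime] {P : Type v} [Group P] [Finite P] {E N : Subgroup P}
    {A : Subgroup (MulAut E)} {B : Subgroup (MulAut N)} (h : Hyp p E N A B) : False :=
  false_aux _ rfl h

end CfsgLib.RankThree
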