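import Cfsg.Agent.Lib.Fusion.RankThree.Opposite

/-!
Two noncommuting unipotent maps of a two-dimensional module.
-/

set_option autoImplicit false
set_option linter.unusedSectionVars false
set_option linter.style.haveILetI false

namespace CfsgLib.RankThree

variable {p : ℕ} [Fact p.Prime] {V : Type*} [AddCommGroup V] [Module (ZMod p) V] [Module.Finite (ZMod p) V]

/-- In dimension two a unipotent map is a transvection. -/
theorem exists_tv_two (hV : Module.finrank (ZMod p) V = 2) {f : Module.End (ZMod p) V} (h1 : f ≠ 1) {k : ℕ}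
    (hf : f ^ p ^ k = 1) :
    ∃ (c : V) (φ : V →ₗ[ZMod p] ZMod p), c ≠ 0 ∧ φ ≠ 0 ∧ φ c = 0 ∧ f = tv c φ := by
  haveI : Nontrivial V := Module.nontrivial_of_finrank_eq_succ hV
  have h2 : (f - 1) ^ 2 = 0 := hV ▸ sub_one_pow_finrank hf
  set n := f - 1 with hn
  have hle : LinearMap.range n ≤ LinearMap.ker n := by
    rintro _ ⟨v, rfl⟩
    rw [LinearMap.mem_ker, ← Module.End.mul_apply, ← pow_two, h2, LinearMap.zero_apply]
  have hr : Module.finrank (ZMod p) (LinearMap.range n) = 1 := by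
    have h := LinearMap.finrank_range_add_finrank_ker n
    have h' := Submodule.finrank_mono hle
    have h0 : Module.finrank (ZMod p) (LinearMap.range n) ≠ 0 := fun h0 => h1 (by
      rw [Submodule.finrank_eq_zero, LinearMap.range_eq_bot] at h0
      exact sub_eq_zero.mp h0)
    omega
  obtain ⟨⟨c, hcm⟩, hc0, hspan⟩ := finrank_eq_one_iff'.mp hr
  have hc : c ≠ 0 := fun h => hc0 (Subtype.ext h)
  obtain ⟨χ, hχ⟩ := Module.Projective.exists_dual_ne_zero (ZMod p) hc
  refine ⟨c, (χ c)⁻¹ • χ.comp n, hc, ?_, ?_, ?_⟩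
  · intro h0
    obtain ⟨v, hv⟩ := hcm
    have := LinearMap.congr_fun h0 v
    simp [hv, hχ] at this
  · obtain ⟨v, hv⟩ := hcm
    have h3 : n c = 0 := by rw [← hv, ← Module.End.mul_apply, ← pow_two, h2, LinearMap.zero_apply]
    rw [LinearMap.smul_apply, LinearMap.comp_apply, h3, map_zero, smul_zero]
  · refine LinearMap.ext fun v => ?_
    obtain ⟨k, hk⟩ := hspan ⟨n v, LinearMap.mem_range_self n v⟩
    have hk' : k • c = n v := congrArg Subtype.val hk
    rw [tv_apply, LinearMap.smul_apply, LinearMap.comp_apply, ← hk', map_smul, smul_eq_mul, smul_eq_mul,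
      show (χ c)⁻¹ * (k * χ c) = k by field_simp, hk', hn, LinearMap.sub_apply, Module.End.one_apply]
    abel

variable {c d : V} {φ ψ : V →ₗ[ZMod p] ZMod p}

/-- A pair spans a two-dimensional module. -/
theorem Pair.decomp_two (P : Pair c d φ ψ) (hV : Module.finrank (ZMod p) V = 2) (v : V) :
    v = ψ v • c + φ v • d := by
  let L : V →ₗ[ZMod p] ZMod p × ZMod p := φ.prod ψ
  have hsurj : Function.Surjective L := fun x => ⟨x.1 • d + x.2 • c, by
    show (φ (x.1 • d + x.2 • c), ψ (x.1 • d + x.2 • c)) = x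
    simp [P.fc, P.fd, P.gc, P.gd]⟩
  have hinj : Function.Injective L := (LinearMap.injective_iff_surjective_of_finrank_eq_finrank
    (by rw [Module.finrank_prod, Module.finrank_self, hV])).mpr hsurj
  refine hinj ?_
  show (φ v, ψ v) = (φ (ψ v • c + φ v • d), ψ (ψ v • c + φ v • d))
  simp [P.fc, P.fd, P.gc, P.gd]

theorem Pair.mat_neg_one (P : Pair c d φ ψ) (hV : Module.finrank (ZMod p) V = 2) :
    mat c d φ ψ (-1) 0 0 (-1) = -1 := by
  refine LinearMap.ext fun v => ?_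
  rw [LinearMap.neg_apply, Module.End.one_apply]
  conv_lhs => rw [P.decomp_two hV v]
  rw [map_add, map_smul, map_smul, P.mat_c, P.mat_d]
  conv_rhs => rw [P.decomp_two hV v]
  module

variable {G : Type*} [Group G] {σ : G →* Module.End (ZMod p) V} {a b : G}

/-- Noncommuting unipotent maps in dimension two. -/
theorem exists_frame_two (hV : Module.finrank (ZMod p) V = 2) (ha : σ a ^ p = 1) (hb : σ b ^ p = 1)
    (hne : σ a * σ b ≠ σ b * σ a) :
    ∃ (c d : V) (φ ψ : V →ₗ[ZMod p] ZMod p) (m : ZMod p), Pair c d φ ψ ∧ m ≠ 0 ∧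
      σ a = mat c d φ ψ 1 1 0 1 ∧ σ b = mat c d φ ψ 1 0 m 1 := by
  have ha1 : σ a ≠ 1 := fun h => hne (by rw [h, one_mul, mul_one])
  have hb1 : σ b ≠ 1 := fun h => hne (by rw [h, one_mul, mul_one])
  obtain ⟨c, φ, hc, hφ, hφc, hae⟩ := exists_tv_two hV ha1 (k := 1) (by rwa [pow_one])
  obtain ⟨c', φ', hc', hφ', hφc', hbe⟩ := exists_tv_two hV hb1 (k := 1) (by rwa [pow_one])
  have line : ∀ {φ : V →ₗ[ZMod p] ZMod p} {c : V}, φ ≠ 0 → c ≠ 0 → φ c = 0 → ∀ v, φ v = 0 →
      ∃ k : ZMod p, v = k • c := by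
    intro φ c hφ hc hφc v hv
    have h1 : Module.finrank (ZMod p) (LinearMap.ker φ) = 1 := by
      have h := LinearMap.finrank_range_add_finrank_ker φ
      have h2 : LinearMap.range φ = ⊤ := LinearMap.range_eq_top.mpr (φ.surjective hφ)
      rw [h2, finrank_top, Module.finrank_self, hV] at h
      omega
    obtain ⟨k, hk⟩ := (finrank_eq_one_iff_of_nonzero' (⟨c, hφc⟩ : LinearMap.ker φ)
      (fun h0 => hc (congrArg Subtype.val h0))).mp h1 ⟨v, hv⟩
    exact ⟨k, (congrArg Subtype.val hk).symm⟩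
  have h0 : φ c' ≠ 0 := fun h0 => hne (by
    obtain ⟨k, hk⟩ := line hφ hc hφc c' h0
    have h1 : φ' c = 0 := by
      rw [hk, map_smul, smul_eq_mul] at hφc'
      rcases mul_eq_zero.mp hφc' with h2 | h2
      · exact absurd (by rw [hk, h2, zero_smul]) hc'
      · exact h2
    rw [hae, hbe, tv_commute h0 h1])
  have h1 : φ' c ≠ 0 := fun h1 => h0 (by
    obtain ⟨k, hk⟩ := line hφ' hc' hφc' c h1
    rw [hk, map_smul, smul_eq_mul] at hφc
    rcases mul_eq_zero.mp hφc with h2 | h2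
    · exact absurd (by rw [hk, h2, zero_smul]) hc
    · exact h2)
  refine ⟨c, (φ c')⁻¹ • c', φ, (φ' c)⁻¹ • φ', φ c' * φ' c, ?_, mul_ne_zero h0 h1, ?_, ?_⟩
  · refine ⟨hφc, ?_, ?_, ?_⟩
    · rw [map_smul, smul_eq_mul, inv_mul_cancel₀ h0]
    · rw [LinearMap.smul_apply, smul_eq_mul, inv_mul_cancel₀ h1]
    · rw [map_smul, LinearMap.smul_apply, hφc', smul_zero, smul_zero]
  · rw [mat_up, one_smul, hae]
  · rw [mat_lo, smul_smul, tv_smul, smul_smul, hbe]
    rw [show (φ c')⁻¹ * (φ c' * φ' c * (φ' c)⁻¹) = 1 by field_simp, one_smul]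

/-- The group generated contains minus one. -/
theorem exists_neg_one (hV : Module.finrank (ZMod p) V = 2) (ha : σ a ^ p = 1) (hb : σ b ^ p = 1)
    (hne : σ a * σ b ≠ σ b * σ a) : ∃ g ∈ Subgroup.closure ({a, b} : Set G), σ g = -1 := by
  obtain ⟨c, d, φ, ψ, m, P, hm, hae, hbe⟩ := exists_frame_two hV ha hb hne
  have O : Opp σ c d φ ψ a (b ^ m⁻¹.val) := by
    refine ⟨P, hae, ?_⟩
    rw [map_pow, hbe, mat_lo, mat_lo, tv_pow (by rw [LinearMap.smul_apply, P.gd, smul_zero]),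
      ZMod.natCast_zmod_val, smul_smul, inv_mul_cancel₀ hm, one_smul]
  have hA : a ∈ Subgroup.closure ({a, b} : Set G) := Subgroup.subset_closure (Set.mem_insert a {b})
  have hB : b ^ m⁻¹.val ∈ Subgroup.closure ({a, b} : Set G) :=
    Subgroup.pow_mem _ (Subgroup.subset_closure (Set.mem_insert_of_mem a (Set.mem_singleton b))) _
  refine ⟨torE a (b ^ m⁻¹.val) (-1 : ZMod p), torE_mem hA hB (-1 : ZMod p), ?_⟩
  rw [O.torE_eq (neg_ne_zero.mpr one_ne_zero), inv_neg, inv_one, P.mat_neg_one hV]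

/-- With the relation of the rotation the action is the natural one. -/
theorem exists_natural (hV : Module.finrank (ZMod p) V = 2) (ha : σ a ^ p = 1) (hb : σ b ^ p = 1)
    (hne : σ a * σ b ≠ σ b * σ a) (hrel : σ (a * b⁻¹ * a * a) = σ (b⁻¹ * (a * b⁻¹ * a))) :
    ∃ (c d : V) (φ ψ : V →ₗ[ZMod p] ZMod p), Opp σ c d φ ψ a b := by
  obtain ⟨c, d, φ, ψ, m, P, hm, hae, hbe⟩ := exists_frame_two hV ha hb hne
  have hinv : σ b⁻¹ = mat c d φ ψ 1 0 (-m) 1 := by
    have e : mat c d φ ψ 1 0 m 1 * mat c d φ ψ 1 0 (-m) 1 = 1 := by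
      rw [P.mat_mul, ← mat_one (c := c) (d := d) (φ := φ) (ψ := ψ)]
      congr 1 <;> ring
    calc σ b⁻¹ = σ b⁻¹ * (σ b * mat c d φ ψ 1 0 (-m) 1) := by rw [hbe, e, mul_one]
      _ = _ := by rw [← mul_assoc, ← map_mul, inv_mul_cancel, map_one, one_mul]
  have h1 := congrArg (fun f : Module.End (ZMod p) V => φ (f c)) hrel
  simp only [map_mul, hae, hinv, Module.End.mul_apply, P.phi_mat, P.psi_mat, P.fc, P.gc] at h1
  have h2 : m * (1 - m) = 0 := by linear_combination h1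
  have h3 : m = 1 := (sub_eq_zero.mp ((mul_eq_zero.mp h2).resolve_left hm)).symm
  exact ⟨c, d, φ, ψ, P, hae, by rw [hbe, h3]⟩

end CfsgLib.RankThree
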