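import Cfsg.Agent.Lib.Fusion.RankThree.Act
import Cfsg.Agent.Lib.Fusion.RankThree.Two
import Cfsg.Agent.Lib.MaxClassResidual.HH
import Mathlib.LinearAlgebra.Determinant

/-!
The inner automorphism cannot act regularly on the Frattini quotient.
-/

set_option autoImplicit false
set_option linter.unusedSectionVars false
set_option linter.style.haveILetI false

namespace CfsgLib.RankThree

open Subgroup
open MaxClassEssential (Vec vec lin)

variable {p : ℕ} [hpf : Fact p.Prime] {P : Type*} [Group P] [Finite P] {E N : Subgroup P}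
  {A : Subgroup (MulAut E)} {B : Subgroup (MulAut N)}

/-- No nontrivial subgroup of the Frattini subgroup is invariant under both automorphism groups. -/
def Irr (E N : Subgroup P) (A : Subgroup (MulAut E)) (B : Subgroup (MulAut N)) : Prop :=
  ∀ K : Subgroup P, K ≤ phi E → (∀ α ∈ A, ∀ e : E, (e : P) ∈ K → ((α e : E) : P) ∈ K) →
    (∀ β ∈ B, ∀ n : N, (n : P) ∈ K → ((β n : N) : P) ∈ K) → K = ⊥

namespace Hyp

/-- A subgroup of the centre of `N` elements of order `p`. -/
theorem omegaZ_invB (h : Hyp p E N A B) (hc : ∀ x ∈ N, ∀ a ∈ omegaZ E p, x * a = a * x) :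
    ∀ β ∈ B, ∀ n : N, (n : P) ∈ omegaZ E p → ((β n : N) : P) ∈ omegaZ E p := by
  intro β _ n hn
  have hcen : ∀ y : N, β n * y = y * β n := fun y => by
    obtain ⟨y', rfl⟩ := β.surjective y
    rw [← map_mul, ← map_mul]
    exact congrArg β (Subtype.ext (hc y' y'.2 n hn).symm)
  have hc' : ∀ e ∈ E, ((β n : N) : P) * e = e * (β n : N) := fun e he =>
    congrArg Subtype.val (hcen ⟨e, h.le_N he⟩)
  refine ⟨h.cen _ (β n).2 hc', ?_, hc'⟩
  rw [← SubmonoidClass.coe_pow, ← map_pow, show n ^ p = 1 from Subtype.ext (by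
    rw [SubmonoidClass.coe_pow]; exact hn.2.1), map_one]
  rfl

section Frattini

variable [hfE : Fact (IsPGroup p E)]

theorem nil_cube (h : Hyp p E N A B) {u : P} (hu : u ∈ N) : (h.rho ⟨_, h.cE_mem hu⟩ - 1) ^ 3 = 0 := by
  haveI := h.finrank_pos
  have h1 := sub_one_pow_finrank (f := h.rho ⟨_, h.cE_mem hu⟩) (k := 1)
    (by rw [pow_one]; exact h.lin_cE_pow hu)
  rwa [h.finrank_eq] at h1

/-- Coordinates for a regular nilpotent map. -/
theorem cyclic_coord {V : Type*} [AddCommGroup V] [Module (ZMod p) V] [Module.Finite (ZMod p) V]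
    (hV : Module.finrank (ZMod p) V = 3) {n : Module.End (ZMod p) V} (h3 : n ^ 3 = 0) {v : V}
    (hv : n (n v) ≠ 0) (w : V) : ∃ r s t : ZMod p, w = r • v + (s • n v + t • n (n v)) := by
  have hn3 : ∀ w, n (n (n w)) = 0 := fun w => by
    have h4 := LinearMap.congr_fun h3 w
    rwa [pow_succ, pow_succ, pow_one] at h4
  let L : (ZMod p × ZMod p × ZMod p) →ₗ[ZMod p] V :=
    (LinearMap.toSpanSingleton (ZMod p) V v).coprod
      ((LinearMap.toSpanSingleton (ZMod p) V (n v)).coprod (LinearMap.toSpanSingleton (ZMod p) V (n (n v))))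
  have hL : ∀ x, L x = x.1 • v + (x.2.1 • n v + x.2.2 • n (n v)) := fun x => rfl
  have hinj : Function.Injective L := by
    rw [injective_iff_map_eq_zero]
    rintro ⟨r, s, t⟩ hx
    rw [hL] at hx
    have e1 : r = 0 := by
      have h4 := congrArg (fun z => n (n z)) hx
      simp only [map_add, map_smul, map_zero, hn3, smul_zero, add_zero] at h4
      exact (smul_eq_zero.mp h4).resolve_right hv
    subst e1
    simp only [zero_smul, zero_add] at hx
    have e2 : s = 0 := by
      have h4 := congrArg n hx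
      simp only [map_add, map_smul, map_zero, hn3, smul_zero, add_zero] at h4
      exact (smul_eq_zero.mp h4).resolve_right hv
    subst e2
    simp only [zero_smul, zero_add] at hx
    rw [(smul_eq_zero.mp hx).resolve_right hv]
    rfl
  obtain ⟨⟨r, s, t⟩, hx⟩ := (LinearMap.injective_iff_surjective_of_finrank_eq_finrank
    (by rw [Module.finrank_prod, Module.finrank_prod, Module.finrank_self, hV])).mp hinj w
  exact ⟨r, s, t, by rw [← hx, hL]⟩

/-- An element of exponent `p` on the quotient is conjugate to a power of the inner one. -/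
theorem exists_conj_pow (h : Hyp p E N A B) {u : P} (hu : u ∈ N) (hu' : u ∉ E) {r : A}
    (hr : h.rho r ^ p = 1) :
    ∃ (α : A) (i : ℕ), h.rho (α * r * α⁻¹) = h.rho ⟨_, h.cE_mem hu⟩ ^ i := by
  set R := A ⊓ (closure ({h.linU r} : Set _)).comap h.linU
  have hexp : ∀ x ∈ closure ({h.linU r} : Set _), x ^ p = 1 := exp_closure
    (by rintro a rfl b rfl; rfl) (by rintro a rfl; exact linU_pow h hr)
  have hRp : IsPGroup p R := fun x => by
    have h1 : (x : MulAut E) ^ p ∈ (lin : MulAut E →* Module.End (ZMod p) (Vec p E)).ker := by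
      rw [MonoidHom.mem_ker, map_pow, ← coe_linU h, ← Units.val_pow_eq_pow_val, hexp _ x.2.2, Units.val_one]
    obtain ⟨k, hk⟩ := MaxClassEssential.isPGroup_ker_lin ⟨_, h1⟩
    refine ⟨k + 1, Subtype.ext ?_⟩
    rw [SubmonoidClass.coe_pow, pow_succ', pow_mul]
    exact congrArg Subtype.val hk
  obtain ⟨α, hα, hα'⟩ := h.sylA R inf_le_left hRp
  obtain ⟨x, hx, hi⟩ := hα' r ⟨r.2, subset_closure rfl⟩
  obtain ⟨i, hi'⟩ := h.lin_cE hu hu' hx
  refine ⟨⟨α, hα⟩, i, ?_⟩
  show (lin (α * (r : MulAut E) * α⁻¹) : Module.End (ZMod p) (Vec p E)) = lin (h.cE u hu) ^ i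
  rw [← hi', h.cE_eq hx hi]

/-- An invariant line cannot be the fixed line of a regular element. -/
theorem no_line (h : Hyp p E N A B) {u : P} (hu : u ∈ N)
    (hreg : (h.rho ⟨_, h.cE_mem hu⟩ - 1) ^ 2 ≠ 0) {S : Submodule (ZMod p) (Vec p E)}
    (hinv : ∀ (α : A), ∀ v ∈ S, h.rho α v ∈ S) (hS : S ≤ LinearMap.ker (h.rho ⟨_, h.cE_mem hu⟩ - 1)) :
    S = ⊥ := by
  set a : A := ⟨_, h.cE_mem hu⟩ with ha
  set n := h.rho a - 1 with hn
  have hp1 : h.rho a ^ p = 1 := h.lin_cE_pow hu
  have hn3 : n ^ 3 = 0 := h.nil_cube hu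
  obtain ⟨v0, hv0⟩ : ∃ v, n (n v) ≠ 0 := by
    by_contra hh
    push Not at hh
    exact hreg (LinearMap.ext fun v => by rw [pow_two, Module.End.mul_apply, LinearMap.zero_apply]; exact hh v)
  by_contra hS0
  obtain ⟨c, hcS, hc⟩ := S.exists_mem_ne_zero_of_ne_bot hS0
  have hline : ∀ v ∈ S, ∃ k : ZMod p, v = k • c := by
    have key : ∀ v ∈ S, ∃ t : ZMod p, v = t • n (n v0) := by
      intro v hv
      obtain ⟨r, s, t, e⟩ := cyclic_coord h.finrank_eq hn3 hv0 v
      have h4 : n v = 0 := hS hv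
      have hn3' : n (n (n v0)) = 0 := by
        have h5 := LinearMap.congr_fun hn3 v0
        rwa [pow_succ, pow_succ, pow_one] at h5
      rw [e, map_add, map_add, map_smul, map_smul, map_smul, hn3', smul_zero, add_zero] at h4
      have h6 := congrArg n h4
      rw [map_add, map_smul, map_smul, hn3', smul_zero, add_zero, map_zero] at h6
      have hr : r = 0 := (smul_eq_zero.mp h6).resolve_right hv0
      rw [hr, zero_smul, zero_add] at h4 e
      exact ⟨t, by rw [e, (smul_eq_zero.mp h4).resolve_right hv0, zero_smul, zero_add]⟩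
    obtain ⟨t, ht⟩ := key c hcS
    have ht0 : t ≠ 0 := fun e => hc (by rw [ht, e, zero_smul])
    intro v hv
    obtain ⟨s, hs⟩ := key v hv
    exact ⟨s * t⁻¹, by rw [hs, ht, smul_smul, inv_mul_cancel_right₀ ht0]⟩
  have hSspan : S = Submodule.span (ZMod p) {c} := le_antisymm
    (fun v hv => by
      obtain ⟨k, rfl⟩ := hline v hv
      exact Submodule.smul_mem _ _ (Submodule.mem_span_singleton_self c))
    (Submodule.span_le.mpr (Set.singleton_subset_iff.mpr hcS))
  have hQ2 : Module.finrank (ZMod p) (Vec p E ⧸ S) = 2 := by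
    have h1 := S.finrank_quotient_add_finrank
    rw [h.finrank_eq, show Module.finrank (ZMod p) S = 1 by rw [hSspan]; exact finrank_span_singleton hc] at h1
    omega
  -- the action on the quotient
  let σ : A →* Module.End (ZMod p) (Vec p E ⧸ S) :=
    { toFun := fun α => S.mapQ S (h.rho α) (fun v hv => hinv α v hv)
      map_one' := LinearMap.ext fun v => by
        obtain ⟨w, rfl⟩ := Submodule.Quotient.mk_surjective S v
        rw [Submodule.mapQ_apply, map_one]; rfl
      map_mul' := fun α β => LinearMap.ext fun v => by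
        obtain ⟨w, rfl⟩ := Submodule.Quotient.mk_surjective S v
        rw [Submodule.mapQ_apply, map_mul]; rfl }
  have hσ : ∀ (α : A) (w : Vec p E), σ α (Submodule.Quotient.mk w) = Submodule.Quotient.mk (h.rho α w) :=
    fun α w => rfl
  -- elements trivial on the line and the quotient are trivial
  let R : Subgroup (MulAut E) :=
    { carrier := {r | ∃ hr : r ∈ A, σ ⟨r, hr⟩ = 1 ∧ h.rho ⟨r, hr⟩ c = c}
      one_mem' := ⟨A.one_mem, map_one σ, by
        show h.rho (1 : A) c = c
        rw [map_one]; rfl⟩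
      mul_mem' := by
        rintro r s ⟨hr, h1, h2⟩ ⟨hs, h3, h4⟩
        refine ⟨A.mul_mem hr hs, ?_, ?_⟩
        · show σ (⟨r, hr⟩ * ⟨s, hs⟩) = 1
          rw [map_mul, h1, h3, one_mul]
        · show h.rho (⟨r, hr⟩ * ⟨s, hs⟩) c = c
          rw [map_mul, Module.End.mul_apply, h4, h2]
      inv_mem' := by
        rintro r ⟨hr, h1, h2⟩
        refine ⟨A.inv_mem hr, ?_, ?_⟩
        · show σ (⟨r, hr⟩⁻¹) = 1
          calc σ (⟨r, hr⟩⁻¹) = σ (⟨r, hr⟩⁻¹) * σ ⟨r, hr⟩ := by rw [h1, mul_one]
            _ = 1 := by rw [← map_mul, inv_mul_cancel, map_one]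
        · show h.rho (⟨r, hr⟩⁻¹) c = c
          conv_lhs => rw [← h2]
          rw [rho_apply_inv] }
  have hsep1 : ∀ r : A, σ r = 1 → h.rho r c = c → h.rho r = 1 := by
    intro r hr1 hr2
    refine h.lin_eq_one_of_invariant (R := R) (fun x hx => hx.1) ?_ ?_ (r := (r : MulAut E)) ⟨r.2, hr1, hr2⟩
    · rintro α hα x ⟨hx, h1, h2⟩
      refine ⟨A.mul_mem (A.mul_mem hα hx) (A.inv_mem hα), ?_, ?_⟩
      · show σ (⟨α, hα⟩ * ⟨x, hx⟩ * ⟨α, hα⟩⁻¹) = 1
        rw [map_mul, map_mul, h1, mul_one, ← map_mul, mul_inv_cancel, map_one]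
      · show h.rho (⟨α, hα⟩ * ⟨x, hx⟩ * ⟨α, hα⟩⁻¹) c = c
        obtain ⟨k, hk⟩ := hline _ (hinv (⟨α, hα⟩⁻¹) c hcS)
        rw [map_mul, map_mul, Module.End.mul_apply, Module.End.mul_apply, hk, map_smul, h2, map_smul,
          ← map_smul, ← hk, rho_inv_apply]
    · rintro x ⟨hx, h1, h2⟩
      set f : Module.End (ZMod p) (Vec p E) := lin x with hf
      have hf2 : (f - 1) ^ 2 = 0 := by
        refine LinearMap.ext fun v => ?_
        have h3 : (Submodule.Quotient.mk (h.rho ⟨x, hx⟩ v) : Vec p E ⧸ S) = Submodule.Quotient.mk v := by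
          rw [← hσ, h1]; rfl
        obtain ⟨k, hk⟩ := hline _ ((Submodule.Quotient.eq S).mp h3)
        have h2' : f c = c := h2
        have hk' : f v - v = k • c := hk
        rw [pow_two, Module.End.mul_apply, LinearMap.sub_apply f 1 v, Module.End.one_apply, hk',
          LinearMap.sub_apply, Module.End.one_apply, map_smul, h2', sub_self, LinearMap.zero_apply]
      haveI := h.finrank_pos
      haveI : CharP (Module.End (ZMod p) (Vec p E)) p :=
        charP_of_injective_algebraMap (algebraMap (ZMod p) (Module.End (ZMod p) (Vec p E))).injective p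
      have h4 := pow_eq_zero_of_le (hpf.out.two_le) hf2
      rwa [sub_pow_char_of_commute p (Commute.one_right f), one_pow, sub_eq_zero] at h4
  have hsep : ∀ r s : A, σ r = σ s → h.rho r c = h.rho s c → h.rho r = h.rho s := by
    intro r s h1 h2
    have h3 := hsep1 (s⁻¹ * r) (by rw [map_mul, h1, ← map_mul, inv_mul_cancel, map_one])
      (by rw [map_mul, Module.End.mul_apply, h2, rho_apply_inv])
    calc h.rho r = h.rho s * h.rho (s⁻¹ * r) := by rw [← map_mul, mul_inv_cancel_left]
      _ = h.rho s := by rw [h3, mul_one]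
  have hfix : ∀ r : A, h.rho r ^ p = 1 → h.rho r c = c := by
    intro r hr
    obtain ⟨k, hk⟩ := hline _ (hinv r c hcS)
    have key : ∀ i : ℕ, (h.rho r ^ i) c = k ^ i • c := by
      intro i
      induction i with
      | zero => simp
      | succ i ih => rw [pow_succ', Module.End.mul_apply, ih, map_smul, hk, smul_smul, pow_succ]
    have h4 := key p
    rw [hr, Module.End.one_apply, ZMod.pow_card] at h4
    rw [hk, ← h4]
  obtain ⟨g, hg⟩ := h.exists_noncomm hp1 (fun e => hreg (by rw [hn, e, sub_self, zero_pow two_ne_zero]))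
  obtain ⟨b, hb⟩ : ∃ b, b = g * a * g⁻¹ := ⟨_, rfl⟩
  rw [← hb] at hg
  have hb1 : h.rho b ^ p = 1 := by
    rw [← map_pow, hb, conj_pow, map_mul, map_mul, map_pow, hp1, mul_one, ← map_mul, mul_inv_cancel, map_one]
  have hσp : ∀ r : A, h.rho r ^ p = 1 → σ r ^ p = 1 := fun r hr => by
    rw [← map_pow]
    refine LinearMap.ext fun v => ?_
    obtain ⟨w, rfl⟩ := Submodule.Quotient.mk_surjective S v
    rw [hσ, map_pow, hr]; rfl
  have hne : σ a * σ b ≠ σ b * σ a := fun e => hg (by
    rw [← map_mul, ← map_mul]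
    exact (hsep _ _ (by rw [map_mul, map_mul, e]) (by
      rw [map_mul, map_mul, Module.End.mul_apply, Module.End.mul_apply, hfix a hp1, hfix b hb1, hfix a hp1])).symm)
  obtain ⟨j, hjcl, hj⟩ := exists_neg_one hQ2 (hσp a hp1) (hσp b hb1) hne
  have hjc : h.rho j c = c := by
    refine Subgroup.closure_induction (p := fun x _ => h.rho x c = c) ?_ ?_ ?_ ?_ hjcl
    · rintro x (rfl | rfl)
      exacts [hfix _ hp1, hfix _ hb1]
    · rw [map_one]; rfl
    · intro x y _ _ ix iy
      rw [map_mul, Module.End.mul_apply, iy, ix]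
    · intro x _ ix
      conv_lhs => rw [← ix]
      rw [rho_apply_inv]
  have hcomm : h.rho j * h.rho a = h.rho a * h.rho j := by
    rw [← map_mul, ← map_mul]
    refine hsep _ _ (by rw [map_mul, map_mul, hj]; exact LinearMap.ext fun v => by simp) ?_
    rw [map_mul, map_mul, Module.End.mul_apply, Module.End.mul_apply, hfix a hp1, hjc, hfix a hp1]
  have hj2 : h.rho j * h.rho j = 1 := by
    rw [← map_mul]
    exact hsep1 _ (by rw [map_mul, hj]; exact LinearMap.ext fun v => by simp) (by rw [map_mul, Module.End.mul_apply, hjc, hjc])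
  have hcn : ∀ v, h.rho j (n v) = n (h.rho j v) := fun v => by
    rw [hn, LinearMap.sub_apply, LinearMap.sub_apply, Module.End.one_apply, Module.End.one_apply, map_sub,
      ← Module.End.mul_apply, hcomm, Module.End.mul_apply]
  have hσn : ∀ v, (Submodule.Quotient.mk (n v) : Vec p E ⧸ S) = (σ a - 1) (Submodule.Quotient.mk v) := fun v => by
    show Submodule.Quotient.mk (h.rho a v - v) = σ a (Submodule.Quotient.mk v) - Submodule.Quotient.mk v
    rw [hσ]; exact Submodule.Quotient.mk_sub S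
  haveI : Nontrivial (Vec p E ⧸ S) := Module.nontrivial_of_finrank_eq_succ hQ2
  have hsq : (σ a - 1) ^ 2 = 0 := hQ2 ▸ sub_one_pow_finrank (k := 1) (by rw [pow_one]; exact hσp a hp1)
  have h2ne : (2 : ZMod p) ≠ 0 := fun e => by
    have h7 : ((2 : ℕ) : ZMod p) = 0 := by exact_mod_cast e
    have := Nat.le_of_dvd two_pos ((ZMod.natCast_eq_zero_iff 2 p).mp h7)
    have := h.five
    omega
  have hz : ∀ w, h.rho j w = w → n (n w) = 0 := by
    intro w hw
    have h3 : (Submodule.Quotient.mk w : Vec p E ⧸ S) = -Submodule.Quotient.mk w := by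
      conv_lhs => rw [← hw, ← hσ, hj, LinearMap.neg_apply, Module.End.one_apply]
    have h4 : (2 : ZMod p) • (Submodule.Quotient.mk w : Vec p E ⧸ S) = 0 := by
      rw [two_smul]; exact eq_neg_iff_add_eq_zero.mp h3
    have h5 := (Submodule.Quotient.mk_eq_zero S).mp ((smul_eq_zero.mp h4).resolve_left h2ne)
    rw [show n w = 0 from hS h5, map_zero]
  have hm : ∀ w, h.rho j w = -w → n (n w) = 0 := by
    intro w hw
    have h3 : n (n w) ∈ S := by
      rw [← Submodule.Quotient.mk_eq_zero, hσn, hσn, ← Module.End.mul_apply, ← pow_two, hsq]; rfl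
    obtain ⟨k, hk⟩ := hline _ h3
    have h4 : h.rho j (n (n w)) = -(n (n w)) := by rw [hcn, hcn, hw, map_neg, map_neg]
    rw [hk, map_smul, hjc] at h4
    have h5 : (2 : ZMod p) • (k • c) = 0 := by rw [two_smul]; exact eq_neg_iff_add_eq_zero.mp h4
    rw [hk]
    exact (smul_eq_zero.mp h5).resolve_left h2ne
  refine hreg (LinearMap.ext fun v => ?_)
  rw [pow_two, Module.End.mul_apply, LinearMap.zero_apply]
  have e1 := hz (v + h.rho j v) (by rw [map_add, ← Module.End.mul_apply, hj2, Module.End.one_apply, add_comm])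
  have e2 := hm (v - h.rho j v) (by rw [map_sub, ← Module.End.mul_apply, hj2, Module.End.one_apply, neg_sub])
  rw [map_add, map_add] at e1
  rw [map_sub, map_sub] at e2
  have e3 : (2 : ZMod p) • n (n v) = 0 := by
    rw [two_smul]
    linear_combination (norm := module) e1 + e2
  exact (smul_eq_zero.mp e3).resolve_left h2ne

/-- The inner automorphism is not regular. -/
theorem false_of_regular (h : Hyp p E N A B) (hK : Irr E N A B) {u : P} (hu : u ∈ N) (hu' : u ∉ E)
    {g : P} (hg : g ∉ N) (hreg : (h.rho ⟨_, h.cE_mem hu⟩ - 1) ^ 2 ≠ 0) : False := by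
  set a : A := ⟨_, h.cE_mem hu⟩ with ha
  set n := h.rho a - 1 with hn
  have hp1 : h.rho a ^ p = 1 := h.lin_cE_pow hu
  have hn3 : n ^ 3 = 0 := h.nil_cube hu
  set W := omegaZ E p with hW
  have hWcu : CU E A p W := cu_omegaZ
  set S := img p E W with hSdef
  have hinv : ∀ (α : A), ∀ v ∈ S, h.rho α v ∈ S := fun α v hv => h.img_inv hWcu.inv α hv
  obtain ⟨v0, hv0⟩ : ∃ v, n (n v) ≠ 0 := by
    by_contra hh
    push Not at hh
    exact hreg (LinearMap.ext fun v => by rw [pow_two, Module.End.mul_apply, LinearMap.zero_apply]; exact hh v)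
  have hn3' : n (n (n v0)) = 0 := by
    have h5 := LinearMap.congr_fun hn3 v0
    rwa [pow_succ, pow_succ, pow_one] at h5
  have hnS : ∀ v ∈ S, n v ∈ S := fun v hv => by
    rw [hn, LinearMap.sub_apply, Module.End.one_apply]
    exact S.sub_mem (hinv a v hv) hv
  by_cases htop : ∀ v ∈ S, n (n v) = 0
  swap
  · -- `E` is elementary abelian
    push Not at htop
    obtain ⟨v, hv, hv'⟩ := htop
    have hE : E ≤ W := le_of_img_eq_top (eq_top_iff.mpr fun w _ => by
      obtain ⟨r, s, t, rfl⟩ := cyclic_coord h.finrank_eq hn3 hv' w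
      exact S.add_mem (S.smul_mem r hv) (S.add_mem (S.smul_mem s (hnS v hv)) (S.smul_mem t (hnS _ (hnS v hv)))))
    obtain ⟨e', he', hge⟩ : ∃ e ∈ E, g * e * g⁻¹ ∉ E := by
      by_contra hh
      push Not at hh
      refine hg (h.nE.le (mem_normalizer_iff.mpr fun e => ⟨hh e, fun he => ?_⟩))
      obtain ⟨⟨e'', he''⟩, e3⟩ := Finite.injective_iff_surjective.mp
        (show Function.Injective (fun x : E => (⟨g * x * g⁻¹, hh x x.2⟩ : E)) from fun x y e =>
          Subtype.ext (mul_left_cancel (mul_right_cancel (congrArg Subtype.val e)))) ⟨_, he⟩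
      have e4 : e'' = e := mul_left_cancel (mul_right_cancel (congrArg Subtype.val e3))
      exact e4 ▸ he''
    refine hreg (LinearMap.ext fun v => ?_)
    obtain ⟨e, rfl⟩ := MaxClassEssential.vec_surjective v
    set x : P := u * e * u⁻¹ * (e : P)⁻¹ with hx
    have hxphi : x ∈ phi N := h.comm_mem_phi_N hu (h.le_N e.2)
    have hxE : x ∈ E := h.phi_N_le hxphi
    have hC : N ⊓ centralizer ({x} : Set P) = N := by
      refine (h.between (le_inf h.le_N fun y hy => mem_centralizer_singleton_iff.mpr ?_) inf_le_left).resolve_left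
        fun e1 => hge (e1.le ⟨h.nrm.conj_mem _ (h.le_N he') g, mem_centralizer_singleton_iff.mpr ?_⟩)
      · exact hWcu.central y (hE hy) x hxE
      · have h1 : g⁻¹ * x * g⁻¹⁻¹ ∈ E := h.phi_N_le (h.conj_mem_phi_N g⁻¹ hxphi)
        rw [inv_inv] at h1
        have h2 := hWcu.central e' (hE he') _ h1
        calc g * e' * g⁻¹ * x = g * (e' * (g⁻¹ * x * g)) * g⁻¹ := by group
          _ = x * (g * e' * g⁻¹) := by rw [h2]; group
    have hux : u * x * u⁻¹ * x⁻¹ = 1 := by
      rw [mem_centralizer_singleton_iff.mp (hC.ge hu).2, mul_inv_cancel_right, mul_inv_cancel]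
    rw [pow_two, Module.End.mul_apply, LinearMap.zero_apply, hn, h.rho_cE_vec hu e, h.rho_cE_vec hu,
      vec_eq_zero_iff]
    show u * x * u⁻¹ * x⁻¹ ∈ phi E
    rw [hux]; exact one_mem _
  -- `W` lies in the Frattini subgroup of `N`
  have hWN : ∀ x ∈ W, x ∈ phi N := by
    intro x hx
    obtain ⟨r, s, t, e⟩ := cyclic_coord h.finrank_eq hn3 hv0 (vec (⟨x, hx.1⟩ : E) : Vec p E)
    have h4 := htop _ (vec_mem_img (e := (⟨x, hx.1⟩ : E)) hx)
    rw [e] at h4
    simp only [map_add, map_smul, hn3', map_zero, smul_zero, add_zero] at h4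
    rw [(smul_eq_zero.mp h4).resolve_right hv0, zero_smul, zero_add, ← map_smul, ← map_smul, ← map_add] at e
    obtain ⟨f, hf⟩ := MaxClassEssential.vec_surjective (s • v0 + t • n v0)
    rw [← hf, hn, h.rho_cE_vec hu f] at e
    refine mem_of_vec_mem (p := p) (U := phi N) h.phi_le_phi_N (e := (⟨x, hx.1⟩ : E)) ?_
    rw [e]
    exact vec_mem_img (h.comm_mem_phi_N hu (h.le_N f.2))
  by_cases hcent : ∀ w ∈ W, u * w = w * u
  · -- then it is a forbidden subgroup of the Frattini subgroup
    have hS : S ≤ LinearMap.ker n := by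
      rintro _ ⟨e, he, rfl⟩
      rw [LinearMap.mem_ker, hn, h.rho_cE_vec hu e, vec_eq_zero_iff]
      show u * e * u⁻¹ * (e : P)⁻¹ ∈ phi E
      rw [hcent _ he, mul_inv_cancel_right, mul_inv_cancel]
      exact one_mem _
    have hS0 := h.no_line hu hreg hinv hS
    have hle : W ≤ phi E := fun x hx => by
      have h4 : (vec (⟨x, hx.1⟩ : E) : Vec p E) ∈ S := vec_mem_img (e := (⟨x, hx.1⟩ : E)) hx
      rw [hS0, Submodule.mem_bot, vec_eq_zero_iff] at h4
      exact h4
    refine h.omegaZ_ne_bot (hK W hle hWcu.inv (h.omegaZ_invB fun x hx b hb => ?_))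
    obtain ⟨i, hi⟩ := h.exists_pow hu hu' hx
    have h5 : (u ^ i) * b = b * u ^ i := (show Commute u b from hcent b hb).pow_left i
    calc x * b = u ^ i * ((u ^ i)⁻¹ * x * b) := by group
      _ = u ^ i * b * ((u ^ i)⁻¹ * x) := by rw [← hb.2.2 _ hi]; group
      _ = b * x := by rw [h5]; group
  push Not at hcent
  obtain ⟨w, hw, huw⟩ := hcent
  obtain ⟨-, hdim⟩ := h.card_sq hWcu hg (fun x hx => h.phi_N_le (h.conj_mem_phi_N g (hWN x hx))) hu hw huw
  haveI hfW : Fact (IsPGroup p W) := ⟨h.pg.to_subgroup W⟩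
  obtain ⟨hW2, hact⟩ := hdim hfW
  -- the kernel on `W` acts by scalars
  have hscal : ∀ k : A, hWcu.act k = 1 → ∃ s : ZMod p, h.rho k = s • 1 := by
    intro k hk
    set K : Subgroup (Module.End (ZMod p) (Vec p E))ˣ := (hWcu.act.ker.map A.subtype).map h.linU with hKdef
    haveI : Finite (Module.End (ZMod p) (Vec p E)) :=
      Finite.of_injective (fun f => (f : Vec p E → Vec p E)) DFunLike.coe_injective
    have hKp : ¬ p ∣ Nat.card K := by
      intro hd
      obtain ⟨⟨y, hy⟩, hyo⟩ := exists_prime_orderOf_dvd_card' (G := K) p hd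
      have hy' := hy
      obtain ⟨-, ⟨r, hr, rfl⟩, rfl⟩ := hy'
      have hr1 : h.rho r ^ p = 1 := by
        have h5 := pow_orderOf_eq_one (⟨_, hy⟩ : K)
        rw [hyo] at h5
        exact congrArg (fun z : K => ((z : (Module.End (ZMod p) (Vec p E))ˣ) : Module.End (ZMod p) (Vec p E))) h5
      obtain ⟨α, i, hi⟩ := h.exists_conj_pow hu hu' hr1
      have h6 : hWcu.act a ^ i = 1 := by
        rw [← map_pow, hWcu.act_eq_of_rho h (show h.rho (a ^ i) = h.rho (α * r * α⁻¹) by rw [map_pow, hi]),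
          map_mul, map_mul, MonoidHom.mem_ker.mp hr, mul_one, ← map_mul, mul_inv_cancel, map_one]
      have hip : ¬ p ∣ i := by
        rintro ⟨m, rfl⟩
        rw [pow_mul, hp1, one_pow] at hi
        have h7 : h.rho r = 1 := by
          calc h.rho r = h.rho α⁻¹ * h.rho (α * r * α⁻¹) * h.rho α := by
                rw [← map_mul, ← map_mul]; congr 1; group
            _ = 1 := by rw [hi, mul_one, ← map_mul, inv_mul_cancel, map_one]
        have h8 : (⟨_, hy⟩ : K) = 1 := Subtype.ext (Units.ext h7)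
        rw [h8, orderOf_one] at hyo
        exact hpf.out.one_lt.ne hyo
      refine hact ?_
      have h9 : Nat.gcd i p = 1 := Nat.Coprime.symm ((hpf.out.coprime_iff_not_dvd).mpr hip)
      rw [← pow_one (hWcu.act a), ← h9]
      exact pow_gcd_eq_one.mpr ⟨h6, hWcu.act_pow_eq_one h hp1⟩
    have hnorm : h.linU a ∈ normalizer (K : Set (Module.End (ZMod p) (Vec p E))ˣ) := by
      have h0 : a ∈ normalizer ((hWcu.act.ker : Subgroup A) : Set A) := by
        rw [Subgroup.normalizer_eq_top]; exact mem_top a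
      have h1 : (a : MulAut E) ∈ normalizer ((hWcu.act.ker.map A.subtype : Subgroup _) : Set (MulAut E)) :=
        le_normalizer_map A.subtype (mem_map_of_mem A.subtype h0)
      exact le_normalizer_map h.linU (mem_map_of_mem _ h1)
    have hdeg : (h.rho a - 1) ^ (p - 2) = 0 := pow_eq_zero_of_le (by have := h.five; omega) hn3
    have hc := MaxClassResidual.commute_of_sub_one_pow (p := p) h.five
      (Units.coeHom (Module.End (ZMod p) (Vec p E))) Units.val_injective hKp hnorm
      (by simpa [coe_linU, rho_apply] using hdeg) (h.linU k) (mem_map_of_mem _ (mem_map_of_mem _ hk))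
    have hc' : h.rho k * n = n * h.rho k := by
      have h5 := congrArg Units.val hc
      simp only [Units.val_mul, coe_linU] at h5
      rw [hn, mul_sub, sub_mul, mul_one, one_mul, rho_apply, rho_apply, h5]
    obtain ⟨a0, a1, a2, hpoly⟩ := exists_poly h.finrank_eq hn3 (fun e => hv0 (by
      rw [← Module.End.mul_apply, ← pow_two, e, LinearMap.zero_apply])) hc'
    haveI := h.finrank_pos
    have hkp : h.rho k ^ p = a0 • 1 := by
      have h5 := pow_poly h.three_le hn3 a0 a1 a2 (k := 1) le_rfl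
      rw [pow_one] at h5
      rw [hpoly, h5]
    set m := Nat.card K with hm
    have hkm : h.rho k ^ m = 1 := by
      have h5 : (⟨_, mem_map_of_mem h.linU (mem_map_of_mem A.subtype hk)⟩ : K) ^ m = 1 := pow_card_eq_one'
      exact congrArg (fun z : K => ((z : (Module.End (ZMod p) (Vec p E))ˣ) : Module.End (ZMod p) (Vec p E))) h5
    obtain ⟨s, hs⟩ : ∃ s : ℕ, p * s ≡ 1 [MOD m] := by
      haveI : NeZero m := ⟨Nat.card_pos.ne'⟩
      refine ⟨((p : ZMod m)⁻¹).val, ?_⟩
      rw [← ZMod.natCast_eq_natCast_iff, Nat.cast_mul, ZMod.natCast_zmod_val, Nat.cast_one]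
      exact ZMod.coe_mul_inv_eq_one p (hpf.out.coprime_iff_not_dvd.mpr hKp)
    refine ⟨a0 ^ s, ?_⟩
    calc h.rho k = h.rho k ^ 1 := (pow_one _).symm
      _ = h.rho k ^ (p * s) := (pow_eq_pow_of_modEq hs hkm).symm
      _ = a0 ^ s • 1 := by rw [pow_mul, hkp, smul_pow, one_pow]
  have hunit : ∀ r t : A, hWcu.act r = hWcu.act t → h.rho r ^ p = 1 → h.rho t ^ p = 1 → h.rho r = h.rho t := by
    intro r t hrt hr ht
    obtain ⟨s, hs⟩ := hscal (r * t⁻¹) (by rw [map_mul, hrt, ← map_mul, mul_inv_cancel, map_one])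
    have h5 : h.rho r = s • h.rho t := by
      calc h.rho r = h.rho (r * t⁻¹) * h.rho t := by rw [← map_mul, inv_mul_cancel_right]
        _ = s • h.rho t := by rw [hs, smul_mul_assoc, one_mul]
    have h6 : (s ^ p : ZMod p) • (1 : Module.End (ZMod p) (Vec p E)) = (1 : ZMod p) • 1 := by
      rw [one_smul]; conv_rhs => rw [← hr, h5, smul_pow, ht]
    haveI := h.finrank_pos
    obtain ⟨v, hv⟩ := exists_ne (0 : Vec p E)
    have h7 : (s ^ p : ZMod p) • v = (1 : ZMod p) • v := LinearMap.congr_fun h6 v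
    rw [ZMod.pow_card] at h7
    rw [h5, smul_left_injective (ZMod p) hv h7, one_smul]
  obtain ⟨γ, hγ⟩ := h.exists_noncomm hp1 (fun e => hreg (by rw [hn, e, sub_self, zero_pow two_ne_zero]))
  obtain ⟨b, hb⟩ : ∃ b, b = γ * a * γ⁻¹ := ⟨_, rfl⟩
  rw [← hb] at hγ
  have hconj : ∀ x r : A, h.rho r ^ p = 1 → h.rho (x * r * x⁻¹) ^ p = 1 := fun x r hr => by
    rw [← map_pow, conj_pow, map_mul, map_mul, map_pow, hr, mul_one, ← map_mul, mul_inv_cancel, map_one]
  have hb1 : h.rho b ^ p = 1 := hb ▸ hconj γ a hp1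
  have hne : hWcu.act a * hWcu.act b ≠ hWcu.act b * hWcu.act a := fun e => hγ (by
    have h5 := hunit (a * b * a⁻¹) b (by rw [map_mul, map_mul, e, mul_assoc, ← map_mul, mul_inv_cancel,
      map_one, mul_one]) (hconj a b hb1) hb1
    calc h.rho b * h.rho a = h.rho (a * b * a⁻¹) * h.rho a := by rw [h5]
      _ = h.rho a * h.rho b := by rw [← map_mul, ← map_mul, inv_mul_cancel_right])
  obtain ⟨j, hjcl, hj⟩ := exists_neg_one hW2 (hWcu.act_pow_eq_one h hp1) (hWcu.act_pow_eq_one h hb1) hne
  have hja : h.rho j * n = n * h.rho j := by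
    have h5 := hunit (j * a * j⁻¹) a (by
      rw [map_mul, map_mul, hj, (show -1 * hWcu.act a = hWcu.act a * -1 from LinearMap.ext fun v => by simp),
        mul_assoc, ← hj, ← map_mul, mul_inv_cancel, map_one, mul_one]) (hconj j a hp1) hp1
    have h6 : h.rho j * h.rho a = h.rho a * h.rho j := by
      calc h.rho j * h.rho a = h.rho (j * a * j⁻¹) * h.rho j := by
            rw [← map_mul, ← map_mul, inv_mul_cancel_right]
        _ = _ := by rw [h5]
    rw [hn, mul_sub, sub_mul, mul_one, one_mul, h6]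
  have hdet : LinearMap.det (h.rho j) = 1 := by
    refine Subgroup.closure_induction (p := fun x _ => LinearMap.det (h.rho x) = 1) ?_ ?_ ?_ ?_ hjcl
    · have key : ∀ r : A, h.rho r ^ p = 1 → LinearMap.det (h.rho r) = 1 := fun r hr => by
        have h5 := congrArg LinearMap.det hr
        rwa [map_pow, map_one, ZMod.pow_card] at h5
      rintro x (rfl | rfl)
      exacts [key _ hp1, key _ hb1]
    · rw [map_one, map_one]
    · intro x y _ _ ix iy
      rw [map_mul, map_mul, ix, iy, one_mul]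
    · intro x _ ix
      calc LinearMap.det (h.rho x⁻¹) = LinearMap.det (h.rho x⁻¹) * LinearMap.det (h.rho x) := by rw [ix, mul_one]
        _ = 1 := by rw [← map_mul, ← map_mul, inv_mul_cancel, map_one, map_one]
  obtain ⟨a0, a1, a2, hpoly⟩ := exists_poly h.finrank_eq hn3 (fun e => hv0 (by
    rw [← Module.End.mul_apply, ← pow_two, e, LinearMap.zero_apply])) hja
  haveI := h.finrank_pos
  have hjp : h.rho j ^ p = a0 • 1 := by
    have h5 := pow_poly h.three_le hn3 a0 a1 a2 (k := 1) le_rfl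
    rw [pow_one] at h5
    rw [hpoly, h5]
  have ha3 : a0 ^ 3 = 1 := by
    have h5 := congrArg LinearMap.det hjp
    rw [map_pow, hdet, one_pow, LinearMap.det_smul, h.finrank_eq, map_one, mul_one] at h5
    exact h5.symm
  have hj3 : h.rho (j ^ (p * 3)) = h.rho 1 := by
    rw [map_one, map_pow, pow_mul, hjp, smul_pow, one_pow, ha3, one_smul]
  have h10 := hWcu.act_eq_of_rho h hj3
  rw [map_one, map_pow, hj, Odd.neg_one_pow ((hpf.out.odd_of_ne_two (by have := h.five; omega)).mul
    (by decide))] at h10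
  haveI : Nontrivial (Vec p W) := Module.nontrivial_of_finrank_eq_succ hW2
  obtain ⟨v, hv⟩ := exists_ne (0 : Vec p W)
  have h11 := LinearMap.congr_fun h10 v
  rw [LinearMap.neg_apply, Module.End.one_apply] at h11
  have h12 : (2 : ZMod p) • v = 0 := by
    rw [two_smul]; exact eq_neg_iff_add_eq_zero.mp h11.symm
  rcases smul_eq_zero.mp h12 with h13 | h13
  · have h7 : ((2 : ℕ) : ZMod p) = 0 := by exact_mod_cast h13
    have := Nat.le_of_dvd two_pos ((ZMod.natCast_eq_zero_iff 2 p).mp h7)
    have := h.five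
    omega
  · exact hv h13

end Frattini

end Hyp

end CfsgLib.RankThree
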