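import Cfsg.Agent.Lib.Fusion.RankThree.Regular

/-!
When the inner automorphism is a transvection the essential subgroup is elementary abelian.
-/

set_option autoImplicit false
set_option linter.unusedSectionVars false
set_option linter.style.haveILetI false

namespace CfsgLib.RankThree

open Subgroup
open scoped commutatorElement
open MaxClassEssential (Vec vec lin)

variable {p : ℕ} [hpf : Fact p.Prime] {P : Type*} [Group P] [Finite P] {E N : Subgroup P}
  {A : Subgroup (MulAut E)} {B : Subgroup (MulAut N)}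

theorem two_ne_zero' (hp : 5 ≤ p) : (2 : ZMod p) ≠ 0 := fun e => by
  have h7 : ((2 : ℕ) : ZMod p) = 0 := by exact_mod_cast e
  have := Nat.le_of_dvd two_pos ((ZMod.natCast_eq_zero_iff 2 p).mp h7)
  omega

theorem three_ne_zero' (hp : 5 ≤ p) : (3 : ZMod p) ≠ 0 := fun e => by
  have h7 : ((3 : ℕ) : ZMod p) = 0 := by exact_mod_cast e
  have := Nat.le_of_dvd (by norm_num) ((ZMod.natCast_eq_zero_iff 3 p).mp h7)
  omega

theorem eq_one_of_sq (h : Hyp p E N A B) {x : P} (hx : x * x = 1) : x = 1 := by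
  obtain ⟨j, hj⟩ := h.pg x
  have h2 : x ^ 2 = 1 := by rw [pow_two]; exact hx
  have hc : Nat.Coprime 2 (p ^ j) :=
    ((Nat.coprime_primes Nat.prime_two hpf.out).mpr (by have := h.five; omega)).pow_right j
  rw [← pow_one x, ← hc]
  exact pow_gcd_eq_one.mpr ⟨h2, hj⟩

namespace Hyp

section Frattini

variable [hfE : Fact (IsPGroup p E)]

/-- Automorphisms agree on `E` when it is abelian and their images agree. -/
theorem eq_of_rho_of_comm (h : Hyp p E N A B) (hab : ∀ x y : E, x * y = y * x) {α γ : A}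
    (e : h.rho α = h.rho γ) : α = γ :=
  Subtype.ext (MulEquiv.ext fun w => h.apply_eq_of_lin α.2 γ.2 e (mem_center_iff.mpr fun y => hab y w))

theorem apply_vec (h : Hyp p E N A B) (α : A) (x : E) :
    h.rho α (vec x : Vec p E) = vec ((α : MulAut E) x) := rfl

theorem mem_phi_of_mul (h : Hyp p E N A B) {x y : E} (e : (vec x : Vec p E) = -vec y) :
    ((x : P) * y) ∈ phi E := by
  have h1 : (vec (x * y) : Vec p E) = 0 := by rw [MaxClassEssential.vec_mul, e, neg_add_cancel]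
  exact vec_eq_zero_iff.mp h1

variable {u : P} {g : P} {c d : Vec p E} {φ ψ : Vec p E →ₗ[ZMod p] ZMod p} {b : A}

theorem frame_rel (h : Hyp p E N A B) {a : A} (O : Opp h.rho c d φ ψ a b) :
    h.rho (a * b⁻¹ * a * a) = h.rho (b⁻¹ * (a * b⁻¹ * a)) ∧
      h.rho b = h.rho (a * b⁻¹ * a * a⁻¹ * (a * b⁻¹ * a)⁻¹) ∧
      h.rho (torE a b (2 : ZMod p) * a) = h.rho (a ^ 4 * torE a b (2 : ZMod p)) := by
  have hinv : h.rho b⁻¹ = mat c d φ ψ 1 0 (-1) 1 := by
    have e : mat c d φ ψ 1 0 1 1 * mat c d φ ψ 1 0 (-1) 1 = 1 := by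
      rw [O.mat_mul, ← mat_one (c := c) (d := d) (φ := φ) (ψ := ψ)]
      congr 1 <;> ring
    calc h.rho b⁻¹ = h.rho b⁻¹ * (h.rho b * mat c d φ ψ 1 0 (-1) 1) := by rw [O.hb, e, mul_one]
      _ = _ := by rw [← mul_assoc, ← map_mul, inv_mul_cancel, map_one, one_mul]
  have e1 : h.rho (a * b⁻¹ * a * a) = h.rho (b⁻¹ * (a * b⁻¹ * a)) := by
    simp only [map_mul, O.ha, hinv, O.mat_mul]
    congr 1 <;> ring
  refine ⟨e1, ?_, ?_⟩
  · generalize a * b⁻¹ * a = w at e1 ⊢
    calc h.rho b = h.rho b * h.rho (b⁻¹ * w) * h.rho (a⁻¹ * w⁻¹) * 1 := by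
          rw [← e1, mul_one, mul_assoc (h.rho b), ← map_mul,
            show w * a * (a⁻¹ * w⁻¹) = 1 by group, map_one, mul_one]
      _ = _ := by rw [mul_one, ← map_mul, ← map_mul]; congr 1; group
  · have h2 := two_ne_zero' h.five
    simp only [map_mul, map_pow, O.torE_eq h2, O.ha, O.up_pow, O.mat_mul]
    congr 1 <;> push_cast <;> field_simp <;> ring

theorem frame_decomp (O : Pair c d φ ψ) {e v : Vec p E}
    (hspan : ∀ v, φ v = 0 → ψ v = 0 → ∃ k : ZMod p, v = k • e) :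
    ∃ k : ZMod p, v = ψ v • c + φ v • d + k • e := by
  obtain ⟨k, hk⟩ := hspan (v - ψ v • c - φ v • d) (by simp [O.fc, O.fd]) (by simp [O.gc, O.gd])
  exact ⟨k, by rw [← hk]; abel⟩

/-- The image of the Frattini subgroup of `N` is the centre of the transvection. -/
theorem phi_N_img (h : Hyp p E N A B) (hu : u ∈ N) (hu' : u ∉ E)
    (O : Opp h.rho c d φ ψ ⟨_, h.cE_mem hu⟩ b) {x : E} (hx : (x : P) ∈ phi N) :
    ∃ k : ZMod p, (vec x : Vec p E) = k • c := by
  set a : A := ⟨_, h.cE_mem hu⟩ with ha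
  have hn : ∀ v, (h.rho a - 1) v = φ v • c := fun v => by
    rw [LinearMap.sub_apply, O.ha, mat_up, one_smul, tv_apply, Module.End.one_apply, add_sub_cancel_left]
  set S := Submodule.span (ZMod p) ({c} : Set (Vec p E))
  obtain ⟨Q, hQn, hQE, hQle, hQc⟩ := h.quot_comm hu hu' (S := S)
    (fun v => by rw [← ha, hn]; exact Submodule.smul_mem _ _ (Submodule.mem_span_singleton_self c))
  set π := QuotientGroup.mk' Q
  have hcomm : ∀ x y : N, Commute (π x) (π y) := fun x y => by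
    have h1 := (QuotientGroup.eq_one_iff (N := Q) _).mpr (hQc x y)
    rw [← QuotientGroup.mk'_apply, map_mul, map_mul, map_mul, map_inv, map_inv, mul_inv_eq_one,
      mul_inv_eq_iff_eq_mul] at h1
    exact h1
  have hphi : ∀ (z : E) (hz : (z : P) ∈ N), (z : P) ∈ phi E → π ⟨z, hz⟩ = 1 := fun z hz hp =>
    (QuotientGroup.eq_one_iff _).mpr ((hQE z hz).mpr (by rw [vec_eq_zero_iff.mpr hp]; exact S.zero_mem))
  have hpowE : ∀ (z : E) (hz : (z : P) ∈ N), π ⟨z, hz⟩ ^ p = 1 := fun z hz => by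
    rw [← map_pow]
    exact hphi (z ^ p) (N.pow_mem hz p) (mem_phi.mpr ⟨(z ^ p).2, CfsgLib.pow_mem_frattini_pGroup hfE.out z⟩)
  -- the power of `u`
  set z : E := ⟨u ^ p, h.pow_mem_E hu⟩ with hz
  set v : Vec p E := vec z with hv
  have hv0 : φ v = 0 := by
    have h1 : (h.rho a - 1) v = 0 := by
      rw [hv, ha, h.rho_cE_vec hu z, vec_eq_zero_iff]
      show u * u ^ p * u⁻¹ * (u ^ p)⁻¹ ∈ phi E
      rw [← pow_succ', pow_succ, mul_inv_cancel_right, mul_inv_cancel]
      exact one_mem _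
    rw [hn] at h1
    refine (smul_eq_zero.mp h1).resolve_right fun e0 => ?_
    have := O.gc
    rw [e0, map_zero] at this
    exact zero_ne_one this
  have h2 := two_ne_zero' h.five
  set τ := torE a b (2 : ZMod p)
  have hτ : h.rho τ * h.rho a = h.rho a ^ 4 * h.rho τ := by
    rw [← map_pow, ← map_mul, ← map_mul]; exact (h.frame_rel O).2.2
  obtain ⟨β, -, hβe, hβu⟩ := h.exists_ext hu hu' hτ
  have hvS : v ∈ S := by
    have h4 : h.rho τ v - (4 : ℕ) • v ∈ S := by
      set e0 : E := ⟨_, hβu⟩ with he0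
      have hy : β ⟨u, hu⟩ = ⟨u, hu⟩ ^ 4 * ⟨e0, h.le_N e0.2⟩ := Subtype.ext (by simp [he0])
      have hzN : (z : P) ∈ N := h.le_N z.2
      have h5 : π (β ⟨z, hzN⟩) = π ⟨(z ^ 4 : E), h.le_N (z ^ 4 : E).2⟩ := by
        have hz' : (⟨z, hzN⟩ : N) = (⟨u, hu⟩ : N) ^ p := Subtype.ext (by simp [hz])
        have hz4 : (⟨(z ^ 4 : E), h.le_N (z ^ 4 : E).2⟩ : N) = ((⟨u, hu⟩ : N) ^ p) ^ 4 :=
          Subtype.ext (by simp [hz])
        rw [hz', hz4, map_pow, hy, map_pow, map_mul, (hcomm _ _).mul_pow, hpowE, mul_one, ← map_pow,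
          ← pow_mul, mul_comm, pow_mul]
      have h6 : (⟨((τ : MulAut E) z : E), h.le_N ((τ : MulAut E) z).2⟩ : N) = β ⟨z, hzN⟩ :=
        Subtype.ext (hβe z hzN).symm
      have h7 : (⟨(((τ : MulAut E) z * (z ^ 4)⁻¹ : E) : P), h.le_N ((τ : MulAut E) z * (z ^ 4)⁻¹ : E).2⟩ : N) ∈ Q := by
        rw [← QuotientGroup.eq_one_iff]
        have h8 : (⟨(((τ : MulAut E) z * (z ^ 4)⁻¹ : E) : P), h.le_N ((τ : MulAut E) z * (z ^ 4)⁻¹ : E).2⟩ : N) =
          β ⟨z, hzN⟩ * (⟨(z ^ 4 : E), h.le_N (z ^ 4 : E).2⟩ : N)⁻¹ := by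
          rw [← h6]; exact Subtype.ext rfl
        rw [h8, ← QuotientGroup.mk'_apply, map_mul, map_inv, h5, mul_inv_cancel]
      have h9 := (hQE _ _).mp h7
      rwa [MaxClassEssential.vec_mul, MaxClassEssential.vec_inv, MaxClassEssential.vec_pow, ← sub_eq_add_neg,
        ← apply_vec h] at h9
    have h5 : h.rho τ v - v ∈ S := by
      rw [O.torE_eq h2, mat_apply, hv0]
      simp only [zero_smul, add_zero, add_sub_cancel_left]
      exact Submodule.smul_mem _ _ (Submodule.smul_mem _ _ (Submodule.mem_span_singleton_self c))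
    have h6 := S.sub_mem h5 h4
    rw [show h.rho τ v - v - (h.rho τ v - (4 : ℕ) • v) = (3 : ZMod p) • v by module] at h6
    exact (S.smul_mem_iff (three_ne_zero' h.five)).mp h6
  have hpow : ∀ y : N, π y ^ p = 1 := by
    intro y
    obtain ⟨i, hi⟩ := h.exists_pow hu hu' y.2
    have e1 : y = ⟨u, hu⟩ ^ i * ⟨_, h.le_N hi⟩ := Subtype.ext (by simp)
    rw [e1, map_mul, map_pow, ((hcomm _ _).pow_left i).mul_pow, ← pow_mul, mul_comm i p, pow_mul,
      ← map_pow π _ p, show π ((⟨u, hu⟩ : N) ^ p) = 1 from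
        (QuotientGroup.eq_one_iff _).mpr ((hQE z (h.le_N z.2)).mpr hvS), one_pow, one_mul]
    exact hpowE ⟨_, hi⟩ _
  obtain ⟨hxN, hx'⟩ := mem_phi.mp hx
  have h1 : frattini N ≤ Q := CfsgLib.RankFrattini.frattini_le_of_elementary (h.pg.to_subgroup N) _
    (fun y y' => hQc y y') (fun y => (QuotientGroup.eq_one_iff _).mp (by
      rw [← QuotientGroup.mk'_apply, map_pow]; exact hpow y))
  obtain ⟨k, hk⟩ := Submodule.mem_span_singleton.mp ((hQE x hxN).mp (h1 hx'))
  exact ⟨k, hk.symm⟩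

/-- `u` moves some element of order `p` of the centre. -/
theorem exists_moved_omega (h : Hyp p E N A B) (hK : Irr E N A B) (hu : u ∈ N) (hu' : u ∉ E)
    (O : Opp h.rho c d φ ψ ⟨_, h.cE_mem hu⟩ b) : ∃ w ∈ omegaZ E p, u * w ≠ w * u := by
  by_contra hh
  push Not at hh
  set W := omegaZ E p
  have hW : CU E A p W := cu_omegaZ
  haveI : Fact (IsPGroup p W) := ⟨h.pg.to_subgroup W⟩
  set a : A := ⟨_, h.cE_mem hu⟩ with ha
  have hn : ∀ v, (h.rho a - 1) v = φ v • c := fun v => by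
    rw [LinearMap.sub_apply, O.ha, mat_up, one_smul, tv_apply, Module.End.one_apply, add_sub_cancel_left]
  have hca : hW.act a = 1 := hW.act_eq_one.mpr fun e he => Subtype.ext (by
    show u * (e : P) * u⁻¹ = e
    rw [hh _ he, mul_inv_cancel_right])
  have hcb : hW.act b = 1 := by
    rw [hW.act_eq_of_rho h (h.frame_rel O).2.1]
    simp only [map_mul]
    rw [show hW.act a⁻¹ = 1 by rw [← mul_one (hW.act a⁻¹), ← hca, ← map_mul, inv_mul_cancel, map_one, hca], mul_one,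
      ← map_mul, ← map_mul, ← map_mul, mul_inv_cancel, map_one]
  have hc0 : c ≠ 0 := fun e0 => by have := O.gc; rw [e0, map_zero] at this; exact zero_ne_one this
  have hd0 : d ≠ 0 := fun e0 => by have := O.fd; rw [e0, map_zero] at this; exact zero_ne_one this
  have himg : ∀ e : E, (e : P) ∈ W → φ (vec e : Vec p E) = 0 ∧ ψ (vec e : Vec p E) = 0 := by
    intro e he
    constructor
    · have h1 := hn (vec e : Vec p E)
      rw [LinearMap.sub_apply, Module.End.one_apply, apply_vec, hW.act_eq_one.mp hca e he, sub_self] at h1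
      exact (smul_eq_zero.mp h1.symm).resolve_right hc0
    · have h1 := apply_vec h b e
      rw [hW.act_eq_one.mp hcb e he, O.hb, mat_lo, one_smul, tv_apply, add_eq_left] at h1
      exact (smul_eq_zero.mp h1).resolve_right hd0
  -- the part inside the Frattini subgroup is trivial
  have hcentN : ∀ x ∈ N, ∀ w ∈ W, x * w = w * x := fun x hx w hw => by
    obtain ⟨i, hi⟩ := h.exists_pow hu hu' hx
    have h5 : (u ^ i) * w = w * u ^ i := (show Commute u w from hh w hw).pow_left i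
    calc x * w = u ^ i * ((u ^ i)⁻¹ * x * w) := by group
      _ = u ^ i * w * ((u ^ i)⁻¹ * x) := by rw [← hw.2.2 _ hi]; group
      _ = w * x := by rw [h5]; group
  have hmeet : ∀ e : E, (e : P) ∈ W → (e : P) ∈ phi N → (e : P) ∈ phi E := fun e he he' => by
    obtain ⟨k, hk⟩ := h.phi_N_img hu hu' O he'
    have h1 := (himg e he).2
    rw [hk, map_smul, O.gc, smul_eq_mul, mul_one] at h1
    exact vec_eq_zero_iff.mp (by rw [hk, h1, zero_smul])
  have hbot : W ⊓ phi E = ⊥ := by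
    refine hK _ inf_le_right hW.inter_phi.inv fun β hβ n hn' => ?_
    have h1 : ((β n : N) : P) ∈ W := h.omegaZ_invB hcentN β hβ n hn'.1
    exact ⟨h1, hmeet ⟨_, h1.1⟩ h1 (apply_mem_phi β (h.phi_le_phi_N hn'.2))⟩
  obtain ⟨e, he0, he1, he2, hspan⟩ := O.toPair.kernel_line h.finrank_eq
  obtain ⟨w0, hw0, hw01⟩ : ∃ w ∈ W, w ≠ 1 := by
    by_contra h0
    push Not at h0
    exact h.omegaZ_ne_bot ((eq_bot_iff_forall _).mpr h0)
  set w0E : E := ⟨w0, hw0.1⟩ with hw0E
  obtain ⟨k0, hk0⟩ := hspan _ (himg w0E hw0).1 (himg w0E hw0).2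
  have hk0' : k0 ≠ 0 := fun e0 => hw01 (Subgroup.mem_bot.mp (hbot.le
    ⟨hw0, vec_eq_zero_iff.mp (by rw [hk0, e0, zero_smul] : (vec w0E : Vec p E) = 0)⟩))
  set T := Submodule.span (ZMod p) ({c, d} : Set (Vec p E))
  let M : Subgroup E :=
    { carrier := {x | (vec x : Vec p E) ∈ T}
      one_mem' := by show (vec (1 : E) : Vec p E) ∈ T; rw [MaxClassEssential.vec_one]; exact T.zero_mem
      mul_mem' := fun {x y} hx hy => by
        show (vec (x * y) : Vec p E) ∈ T
        rw [MaxClassEssential.vec_mul]; exact T.add_mem hx hy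
      inv_mem' := fun {x} hx => by
        show (vec x⁻¹ : Vec p E) ∈ T
        rw [MaxClassEssential.vec_inv]; exact T.neg_mem hx }
  have hMne : Nontrivial M := by
    obtain ⟨x, hx⟩ := MaxClassEssential.vec_surjective c
    refine ⟨⟨x, show (vec x : Vec p E) ∈ T from hx ▸ Submodule.subset_span (Set.mem_insert c _)⟩, 1, fun e1 => hc0 ?_⟩
    rw [← hx, show x = 1 from congrArg Subtype.val e1, MaxClassEssential.vec_one]
  haveI := (hfE.out.to_subgroup M).center_nontrivial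
  obtain ⟨m, hm, hc⟩ := ((hfE.out.to_subgroup M).to_subgroup (center M)).nontrivial_iff_card.mp inferInstance
  obtain ⟨⟨z, hz⟩, hzo⟩ := exists_prime_orderOf_dvd_card' (G := center M) p (hc ▸ dvd_pow_self p (by omega))
  have hzp : z ^ p = 1 := congrArg Subtype.val (hzo ▸ pow_orderOf_eq_one (⟨z, hz⟩ : center M))
  have hzW : ((z : E) : P) ∈ W := by
    refine ⟨(z : E).2, by rw [← SubmonoidClass.coe_pow, ← SubmonoidClass.coe_pow, hzp]; rfl, fun y hy => ?_⟩
    obtain ⟨k, hk⟩ := frame_decomp O.toPair hspan (v := (vec (⟨y, hy⟩ : E) : Vec p E))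
    set q : E := w0E ^ (k * k0⁻¹).val
    have hq : (vec q : Vec p E) = k • e := by
      rw [MaxClassEssential.vec_pow, hk0, ← Nat.cast_smul_eq_nsmul (ZMod p), ZMod.natCast_zmod_val, smul_smul,
        inv_mul_cancel_right₀ hk0']
    have hm : (⟨y, hy⟩ : E) * q⁻¹ ∈ M := by
      show (vec ((⟨y, hy⟩ : E) * q⁻¹) : Vec p E) ∈ T
      rw [MaxClassEssential.vec_mul, MaxClassEssential.vec_inv, hq, hk, add_neg_cancel_right]
      exact T.add_mem (T.smul_mem _ (Submodule.subset_span (Set.mem_insert c _)))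
        (T.smul_mem _ (Submodule.subset_span (Set.mem_insert_of_mem _ rfl)))
    have h1 : Commute (z : E) ((⟨y, hy⟩ : E) * q⁻¹) :=
      (congrArg Subtype.val (mem_center_iff.mp hz ⟨_, hm⟩)).symm
    have h2 : Commute (z : E) q :=
      (show Commute (z : E) w0E from Subtype.ext (hW.central w0 hw0 _ (z : E).2).symm).pow_right _
    have h3 : Commute (z : E) (⟨y, hy⟩ : E) := by simpa using h1.mul_right h2
    exact congrArg Subtype.val h3.eq
  have hzT : (vec (z : E) : Vec p E) ∈ T := z.2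
  obtain ⟨r, s, hrs⟩ := Submodule.mem_span_pair.mp hzT
  have h1 := himg (z : E) hzW
  rw [← hrs, map_add, map_add, map_smul, map_smul, map_smul, map_smul, O.fc, O.fd, O.gc, O.gd] at h1
  simp only [smul_eq_mul, mul_zero, mul_one, zero_add, add_zero] at h1
  have h0 : ((z : E) : P) = 1 := Subgroup.mem_bot.mp (hbot.le
    ⟨hzW, vec_eq_zero_iff.mp (by rw [← hrs, h1.1, h1.2, zero_smul, zero_smul, add_zero] : (vec (z : E) : Vec p E) = 0)⟩)
  rw [show (⟨z, hz⟩ : center M) = 1 from Subtype.ext (Subtype.ext (Subtype.ext h0)), orderOf_one] at hzo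
  exact hpf.out.one_lt.ne hzo

/-- `u` centralises the part of the centre inside the Frattini subgroup. -/
theorem comm_phi_part (h : Hyp p E N A B) (hu : u ∈ N) (hu' : u ∉ E) (hg : g ∉ N)
    (O : Opp h.rho c d φ ψ ⟨_, h.cE_mem hu⟩ b) : ∀ w ∈ omegaZ E p ⊓ phi E, u * w = w * u := by
  intro w hw
  by_contra huw
  set U := omegaZ E p ⊓ phi E with hUdef
  have hU : CU E A p U := cu_omegaZ.inter_phi
  set a : A := ⟨_, h.cE_mem hu⟩ with ha
  obtain ⟨hcard, hdim⟩ := h.card_sq hU hg (fun x hx => h.conj_phi_le g hx.2) hu hw huw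
  haveI hfU : Fact (IsPGroup p U) := ⟨h.pg.to_subgroup U⟩
  obtain ⟨hU2, hact⟩ := hdim hfU
  obtain ⟨hrel, hbeq, hτrel⟩ := h.frame_rel O
  have hp1 : h.rho a ^ p = 1 := h.lin_cE_pow hu
  have hpb : h.rho b ^ p = 1 := by
    rw [O.hb, O.lo_pow, ZMod.natCast_self, mat_one]
  have hne : hU.act a * hU.act b ≠ hU.act b * hU.act a := by
    intro e
    have hτ : hU.act (torE a b (2 : ZMod p)) * hU.act a = hU.act a * hU.act (torE a b (2 : ZMod p)) := by
      have : torE a b (2 : ZMod p) ∈ closure ({a, b} : Set A) :=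
        torE_mem (subset_closure (Set.mem_insert a {b})) (subset_closure (Set.mem_insert_of_mem a rfl)) _
      refine closure_induction (p := fun x _ => hU.act x * hU.act a = hU.act a * hU.act x) ?_ ?_ ?_ ?_ this
      · rintro x (rfl | rfl); exacts [rfl, e.symm]
      · rw [map_one, one_mul, mul_one]
      · intro x y _ _ ix iy
        rw [map_mul, mul_assoc, iy, ← mul_assoc, ix, mul_assoc]
      · intro x _ ix
        calc hU.act x⁻¹ * hU.act a = hU.act x⁻¹ * (hU.act a * hU.act x) * hU.act x⁻¹ := by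
              rw [← map_mul, ← map_mul, ← map_mul, ← map_mul]; congr 1; group
          _ = hU.act a * hU.act x⁻¹ := by
              rw [← ix, ← mul_assoc, ← map_mul, inv_mul_cancel, map_one, one_mul]
    have h4 : hU.act a ^ 3 = 1 := by
      have h1 := hU.act_eq_of_rho h hτrel
      rw [map_mul, map_mul, map_pow, hτ] at h1
      have h2 := congrArg (· * hU.act (torE a b (2 : ZMod p))⁻¹) h1
      simp only [mul_assoc, ← map_mul, mul_inv_cancel, map_one, mul_one] at h2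
      calc hU.act a ^ 3 = hU.act a⁻¹ * hU.act a ^ 4 := by
            rw [pow_succ' _ 3, ← mul_assoc, ← map_mul, inv_mul_cancel, map_one, one_mul]
        _ = 1 := by rw [← h2, ← map_mul, inv_mul_cancel, map_one]
    refine hact ?_
    have hc : Nat.gcd 3 p = 1 :=
      (Nat.coprime_primes Nat.prime_three hpf.out).mpr (by have := h.five; omega)
    rw [← pow_one (hU.act a), ← hc]
    exact pow_gcd_eq_one.mpr ⟨h4, hU.act_pow_eq_one h hp1⟩
  obtain ⟨c1, d1, φ1, ψ1, O1⟩ := exists_natural hU2 (hU.act_pow_eq_one h hp1) (hU.act_pow_eq_one h hpb) hne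
    (hU.act_eq_of_rho h hrel)
  obtain ⟨⟨z, hzU⟩, hz⟩ := MaxClassEssential.vec_surjective c1
  have hc1 : c1 ≠ 0 := fun e0 => by have := O1.gc; rw [e0, map_zero] at this; exact zero_ne_one this
  have hz1 : z ≠ 1 := fun e0 => hc1 (by
    rw [← hz, hU.vec_eq_zero]; exact Subtype.ext e0)
  have hline : ∀ (y : U), φ1 (vec y : Vec p U) = 0 → (y : P) ∈ zpowers z := by
    intro y hy
    have h1 := O1.toPair.decomp_two hU2 (vec y : Vec p U)
    rw [hy, zero_smul, add_zero, ← hz] at h1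
    have h2 : (vec y : Vec p U) = vec ((⟨z, hzU⟩ : U) ^ (ψ1 (vec y : Vec p U)).val) := by
      rw [MaxClassEssential.vec_pow, ← Nat.cast_smul_eq_nsmul (ZMod p), ZMod.natCast_zmod_val]; exact h1
    rw [show (y : P) = z ^ (ψ1 (vec y : Vec p U)).val from congrArg Subtype.val (hU.vec_injective h2)]
    exact pow_mem (mem_zpowers z) _
  -- commutators with `N`
  have hcommU : ∀ n ∈ N, ∀ y : U, n * y * n⁻¹ * (y : P)⁻¹ ∈ zpowers z := by
    intro n hn y
    obtain ⟨i, hi⟩ := h.lin_cE hu hu' hn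
    have h1 : hU.act ⟨_, h.cE_mem hn⟩ = hU.act (a ^ i) := hU.act_eq_of_rho h (by rw [map_pow]; exact hi)
    set y' : U := hU.res ⟨_, h.cE_mem hn⟩ y with hy'
    have h3 : (vec y' : Vec p U) = vec y + ((i : ZMod p) * φ1 (vec y : Vec p U)) • c1 := by
      rw [hy', ← CU.act_vec, h1, map_pow, O1.ha, O1.up_pow, mat_up, tv_apply, LinearMap.smul_apply,
        smul_eq_mul]
    have h2 : φ1 (vec (y' * y⁻¹) : Vec p U) = 0 := by
      rw [MaxClassEssential.vec_mul, MaxClassEssential.vec_inv, h3, map_add, map_add, map_neg, map_smul,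
        O1.fc, smul_zero, add_zero, add_neg_cancel]
    exact hline _ h2
  have hfixed : ∀ y : U, u * y = y * u → (y : P) ∈ zpowers z := by
    intro y hy
    refine hline y ?_
    have h1 : hU.act a (vec y : Vec p U) = vec y := (hU.act_apply_eq a y).mpr (by
      show u * (y : P) * u⁻¹ = y
      rw [hy, mul_inv_cancel_right])
    rw [O1.ha, mat_up, one_smul, tv_apply, add_eq_left] at h1
    exact (smul_eq_zero.mp h1).resolve_right hc1
  have hzfix : ∀ n ∈ N, n * z = z * n := by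
    intro n hn
    obtain ⟨i, hi⟩ := h.lin_cE hu hu' hn
    have h1 : hU.act ⟨_, h.cE_mem hn⟩ (vec (⟨z, hzU⟩ : U) : Vec p U) = vec (⟨z, hzU⟩ : U) := by
      rw [hU.act_eq_of_rho h (γ := a ^ i) (by rw [map_pow]; exact hi), map_pow, O1.ha, O1.up_pow, mat_up,
        tv_apply, hz, LinearMap.smul_apply, O1.fc, smul_zero, zero_smul, add_zero]
    exact mul_inv_eq_iff_eq_mul.mp ((hU.act_apply_eq _ _).mp h1)
  have hzp : z ^ p = 1 := hU.exp z hzU
  have hgen : ∀ x ∈ zpowers z, x ≠ 1 → z ∈ zpowers x := by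
    intro x hx hx1
    have hcz : Nat.card (zpowers z) = p := by rw [Nat.card_zpowers, orderOf_eq_prime hzp hz1]
    have := mem_zpowers_of_prime_card hcz (g := ⟨x, hx⟩) (g' := ⟨z, mem_zpowers z⟩)
      (fun e0 => hx1 (congrArg Subtype.val e0))
    obtain ⟨i, hi⟩ := this
    exact ⟨i, congrArg Subtype.val hi⟩
  -- the moved copy
  set U' := U.map (MulAut.conj g).toMonoidHom with hU'
  have hU'le : ∀ x ∈ U', x ∈ phi N := by
    rintro _ ⟨y, hy, rfl⟩
    exact h.conj_mem_phi_N g (h.phi_le_phi_N hy.2)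
  have hU'comm : ∀ x ∈ U', ∀ y ∈ U', x * y = y * x := by
    rintro _ ⟨x, hx, rfl⟩ _ ⟨y, hy, rfl⟩
    rw [← map_mul, ← map_mul, hU.comm x hx y hy]
  have hUU' : ∀ x ∈ U, ∀ y ∈ U', x * y = y * x := fun x hx y hy => hU.central x hx y (h.phi_N_le (hU'le y hy))
  have hU'exp : ∀ x ∈ U', x ^ p = 1 := by
    rintro _ ⟨x, hx, rfl⟩
    rw [← map_pow, hU.exp x hx, map_one]
  obtain ⟨x, hxU, hxU', hx1⟩ : ∃ x, x ∈ U ∧ x ∈ U' ∧ x ≠ 1 := by
    by_contra hh
    push Not at hh
    let f : U × U' → (U ⊔ U' : Subgroup P) := fun t => ⟨(t.1 : P) * t.2, mul_mem_sup t.1.2 t.2.2⟩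
    have hf : Function.Injective f := by
      rintro ⟨x1, y1⟩ ⟨x2, y2⟩ e
      have e' : (x1 : P) * y1 = x2 * y2 := congrArg Subtype.val e
      have h1 : (x2 : P)⁻¹ * x1 = (y2 : P) * (y1 : P)⁻¹ := by
        rw [inv_mul_eq_iff_eq_mul, ← mul_assoc, ← e', mul_inv_cancel_right]
      have h2 : (x2 : P)⁻¹ * x1 = 1 :=
        hh _ (U.mul_mem (U.inv_mem x2.2) x1.2) (h1 ▸ U'.mul_mem y2.2 (U'.inv_mem y1.2))
      have h3 : (x2 : P) = x1 := inv_mul_eq_one.mp h2
      refine Prod.ext (Subtype.ext h3.symm) (Subtype.ext ?_)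
      rw [h3] at e'
      exact mul_left_cancel e'
    have h1 := Nat.card_le_card_of_injective f hf
    rw [Nat.card_prod, show Nat.card U' = Nat.card U from card_map_of_injective (MulEquiv.injective _), hcard,
      ← pow_add] at h1
    have h2 := h1.trans (h.card_sup_le hU.comm hU'comm hUU' hU.exp hU'exp)
    exact absurd h2 (not_le.mpr (Nat.pow_lt_pow_right hpf.out.one_lt (by norm_num)))
  have hU'n : ∀ n ∈ N, ∀ y ∈ U', n * y * n⁻¹ ∈ U' := by
    rintro n hn _ ⟨y, hy, rfl⟩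
    refine ⟨g⁻¹ * n * g * y * (g⁻¹ * n * g)⁻¹, h.conj_mem_U hU ?_ hy, ?_⟩
    · simpa using h.nrm.conj_mem n hn g⁻¹
    · simp [MulAut.conj_apply, mul_assoc]
  have hzU' : z ∈ U' := by
    by_cases hxu : u * x = x * u
    · exact (zpowers_le.mpr hxU') (hgen x (hfixed ⟨x, hxU⟩ hxu) hx1)
    · refine (zpowers_le.mpr (U'.mul_mem (hU'n u hu x hxU') (U'.inv_mem hxU')))
        (hgen _ (hcommU u hu ⟨x, hxU⟩) fun e => hxu ?_)
      exact mul_inv_eq_iff_eq_mul.mp (mul_inv_eq_one.mp e)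
  obtain ⟨z0, hz0U, hz0⟩ := hzU'
  have hz0' : g * z0 * g⁻¹ = z := hz0
  have hgz : g * z * g⁻¹ ∈ zpowers z := by
    have hz0fix : u * z0 = z0 * u := by
      have h1 := hzfix (g * u * g⁻¹) (h.nrm.conj_mem u hu g)
      rw [← hz0'] at h1
      have e : g * (u * z0) * g⁻¹ = g * (z0 * u) * g⁻¹ := by simpa [mul_assoc] using h1
      exact mul_left_cancel (mul_right_cancel e)
    obtain ⟨i, hi⟩ := hgen z0 (hfixed ⟨z0, hz0U⟩ hz0fix) (fun e => hz1 (by rw [← hz0', e, mul_one, mul_inv_cancel]))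
    refine ⟨i, ?_⟩
    show z ^ i = g * z * g⁻¹
    conv_rhs => rw [← hi]
    rw [← hz0', conj_zpow]
  have hgz' : ∀ v ∈ zpowers z, g * v * g⁻¹ ∈ zpowers z := by
    rintro _ ⟨i, rfl⟩
    rw [← conj_zpow]
    exact zpow_mem hgz i
  have hcommU' : ∀ y ∈ U', ∀ e ∈ E, y * e * y⁻¹ * e⁻¹ ∈ zpowers z := by
    rintro _ ⟨y, hy, rfl⟩ e he
    have hn' : g⁻¹ * e * g ∈ N := by simpa using h.nrm.conj_mem e (h.le_N he) g⁻¹
    have h1 := hgz' _ (inv_mem (hcommU _ hn' ⟨y, hy⟩))
    have e2 : g * (g⁻¹ * e * g * y * (g⁻¹ * e * g)⁻¹ * y⁻¹)⁻¹ * g⁻¹ = g * y * g⁻¹ * e * (g * y * g⁻¹)⁻¹ * e⁻¹ := by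
      group
    rwa [e2] at h1
  -- a noncentral element
  obtain ⟨y, hyU', e0, he0, hye⟩ : ∃ y ∈ U', ∃ e ∈ E, y * e ≠ e * y := by
    by_contra hh
    push Not at hh
    obtain ⟨e', he', hge⟩ : ∃ e ∈ E, g * e * g⁻¹ ∉ E := by
      by_contra hh'
      push Not at hh'
      refine hg (h.nE.le (mem_normalizer_iff.mpr fun e => ⟨hh' e, fun he => ?_⟩))
      obtain ⟨⟨e'', he''⟩, e3⟩ := Finite.injective_iff_surjective.mp
        (show Function.Injective (fun x : E => (⟨g * x * g⁻¹, hh' x x.2⟩ : E)) from fun x y e =>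
          Subtype.ext (mul_left_cancel (mul_right_cancel (congrArg Subtype.val e)))) ⟨_, he⟩
      have e4 : e'' = e := mul_left_cancel (mul_right_cancel (congrArg Subtype.val e3))
      exact e4 ▸ he''
    have hwg : g * w * g⁻¹ ∈ U' := ⟨w, hw, rfl⟩
    have hC : N ⊓ centralizer ({g * w * g⁻¹} : Set P) = N :=
      (h.between (le_inf h.le_N fun e he => mem_centralizer_singleton_iff.mpr (hh _ hwg e he).symm)
        inf_le_left).resolve_left fun e1 => hge (e1.le ⟨h.nrm.conj_mem _ (h.le_N he') g,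
          mem_centralizer_singleton_iff.mpr (by
            have h5 := hU.central w hw e' he'
            calc g * e' * g⁻¹ * (g * w * g⁻¹) = g * (e' * w) * g⁻¹ := by group
              _ = g * w * g⁻¹ * (g * e' * g⁻¹) := by rw [← h5]; group)⟩)
    refine huw ?_
    have h6 := mem_centralizer_singleton_iff.mp (hC.ge (h.nrm.conj_mem u hu g)).2
    have e : g * (u * w) * g⁻¹ = g * (w * u) * g⁻¹ := by simpa [mul_assoc] using h6
    exact mul_left_cancel (mul_right_cancel e)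
  have hyN := hU'le y hyU'
  set yE : E := ⟨y, h.phi_N_le hyN⟩ with hyE
  obtain ⟨r, hr⟩ := h.phi_N_img hu hu' O (x := yE) hyN
  have hyphi : ∀ f ∈ phi E, y * f = f * y := by
    obtain ⟨y0, hy0, hy0e⟩ := hyU'
    have hy0' : g * y0 * g⁻¹ = y := hy0e
    intro f hf
    have h5 : g⁻¹ * f * g ∈ E := by simpa using h.conj_phi_le g⁻¹ hf
    have h6 := hU.central y0 hy0 _ h5
    rw [← hy0']
    calc g * y0 * g⁻¹ * f = g * (y0 * (g⁻¹ * f * g)) * g⁻¹ := by group
      _ = f * (g * y0 * g⁻¹) := by rw [h6]; group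
  set yb : E := (b : MulAut E) yE with hyb
  have hybphi : ∀ f ∈ phi E, (yb : P) * f = f * yb := by
    intro f hf
    set f' : E := (b : MulAut E).symm ⟨f, phi_le hf⟩
    have hf' : (f' : P) ∈ phi E := apply_mem_phi ((b : MulAut E)⁻¹) (e := ⟨f, phi_le hf⟩) hf
    have h5 : yE * f' = f' * yE := Subtype.ext (hyphi _ hf')
    have h6 := congrArg (fun t : E => (((b : MulAut E) t : E) : P)) h5
    simpa [f'] using h6
  -- the two conjugates commute
  set cc : E := yE * yb * yE⁻¹ * yb⁻¹ with hcc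
  have hccU : (cc : P) ∈ U := by
    have h5 := hcommU' y hyU' yb yb.2
    exact (zpowers_le.mpr hzU) (by simpa [hcc] using h5)
  have hycomm : (y : P) * yb = yb * y := by
    have hneg1 : (-1 : ZMod p) ≠ 0 := neg_ne_zero.mpr one_ne_zero
    set j := torE a b (-1 : ZMod p)
    have hj1 : hU.act j = -1 := by
      rw [O1.torE_eq hneg1, inv_neg, inv_one, O1.toPair.mat_neg_one hU2]
    have hjv : ∀ x : E, (∃ r s : ZMod p, (vec x : Vec p E) = r • c + s • d) →
        (vec ((j : MulAut E) x) : Vec p E) = -vec x := by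
      rintro x ⟨r, s, hx⟩
      rw [← apply_vec h, hx, O.torE_eq hneg1, map_add, map_smul, map_smul, O.mat_c, O.mat_d, inv_neg, inv_one]
      module
    have hvb : (vec yb : Vec p E) = r • c + r • d := by
      rw [hyb, ← apply_vec h, hr, O.hb, map_smul, O.mat_c, one_smul, one_smul, smul_add]
    set f1 : E := (j : MulAut E) yE * yE
    set f2 : E := (j : MulAut E) yb * yb
    have hf1 : (f1 : P) ∈ phi E := h.mem_phi_of_mul (hjv yE ⟨r, 0, by rw [hr, zero_smul, add_zero]⟩)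
    have hf2 : (f2 : P) ∈ phi E := h.mem_phi_of_mul (hjv yb ⟨r, r, hvb⟩)
    have hcj : ((j : MulAut E) cc : E) = cc⁻¹ := by
      have h5 : hU.act j (vec (⟨cc, hccU⟩ : U) : Vec p U) = vec ((⟨cc, hccU⟩ : U)⁻¹) := by
        rw [hj1, MaxClassEssential.vec_inv, LinearMap.neg_apply, Module.End.one_apply]
      rw [CU.act_vec] at h5
      exact Subtype.ext (by simpa [CU.coe_res] using congrArg Subtype.val (hU.vec_injective h5))
    have k1 : ∀ f : E, (f : P) ∈ phi E → Commute yE f := fun f hf => Subtype.ext (hyphi _ hf)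
    have k2 : ∀ f : E, (f : P) ∈ phi E → Commute yb f := fun f hf => Subtype.ext (hybphi _ hf)
    have k3 : Commute f1 f2 := by
      have : Commute ((j : MulAut E) yE) f2 := by
        have hf2' : (((j : MulAut E).symm f2 : E) : P) ∈ phi E := apply_mem_phi ((j : MulAut E)⁻¹) hf2
        have := (k1 _ hf2').map (j : MulAut E).toMonoidHom
        simpa using this
      exact this.mul_left (k1 _ hf2)
    have hcc' : ∀ t : E, Commute cc t := fun t => Subtype.ext (hU.central _ hccU t t.2)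
    have e1 : (j : MulAut E) yE = f1 * yE⁻¹ := by simp [f1]
    have e2 : (j : MulAut E) yb = f2 * yb⁻¹ := by simp [f2]
    have h7 : (j : MulAut E) cc = yE⁻¹ * yb⁻¹ * yE * yb := by
      simp only [hcc, map_mul, map_inv, e1, e2, mul_inv_rev, inv_inv]
      have q1 : Commute yE⁻¹ f2 := (k1 _ hf2).inv_left
      have q2 : Commute yb f1 := k2 _ hf1
      have q3 : Commute yb f2 := k2 _ hf2
      have q4 : Commute yb⁻¹ f1 := q2.inv_left
      have q5 : Commute yE f1 := k1 _ hf1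
      calc f1 * yE⁻¹ * (f2 * yb⁻¹) * (yE * f1⁻¹) * (yb * f2⁻¹)
          = f1 * (yE⁻¹ * f2) * yb⁻¹ * (yE * f1⁻¹) * yb * f2⁻¹ := by group
        _ = f1 * f2 * yE⁻¹ * yb⁻¹ * (f1⁻¹ * yE) * yb * f2⁻¹ := by rw [q1.eq, q5.inv_right.eq]; group
        _ = f1 * f2 * yE⁻¹ * (yb⁻¹ * f1⁻¹) * yE * yb * f2⁻¹ := by group
        _ = f1 * f2 * (yE⁻¹ * f1⁻¹) * yb⁻¹ * yE * yb * f2⁻¹ := by rw [q4.inv_right.eq]; group
        _ = f1 * f2 * f1⁻¹ * yE⁻¹ * yb⁻¹ * yE * (yb * f2⁻¹) := by rw [q5.inv_left.inv_right.eq]; group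
        _ = f1 * f2 * f1⁻¹ * yE⁻¹ * yb⁻¹ * (yE * f2⁻¹) * yb := by rw [q3.inv_right.eq]; group
        _ = f1 * f2 * f1⁻¹ * yE⁻¹ * (yb⁻¹ * f2⁻¹) * yE * yb := by rw [(k1 _ hf2).inv_right.eq]; group
        _ = f1 * f2 * f1⁻¹ * (yE⁻¹ * f2⁻¹) * yb⁻¹ * yE * yb := by rw [q3.inv_left.inv_right.eq]; group
        _ = f1 * f2 * f1⁻¹ * f2⁻¹ * yE⁻¹ * yb⁻¹ * yE * yb := by rw [q1.inv_right.eq]; group
        _ = yE⁻¹ * yb⁻¹ * yE * yb := by rw [k3.eq]; group
    have h8 : yE⁻¹ * yb⁻¹ * yE * yb = cc := by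
      have h9 := (hcc' (yb * yE)).eq
      rw [hcc] at h9 ⊢
      calc yE⁻¹ * yb⁻¹ * yE * yb = (yb * yE)⁻¹ * (yE * yb * yE⁻¹ * yb⁻¹ * (yb * yE)) := by group
        _ = _ := by rw [h9]; group
    rw [h7, h8] at hcj
    have h10 : (cc : P) * cc = 1 := by
      rw [← Subgroup.coe_mul, eq_inv_iff_mul_eq_one.mp hcj]; rfl
    have h11 : yE * yb * yE⁻¹ * yb⁻¹ = 1 := Subtype.ext (eq_one_of_sq h h10)
    exact congrArg Subtype.val (mul_inv_eq_iff_eq_mul.mp (mul_inv_eq_one.mp h11))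
  -- the plane is invariant
  have hypow : y ^ p = 1 := hU'exp y hyU'
  have hybpow : (yb : P) ^ p = 1 := by
    rw [← SubmonoidClass.coe_pow, hyb, ← map_pow, show yE ^ p = 1 from Subtype.ext (by
      rw [SubmonoidClass.coe_pow]; exact hypow), map_one]
    rfl
  set S1 : Subgroup P := closure ((U : Set P) ∪ {y, (yb : P)}) with hS1
  set Y : Subgroup P := closure ((U : Set P) ∪ {y}) with hY
  have hcs : ∀ s ∈ (U : Set P) ∪ {y, (yb : P)}, ∀ t ∈ (U : Set P) ∪ {y, (yb : P)}, s * t = t * s := by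
    rintro s (hs | rfl | rfl) t (ht | rfl | rfl)
    · exact hU.central s hs t (hU.le ht)
    · exact hUU' s hs _ hyU'
    · exact hU.central s hs _ yb.2
    · exact (hUU' t ht _ hyU').symm
    · rfl
    · exact hycomm
    · exact (hU.central t ht _ yb.2).symm
    · exact hycomm.symm
    · rfl
  have hes : ∀ s ∈ (U : Set P) ∪ {y, (yb : P)}, s ^ p = 1 := by
    rintro s (hs | rfl | rfl)
    exacts [hU.exp s hs, hypow, hybpow]
  have habS : ∀ s ∈ S1, ∀ t ∈ S1, s * t = t * s := by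
    intro s hs t ht
    have g1 : S1 ≤ centralizer (centralizer ((U : Set P) ∪ {y, (yb : P)}) : Set P) :=
      closure_le_centralizer_centralizer _
    have g2 : S1 ≤ centralizer ((U : Set P) ∪ {y, (yb : P)}) :=
      (closure_le _).mpr fun x hx => mem_centralizer_iff.mpr fun x' hx' => hcs x' hx' x hx
    exact (mem_centralizer_iff.mp (g1 hs) t (g2 ht)).symm
  have hcardS : Nat.card S1 ≤ p ^ 3 := h.card_le habS (exp_closure hcs hes)
  have hYS : Y ≤ S1 := Subgroup.closure_mono (Set.union_subset_union_right _ (by simp))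
  have hUY : U < Y := lt_of_le_of_ne (fun t ht => subset_closure (Or.inl ht))
    fun e => hye (hU.central y (e.ge (subset_closure (Or.inr rfl))) e0 he0)
  obtain ⟨k, hk⟩ := (h.pg.to_subgroup Y).exists_card_eq
  have hlt : p ^ 2 < p ^ k := by
    rw [← hk, ← hcard]
    exact lt_of_le_of_ne (card_le_of_le hUY.le) fun e => hUY.ne (eq_of_le_of_card_ge hUY.le e.ge)
  have hk3 : 3 ≤ k := (Nat.pow_lt_pow_iff_right hpf.out.one_lt).mp hlt
  have hYeq : Y = S1 := eq_of_le_of_card_ge hYS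
    (hcardS.trans (hk ▸ Nat.pow_le_pow_right hpf.out.pos hk3))
  have hybY : (yb : P) ∈ Y := hYeq.ge (subset_closure (Or.inr (Or.inr rfl)))
  have hYz : ∀ t ∈ Y, ∀ e ∈ E, t * e * t⁻¹ * e⁻¹ ∈ zpowers z := by
    intro t ht
    refine closure_induction (p := fun t _ => ∀ e ∈ E, t * e * t⁻¹ * e⁻¹ ∈ zpowers z) ?_ ?_ ?_ ?_ ht
    · rintro t (ht | rfl) e he
      · rw [hU.central t ht e he, mul_inv_cancel_right, mul_inv_cancel]; exact one_mem _
      · exact hcommU' _ hyU' e he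
    · intro e _; simp
    · intro t s ht hs it is e he
      obtain ⟨i, hi⟩ := is e he
      have htN : t ∈ N := by
        have h5 : Y ≤ N := (closure_le _).mpr (Set.union_subset (fun r hr => h.le_N (hU.le hr))
          (Set.singleton_subset_iff.mpr (h.le_N (h.phi_N_le hyN))))
        exact h5 ht
      have hz5 : Commute t (z ^ i) := (show Commute t z from hzfix t htN).zpow_right i
      have e5 : t * s * e * (t * s)⁻¹ * e⁻¹ = (t * (s * e * s⁻¹ * e⁻¹) * t⁻¹) * (t * e * t⁻¹ * e⁻¹) := by group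
      have hi' : z ^ i = s * e * s⁻¹ * e⁻¹ := hi
      rw [e5, ← hi', hz5.eq, mul_inv_cancel_right]
      exact mul_mem (zpow_mem (mem_zpowers z) i) (it e he)
    · intro t ht it e he
      have htN : t ∈ N := by
        have h5 : Y ≤ N := (closure_le _).mpr (Set.union_subset (fun r hr => h.le_N (hU.le hr))
          (Set.singleton_subset_iff.mpr (h.le_N (h.phi_N_le hyN))))
        exact h5 ht
      obtain ⟨i, hi⟩ := it e he
      have hz5 : Commute t (z ^ i) := (show Commute t z from hzfix t htN).zpow_right i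
      have e5 : t⁻¹ * e * t⁻¹⁻¹ * e⁻¹ = t⁻¹ * (t * e * t⁻¹ * e⁻¹)⁻¹ * t := by group
      have hi' : z ^ i = t * e * t⁻¹ * e⁻¹ := hi
      rw [e5, ← hi', hz5.symm.inv_left.inv_right.eq.symm]
      simp
  set c0 : E := yE * ⟨e0, he0⟩ * yE⁻¹ * ⟨e0, he0⟩⁻¹
  have hc0z : (c0 : P) ∈ zpowers z := hcommU' y hyU' e0 he0
  have hc01 : (c0 : P) ≠ 1 := fun e => hye (mul_inv_eq_iff_eq_mul.mp (mul_inv_eq_one.mp e))
  have hbc0 : (((b : MulAut E) c0 : E) : P) ∈ zpowers z := by
    have h5 := hYz _ hybY _ ((b : MulAut E) ⟨e0, he0⟩).2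
    simpa [c0, yb] using h5
  set zE : E := ⟨z, hU.le hzU⟩ with hzE
  obtain ⟨i, hi⟩ := hgen _ hc0z hc01
  have hbz : (((b : MulAut E) zE : E) : P) ∈ zpowers z := by
    have e6 : zE = c0 ^ i := Subtype.ext hi.symm
    rw [e6, map_zpow, SubgroupClass.coe_zpow]
    exact zpow_mem hbc0 i
  have hbzU : (((b : MulAut E) zE : E) : P) ∈ U := zpowers_le.mpr hzU hbz
  have h12 : φ1 (vec (hU.res b ⟨z, hzU⟩) : Vec p U) = 0 := by
    obtain ⟨m, hm⟩ := hbz
    have e7 : hU.res b ⟨z, hzU⟩ = (⟨z, hzU⟩ : U) ^ m := Subtype.ext (by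
      rw [SubgroupClass.coe_zpow]; exact hm.symm)
    obtain ⟨m', hm'⟩ : ∃ m' : ℕ, (⟨z, hzU⟩ : U) ^ m' = (⟨z, hzU⟩ : U) ^ m :=
      mem_powers_iff_mem_zpowers.mpr ⟨m, rfl⟩
    rw [e7, ← hm', MaxClassEssential.vec_pow, hz, map_nsmul, O1.fc, smul_zero]
  rw [← CU.act_vec, hz, O1.hb, O1.mat_c, map_add, map_smul, map_smul, O1.fc, O1.fd] at h12
  simp at h12

/-- The essential subgroup is elementary abelian. -/
theorem phi_eq_bot (h : Hyp p E N A B) (hK : Irr E N A B) (hu : u ∈ N) (hu' : u ∉ E) (hg : g ∉ N)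
    (O : Opp h.rho c d φ ψ ⟨_, h.cE_mem hu⟩ b)
    (hker : ∀ γ v, φ v = 0 → ψ v = 0 → φ (h.rho γ v) = 0 ∧ ψ (h.rho γ v) = 0) : phi E = ⊥ := by
  set a : A := ⟨_, h.cE_mem hu⟩ with ha
  set W := omegaZ E p with hWdef
  have hW : CU E A p W := cu_omegaZ
  have hU : CU E A p (W ⊓ phi E) := hW.inter_phi
  haveI : Fact (IsPGroup p W) := ⟨h.pg.to_subgroup W⟩
  haveI : Fact (IsPGroup p (W ⊓ phi E : Subgroup P)) := ⟨h.pg.to_subgroup _⟩
  obtain ⟨w0, hw0, hw0u⟩ := h.exists_moved_omega hK hu hu' O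
  have hfix3 := h.comm_phi_part hu hu' hg O
  obtain ⟨hrel, hbeq, hτrel⟩ := h.frame_rel O
  have hp1 : h.rho a ^ p = 1 := h.lin_cE_pow hu
  have h5' := h.five
  have h2 := two_ne_zero' h.five
  have hneg : (-1 : ZMod p) ≠ 0 := neg_ne_zero.mpr one_ne_zero
  obtain ⟨e, he0, he1, he2, hspan⟩ := O.toPair.kernel_line h.finrank_eq
  have hn : ∀ v, (h.rho a - 1) v = φ v • c := fun v => by
    rw [LinearMap.sub_apply, O.ha, mat_up, one_smul, tv_apply, Module.End.one_apply, add_sub_cancel_left]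
  have hna : hW.act a ≠ 1 := fun e1 => hw0u (mul_inv_eq_iff_eq_mul.mp
    (congrArg (fun t : E => (t : P)) (hW.act_eq_one.mp e1 ⟨w0, hw0.1⟩ hw0)))
  have hb3 : ∀ x : E, (x : P) ∈ W ⊓ phi E → (a : MulAut E) x = x ∧ (b : MulAut E) x = x := by
    have hca : hU.act a = 1 := hU.act_eq_one.mpr fun x hx => Subtype.ext (by
      show u * (x : P) * u⁻¹ = x
      rw [hfix3 _ hx, mul_inv_cancel_right])
    have hcb : hU.act b = 1 := by
      rw [hU.act_eq_of_rho h hbeq]
      simp only [map_mul]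
      rw [show hU.act a⁻¹ = 1 by rw [← mul_one (hU.act a⁻¹), ← hca, ← map_mul, inv_mul_cancel, map_one, hca],
        mul_one, ← map_mul, ← map_mul, ← map_mul, mul_inv_cancel, map_one]
    exact fun x hx => ⟨hU.act_eq_one.mp hca x hx, hU.act_eq_one.mp hcb x hx⟩
  have hcl : ∀ t ∈ closure ({a, b} : Set A), ∀ x : E, (x : P) ∈ W ⊓ phi E → (t : MulAut E) x = x := by
    intro t ht
    refine closure_induction (p := fun (t : A) _ => ∀ x : E, (x : P) ∈ W ⊓ phi E → (t : MulAut E) x = x) ?_ ?_ ?_ ?_ ht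
    · rintro t (rfl | rfl) x hx
      exacts [(hb3 x hx).1, (hb3 x hx).2]
    · intro x _; rfl
    · intro t s _ _ it is x hx
      rw [Subgroup.coe_mul, MulAut.mul_apply, is x hx, it x hx]
    · intro t _ it x hx
      rw [Subgroup.coe_inv]
      show ((t : MulAut E))⁻¹ x = x
      conv_lhs => rw [← it x hx]
      exact MulAut.inv_apply_self _ _ x
  -- some element of `W` has its image outside the fixed line
  obtain ⟨wm, hwm, hwmne⟩ : ∃ x : E, (x : P) ∈ W ∧ (φ (vec x : Vec p E) ≠ 0 ∨ ψ (vec x : Vec p E) ≠ 0) := by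
    by_contra hh
    push Not at hh
    have hvec : ∀ x : E, (x : P) ∈ W → h.rho a (vec x : Vec p E) = vec x ∧ h.rho b (vec x : Vec p E) = vec x := by
      intro x hx
      obtain ⟨e1, e2⟩ := hh x hx
      rw [O.ha, O.hb, mat_fix _ _ _ _ e1 e2, mat_fix _ _ _ _ e1 e2]
      exact ⟨rfl, rfl⟩
    have hstep : ∀ t : A, (∀ x : E, (x : P) ∈ W → h.rho t (vec x : Vec p E) = vec x) → ∀ x : E, (x : P) ∈ W →
        ∃ f : E, (f : P) ∈ W ⊓ phi E ∧ (t : MulAut E) x = x * f := by
      intro t ht x hx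
      refine ⟨x⁻¹ * (t : MulAut E) x, ⟨W.mul_mem (W.inv_mem hx) (hW.inv t t.2 x hx), ?_⟩, by rw [mul_inv_cancel_left]⟩
      refine (vec_eq_zero_iff (p := p)).mp ?_
      rw [MaxClassEssential.vec_mul, MaxClassEssential.vec_inv, ← apply_vec h, ht x hx, neg_add_cancel]
    have hab : hW.act a * hW.act b = hW.act b * hW.act a := by
      refine LinearMap.ext fun v => ?_
      obtain ⟨⟨x, hx⟩, rfl⟩ := MaxClassEssential.vec_surjective v
      set xE : E := ⟨x, hW.le hx⟩
      obtain ⟨f1, hf1, e1⟩ := hstep a (fun x hx => (hvec x hx).1) xE hx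
      obtain ⟨f2, hf2, e2⟩ := hstep b (fun x hx => (hvec x hx).2) xE hx
      rw [← map_mul, ← map_mul, CU.act_vec, CU.act_vec]
      refine congrArg vec (Subtype.ext ?_)
      rw [CU.coe_res, CU.coe_res]
      refine congrArg (fun t : E => (t : P)) ?_
      show (a : MulAut E) ((b : MulAut E) xE) = (b : MulAut E) ((a : MulAut E) xE)
      rw [e1, e2, map_mul, map_mul, e1, e2, (hb3 f2 hf2).1, (hb3 f1 hf1).2, mul_assoc, mul_assoc]
      congr 1
      exact Subtype.ext (hW.central _ hf1.1 f2 f2.2)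
    have hτ : hW.act (torE a b (2 : ZMod p)) * hW.act a = hW.act a * hW.act (torE a b (2 : ZMod p)) := by
      have hm : torE a b (2 : ZMod p) ∈ closure ({a, b} : Set A) :=
        torE_mem (subset_closure (Set.mem_insert a {b})) (subset_closure (Set.mem_insert_of_mem a rfl)) _
      refine closure_induction (p := fun x _ => hW.act x * hW.act a = hW.act a * hW.act x) ?_ ?_ ?_ ?_ hm
      · rintro x (rfl | rfl); exacts [rfl, hab.symm]
      · rw [map_one, one_mul, mul_one]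
      · intro x y _ _ ix iy
        rw [map_mul, mul_assoc, iy, ← mul_assoc, ix, mul_assoc]
      · intro x _ ix
        calc hW.act x⁻¹ * hW.act a = hW.act x⁻¹ * (hW.act a * hW.act x) * hW.act x⁻¹ := by
              rw [← map_mul, ← map_mul, ← map_mul, ← map_mul]; congr 1; group
          _ = hW.act a * hW.act x⁻¹ := by
              rw [← ix, ← mul_assoc, ← map_mul, inv_mul_cancel, map_one, one_mul]
    have h4 : hW.act a ^ 3 = 1 := by
      have e1 := hW.act_eq_of_rho h hτrel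
      rw [map_mul, map_mul, map_pow, hτ] at e1
      have e2 := congrArg (· * hW.act (torE a b (2 : ZMod p))⁻¹) e1
      simp only [mul_assoc, ← map_mul, mul_inv_cancel, map_one, mul_one] at e2
      calc hW.act a ^ 3 = hW.act a⁻¹ * hW.act a ^ 4 := by
            rw [pow_succ' _ 3, ← mul_assoc, ← map_mul, inv_mul_cancel, map_one, one_mul]
        _ = 1 := by rw [← e2, ← map_mul, inv_mul_cancel, map_one]
    have hc3 : Nat.gcd 3 p = 1 := (Nat.coprime_primes Nat.prime_three hpf.out).mpr (by omega)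
    refine hna ?_
    rw [← pow_one (hW.act a), ← hc3]
    exact pow_gcd_eq_one.mpr ⟨h4, hW.act_pow_eq_one h hp1⟩
  set S := img p E W with hS
  have hSinv : ∀ (t : A), ∀ v ∈ S, h.rho t v ∈ S := fun t v hv => h.img_inv hW.inv t hv
  have hb' : ∀ v, h.rho b v - v = ψ v • d := fun v => by
    rw [O.hb, mat_lo, one_smul, tv_apply, add_sub_cancel_left]
  have ha' : ∀ v, h.rho a v - v = φ v • c := fun v => by
    rw [O.ha, mat_up, one_smul, tv_apply, add_sub_cancel_left]
  have hvm : (vec wm : Vec p E) ∈ S := vec_mem_img hwm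
  have hcS : c ∈ S ∧ d ∈ S := by
    have hcd : c ∈ S → d ∈ S := fun hc => by
      have h6 := S.sub_mem (hSinv b c hc) hc
      rwa [hb', O.gc, one_smul] at h6
    have hdc : d ∈ S → c ∈ S := fun hd => by
      have h6 := S.sub_mem (hSinv a d hd) hd
      rwa [ha', O.fd, one_smul] at h6
    rcases hwmne with h6 | h6
    · have h7 := S.sub_mem (hSinv a _ hvm) hvm
      rw [ha'] at h7
      have h8 := (S.smul_mem_iff h6).mp h7
      exact ⟨h8, hcd h8⟩
    · have h7 := S.sub_mem (hSinv b _ hvm) hvm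
      rw [hb'] at h7
      have h8 := (S.smul_mem_iff h6).mp h7
      exact ⟨hdc h8, h8⟩
  set j := torE a b (-1 : ZMod p) with hjdef
  have hjcl : j ∈ closure ({a, b} : Set A) :=
    torE_mem (subset_closure (Set.mem_insert a {b})) (subset_closure (Set.mem_insert_of_mem a rfl)) _
  have hj : h.rho j = mat c d φ ψ (-1) 0 0 (-1) := by rw [O.torE_eq hneg, inv_neg, inv_one]
  have hjj : h.rho (j * j) = 1 := by
    rw [map_mul, hj, O.mat_mul, ← mat_one (c := c) (d := d) (φ := φ) (ψ := ψ)]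
    congr 1 <;> ring
  have hneg2 : ∀ v, (∃ r s : ZMod p, v = r • c + s • d) → h.rho j v = -v := by
    rintro v ⟨r, s, rfl⟩
    rw [hj, map_add, map_smul, map_smul, O.mat_c, O.mat_d]
    module
  let W2 : Subgroup E :=
    { carrier := {x | (x : P) ∈ W ∧ (j : MulAut E) x = x⁻¹}
      one_mem' := ⟨W.one_mem, by rw [map_one, inv_one]⟩
      mul_mem' := fun {x y} hx hy => ⟨W.mul_mem hx.1 hy.1, by
        rw [map_mul, hx.2, hy.2, mul_inv_rev]
        exact Subtype.ext (hW.central _ (inv_mem hx.1) _ (y⁻¹ : E).2)⟩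
      inv_mem' := fun {x} hx => ⟨W.inv_mem hx.1, by rw [map_inv, hx.2]⟩ }
  have hlift : ∀ v ∈ S, (∃ r s : ZMod p, v = r • c + s • d) → ∃ x ∈ W2, (vec x : Vec p E) = (2 : ZMod p) • v := by
    rintro _ ⟨x, hx, rfl⟩ hv
    refine ⟨x * ((j : MulAut E) x)⁻¹, ⟨W.mul_mem hx (W.inv_mem (hW.inv j j.2 x hx)), ?_⟩, ?_⟩
    · have hjx : (j : MulAut E) ((j : MulAut E) x) = x :=
        h.apply_eq_of_lin (A.mul_mem j.2 j.2) A.one_mem (hjj.trans (map_one lin).symm) (hW.mem_center hx)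
      rw [map_mul, map_inv, hjx, mul_inv_rev, inv_inv]
    · rw [MaxClassEssential.vec_mul, MaxClassEssential.vec_inv, ← apply_vec h, hneg2 _ hv, neg_neg, two_smul]
  obtain ⟨c2, hc2, hc2v⟩ := hlift c hcS.1 ⟨1, 0, by rw [one_smul, zero_smul, add_zero]⟩
  obtain ⟨d2, hd2, hd2v⟩ := hlift d hcS.2 ⟨0, 1, by rw [one_smul, zero_smul, zero_add]⟩
  let C : Subgroup E :=
    { carrier := {x | φ (vec x : Vec p E) = 0 ∧ ψ (vec x : Vec p E) = 0}
      one_mem' := by
        show φ (vec (1 : E) : Vec p E) = 0 ∧ ψ (vec (1 : E) : Vec p E) = 0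
        rw [MaxClassEssential.vec_one, map_zero, map_zero]
        exact ⟨rfl, rfl⟩
      mul_mem' := fun {x y} hx hy => by
        show φ (vec (x * y) : Vec p E) = 0 ∧ ψ (vec (x * y) : Vec p E) = 0
        rw [MaxClassEssential.vec_mul, map_add, map_add, hx.1, hx.2, hy.1, hy.2, add_zero]
        exact ⟨rfl, rfl⟩
      inv_mem' := fun {x} hx => by
        show φ (vec x⁻¹ : Vec p E) = 0 ∧ ψ (vec x⁻¹ : Vec p E) = 0
        rw [MaxClassEssential.vec_inv, map_neg, map_neg, hx.1, hx.2, neg_zero]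
        exact ⟨rfl, rfl⟩ }
  have hsplit : ∀ x : E, ∃ w ∈ W2, ∃ q ∈ C, x = w * q := by
    intro x
    set w : E := c2 ^ (ψ (vec x : Vec p E) * (2 : ZMod p)⁻¹).val * d2 ^ (φ (vec x : Vec p E) * (2 : ZMod p)⁻¹).val
    have hwv : (vec w : Vec p E) = ψ (vec x : Vec p E) • c + φ (vec x : Vec p E) • d := by
      rw [MaxClassEssential.vec_mul, MaxClassEssential.vec_pow, MaxClassEssential.vec_pow, hc2v, hd2v,
        ← Nat.cast_smul_eq_nsmul (ZMod p), ← Nat.cast_smul_eq_nsmul (ZMod p), ZMod.natCast_zmod_val,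
        ZMod.natCast_zmod_val, smul_smul, smul_smul, inv_mul_cancel_right₀ h2, inv_mul_cancel_right₀ h2]
    refine ⟨w, mul_mem (pow_mem hc2 _) (pow_mem hd2 _), w⁻¹ * x, ?_, by rw [mul_inv_cancel_left]⟩
    show φ (vec (w⁻¹ * x) : Vec p E) = 0 ∧ ψ (vec (w⁻¹ * x) : Vec p E) = 0
    rw [MaxClassEssential.vec_mul, MaxClassEssential.vec_inv, hwv]
    constructor
    · simp [O.fc, O.fd]
    · simp [O.gc, O.gd]
  have hmeet : ∀ x ∈ W2, x ∈ C → x = 1 := by
    rintro x ⟨hxW, hxj⟩ ⟨hx1, hx2⟩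
    have e1 : (vec x : Vec p E) = -vec x := by
      conv_lhs => rw [← mat_fix (c := c) (d := d) (-1 : ZMod p) 0 0 (-1) hx1 hx2, ← hj, apply_vec h, hxj,
        MaxClassEssential.vec_inv]
    have e2 : (2 : ZMod p) • (vec x : Vec p E) = 0 := by rw [two_smul]; exact eq_neg_iff_add_eq_zero.mp e1
    have e3 := hcl j hjcl x ⟨hxW, vec_eq_zero_iff.mp ((smul_eq_zero.mp e2).resolve_left h2)⟩
    rw [hxj] at e3
    have e4 : (x : P) * x = 1 := by
      rw [← Subgroup.coe_mul, inv_eq_iff_mul_eq_one.mp e3]; rfl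
    exact Subtype.ext (eq_one_of_sq h e4)
  have hw2c : ∀ w ∈ W2, ∀ x : E, Commute w x := fun w hw x => Subtype.ext (hW.central _ hw.1 x x.2)
  have hw2p : ∀ w ∈ W2, w ^ p = 1 := fun w hw => Subtype.ext (by
    rw [SubmonoidClass.coe_pow]; exact hW.exp _ hw.1)
  -- the complement is cyclic
  have hphiC : ∀ x : E, (x : P) ∈ phi E → ∃ q : C, (q : E) = x ∧ q ∈ frattini C := by
    intro x hx
    have hC : frattini E ≤ (frattini C).map C.subtype := by
      refine CfsgLib.RankFrattini.frattini_le_of_elementary hfE.out _ (fun y z => ?_) (fun y => ?_)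
      · obtain ⟨w, hw, q, hq, rfl⟩ := hsplit y
        obtain ⟨w', hw', q', hq', rfl⟩ := hsplit z
        have e1 : ⁅w * q, w' * q'⁆ = ⁅q, q'⁆ := by
          rw [commutatorElement_def, commutatorElement_def, mul_inv_rev, mul_inv_rev]
          calc w * q * (w' * q') * (q⁻¹ * w⁻¹) * (q'⁻¹ * w'⁻¹)
              = w * (q * w') * q' * q⁻¹ * (w⁻¹ * q'⁻¹) * w'⁻¹ := by group
            _ = w * w' * (q * q' * q⁻¹ * q'⁻¹) * (w⁻¹ * w'⁻¹) := by
              rw [← (hw2c w' hw' q).eq, ((hw2c w hw q').inv_left.inv_right).eq]; group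
            _ = q * q' * q⁻¹ * q'⁻¹ := by
              rw [(hw2c w hw w').inv_left.inv_right.eq, ← mul_inv_rev,
                ((hw2c w hw _).mul_left (hw2c w' hw' (q * q' * q⁻¹ * q'⁻¹))).eq, mul_inv_cancel_right]
        rw [e1]
        exact ⟨⁅(⟨q, hq⟩ : C), ⟨q', hq'⟩⁆, CfsgLib.commutator_le_frattini_pGroup (hfE.out.to_subgroup C)
          (commutator_mem_commutator (mem_top _) (mem_top _)), map_commutatorElement C.subtype _ _⟩
      · obtain ⟨w, hw, q, hq, rfl⟩ := hsplit y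
        rw [(hw2c w hw q).mul_pow, hw2p w hw, one_mul]
        exact ⟨(⟨q, hq⟩ : C) ^ p, CfsgLib.pow_mem_frattini_pGroup (hfE.out.to_subgroup C) _, map_pow C.subtype _ _⟩
    obtain ⟨q, hq, rfl⟩ := hC (coe_mem_phi.mp hx)
    exact ⟨q, rfl, hq⟩
  obtain ⟨c3, hc3⟩ := MaxClassEssential.vec_surjective e
  have hc3C : c3 ∈ C := by
    show φ (vec c3 : Vec p E) = 0 ∧ ψ (vec c3 : Vec p E) = 0
    rw [hc3]; exact ⟨he1, he2⟩
  have hcyc : ∀ q ∈ C, q ∈ zpowers c3 := by
    have h6 : zpowers (⟨c3, hc3C⟩ : C) = ⊤ := by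
      refine frattini_nongenerating (G := C) (eq_top_iff.mpr fun q _ => ?_)
      obtain ⟨k, hk⟩ := hspan (vec (q : E)) q.2.1 q.2.2
      have h7 : (((q : E) * (c3 ^ k.val)⁻¹ : E) : P) ∈ phi E := by
        refine (vec_eq_zero_iff (p := p)).mp ?_
        rw [MaxClassEssential.vec_mul, MaxClassEssential.vec_inv, MaxClassEssential.vec_pow, hc3, hk,
          ← Nat.cast_smul_eq_nsmul (ZMod p), ZMod.natCast_zmod_val, add_neg_cancel]
      obtain ⟨q', hq'e, hq'⟩ := hphiC _ h7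
      have e2 : q = q' * (⟨c3, hc3C⟩ : C) ^ k.val := Subtype.ext (by
        rw [Subgroup.coe_mul, hq'e, SubmonoidClass.coe_pow]
        exact (inv_mul_cancel_right _ _).symm)
      rw [sup_comm, e2]
      exact mul_mem_sup hq' (pow_mem (mem_zpowers _) _)
    intro q hq
    obtain ⟨i, hi⟩ := mem_zpowers_iff.mp (h6.ge (mem_top (⟨q, hq⟩ : C)))
    exact ⟨i, congrArg Subtype.val hi⟩
  have hCc : ∀ q ∈ C, ∀ q' ∈ C, Commute q q' := by
    intro q hq q' hq'
    obtain ⟨i, rfl⟩ := hcyc q hq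
    obtain ⟨k, rfl⟩ := hcyc q' hq'
    exact (Commute.refl c3).zpow_zpow i k
  have hab : ∀ x y : E, x * y = y * x := by
    intro x y
    obtain ⟨w, hw, q, hq, rfl⟩ := hsplit x
    obtain ⟨w', hw', q', hq', rfl⟩ := hsplit y
    exact ((hw2c w hw _).mul_left ((hw2c w' hw' q).symm.mul_right (hCc q hq q' hq'))).eq
  -- the inner automorphism fixes the complement
  have hAC : ∀ t : A, (t : MulAut E) c3 ∈ C := fun t => by
    show φ (vec ((t : MulAut E) c3) : Vec p E) = 0 ∧ ψ (vec ((t : MulAut E) c3) : Vec p E) = 0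
    rw [← apply_vec h, hc3]
    exact hker t e he1 he2
  have hAcomm : ∀ t s : A, ((t * s : A) : MulAut E) c3 = ((s * t : A) : MulAut E) c3 := by
    intro t s
    obtain ⟨i, hi⟩ := mem_zpowers_iff.mp (hcyc _ (hAC t))
    obtain ⟨k, hk⟩ := mem_zpowers_iff.mp (hcyc _ (hAC s))
    simp only [Subgroup.coe_mul, MulAut.mul_apply]
    rw [← hk, map_zpow, ← hi, map_zpow, ← hk, ← zpow_mul, ← zpow_mul, mul_comm]
  have hac3 : (a : MulAut E) c3 = c3 := by
    have e1 : a ^ p = 1 := h.eq_of_rho_of_comm hab (by rw [map_pow, hp1, map_one])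
    have e2 : torE a b (2 : ZMod p) * a = a ^ 4 * torE a b (2 : ZMod p) := h.eq_of_rho_of_comm hab hτrel
    set τ := torE a b (2 : ZMod p)
    have e3 : ((a ^ 4 : A) : MulAut E) c3 = (a : MulAut E) c3 := by
      have e4 : ((a ^ 4 : A) : MulAut E) ((τ : MulAut E) c3) = ((a : A) : MulAut E) ((τ : MulAut E) c3) := by
        have e5 := congrArg (fun t : A => (t : MulAut E) c3) e2
        rw [hAcomm τ a] at e5
        exact e5.symm
      have hinj : ∀ r : A, ((r * τ : A) : MulAut E) c3 = (τ : MulAut E) ((r : MulAut E) c3) := fun r => by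
        rw [hAcomm r τ]; rfl
      have e6 := (hinj (a ^ 4)).symm.trans ((show ((a ^ 4 * τ : A) : MulAut E) c3 = ((a * τ : A) : MulAut E) c3
        from e4).trans (hinj a))
      exact (τ : MulAut E).injective e6
    have hs3 : ((a ^ 3 : A) : MulAut E) c3 = c3 := by
      apply (a : MulAut E).injective
      rw [show ((a ^ 4 : A) : MulAut E) c3 = (a : MulAut E) (((a ^ 3 : A) : MulAut E) c3) from by
        rw [pow_succ' a 3]; rfl] at e3
      exact e3
    obtain ⟨i, hi⟩ : ∃ i : ℕ, 3 * i ≡ 1 [MOD p] := by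
      refine ⟨((3 : ZMod p)⁻¹).val, ?_⟩
      rw [← ZMod.natCast_eq_natCast_iff, Nat.cast_mul, ZMod.natCast_zmod_val, Nat.cast_one, Nat.cast_ofNat,
        mul_inv_cancel₀ (three_ne_zero' h.five)]
    have e7 : a = (a ^ 3) ^ i := by rw [← pow_mul, pow_eq_pow_of_modEq hi e1, pow_one]
    have e8 : ∀ n : ℕ, (((a ^ 3) ^ n : A) : MulAut E) c3 = c3 := by
      intro n
      induction n with
      | zero => rfl
      | succ n ih => rw [pow_succ, Subgroup.coe_mul, MulAut.mul_apply, hs3, ih]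
    rw [e7]; exact e8 i
  have hCN : ∀ q ∈ C, ∀ x ∈ N, Commute (q : P) x := by
    intro q hq x hx
    have hcu : Commute (c3 : P) u := by
      have e1 := congrArg (fun t : E => (t : P)) hac3
      have e2 : u * (c3 : P) * u⁻¹ = c3 := e1
      exact (mul_inv_eq_iff_eq_mul.mp e2).symm
    obtain ⟨k, rfl⟩ := hcyc q hq
    obtain ⟨i, hi⟩ := h.exists_pow hu hu' hx
    have hqu : Commute ((c3 ^ k : E) : P) u := by
      rw [SubgroupClass.coe_zpow]; exact hcu.zpow_left k
    have hqe : Commute ((c3 ^ k : E) : P) ((u ^ i)⁻¹ * x) :=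
      congrArg Subtype.val (hab (c3 ^ k) ⟨_, hi⟩)
    simpa using (hqu.pow_right i).mul_right hqe
  -- the powers form a forbidden subgroup
  refine hK (phi E) le_rfl (fun α _ x hx => apply_mem_phi α hx) fun β _ n hn' => ?_
  let Pw : Subgroup E :=
    { carrier := {x | ∃ y : E, y ^ p = x}
      one_mem' := ⟨1, one_pow p⟩
      mul_mem' := by
        rintro _ _ ⟨x, rfl⟩ ⟨y, rfl⟩
        exact ⟨x * y, (show Commute x y from hab x y).mul_pow p⟩
      inv_mem' := by
        rintro _ ⟨x, rfl⟩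
        exact ⟨x⁻¹, inv_pow x p⟩ }
  have hle : frattini E ≤ Pw := CfsgLib.RankFrattini.frattini_le_of_elementary hfE.out _
    (fun x y => ⟨1, by rw [one_pow]; exact (commutatorElement_eq_one_iff_mul_comm.mpr (hab x y)).symm⟩)
    (fun x => ⟨x, rfl⟩)
  obtain ⟨hnE, hn''⟩ := mem_phi.mp hn'
  obtain ⟨y, hy⟩ := hle hn''
  obtain ⟨w, hw, q, hq, rfl⟩ := hsplit y
  rw [(hw2c w hw q).mul_pow, hw2p w hw, one_mul] at hy
  have hnq : n = (⟨q, h.le_N q.2⟩ : N) ^ p := by
    have hy' : ((q : P)) ^ p = (n : P) := by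
      rw [← SubmonoidClass.coe_pow]; exact congrArg Subtype.val hy
    exact Subtype.ext (by rw [SubmonoidClass.coe_pow]; exact hy'.symm)
  set q' := β ⟨q, h.le_N q.2⟩
  have hq'E : (q' : P) ∈ E := by
    refine h.cen _ q'.2 fun x hx => ?_
    obtain ⟨x', hx'⟩ := β.surjective ⟨x, h.le_N hx⟩
    have e1 : (⟨q, h.le_N q.2⟩ : N) * x' = x' * ⟨q, h.le_N q.2⟩ := Subtype.ext (hCN q hq x' x'.2).eq
    have e2 := congrArg β e1
    rw [map_mul, map_mul, hx'] at e2
    exact congrArg Subtype.val e2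
  rw [hnq, map_pow, SubmonoidClass.coe_pow]
  exact mem_phi.mpr ⟨E.pow_mem hq'E p, CfsgLib.pow_mem_frattini_pGroup hfE.out ⟨_, hq'E⟩⟩

end Frattini

end Hyp

end CfsgLib.RankThree
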