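import Cfsg.Agent.Lib.Fusion.RankThree.Hyp

/-!
Central elementary subgroups of the essential subgroup: their images in the Frattini quotient, and
the action on them.
-/

set_option autoImplicit false
set_option linter.unusedSectionVars false
set_option linter.style.haveILetI false

namespace CfsgLib.RankThree

open Subgroup
open MaxClassEssential (Vec vec lin)

variable {p : ℕ} [hpf : Fact p.Prime] {P : Type*} [Group P] [Finite P] {E N : Subgroup P}
  {A : Subgroup (MulAut E)} {B : Subgroup (MulAut N)}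

/-- The Frattini subgroup of a subgroup, in the whole group. -/
def phi (E : Subgroup P) : Subgroup P := (frattini E).map E.subtype

theorem mem_phi {x : P} : x ∈ phi E ↔ ∃ hx : x ∈ E, (⟨x, hx⟩ : E) ∈ frattini E := by
  constructor
  · rintro ⟨e, he, rfl⟩
    exact ⟨e.2, he⟩
  · rintro ⟨hx, he⟩
    exact ⟨_, he, rfl⟩

theorem coe_mem_phi {e : E} : (e : P) ∈ phi E ↔ e ∈ frattini E :=
  ⟨fun h => (mem_phi.mp h).2, fun h => ⟨e, h, rfl⟩⟩

theorem phi_le : phi E ≤ E := map_subtype_le _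

theorem apply_mem_phi (α : MulAut E) {e : E} (he : (e : P) ∈ phi E) : ((α e : E) : P) ∈ phi E := by
  rw [coe_mem_phi] at he ⊢
  have h : (frattini E).map α.toMonoidHom = frattini E :=
    Subgroup.characteristic_iff_map_eq.mp (frattini_characteristic (G := E)) α
  exact h ▸ mem_map_of_mem _ he

/-- A central elementary subgroup of `E` invariant under `A`. -/
structure CU (E : Subgroup P) (A : Subgroup (MulAut E)) (p : ℕ) (U : Subgroup P) : Prop where
  le : U ≤ E
  central : ∀ a ∈ U, ∀ e ∈ E, a * e = e * a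
  exp : ∀ a ∈ U, a ^ p = 1
  inv : ∀ α ∈ A, ∀ e : E, (e : P) ∈ U → ((α e : E) : P) ∈ U

/-- The elements of order dividing `p` in the centre. -/
def omegaZ (E : Subgroup P) (p : ℕ) : Subgroup P where
  carrier := {x | x ∈ E ∧ x ^ p = 1 ∧ ∀ e ∈ E, x * e = e * x}
  one_mem' := ⟨E.one_mem, one_pow p, fun e _ => by rw [one_mul, mul_one]⟩
  mul_mem' := by
    rintro a b ⟨ha, hap, hac⟩ ⟨hb, hbp, hbc⟩
    exact ⟨E.mul_mem ha hb, by rw [(show Commute a b from hac b hb).mul_pow, hap, hbp, one_mul],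
      fun e he => by rw [mul_assoc, hbc e he, ← mul_assoc, hac e he, mul_assoc]⟩
  inv_mem' := by
    rintro a ⟨ha, hap, hac⟩
    exact ⟨E.inv_mem ha, by rw [inv_pow, hap, inv_one],
      fun e he => ((show Commute a e from hac e he).inv_left).eq⟩

theorem mem_omegaZ {x : P} : x ∈ omegaZ E p ↔ x ∈ E ∧ x ^ p = 1 ∧ ∀ e ∈ E, x * e = e * x := Iff.rfl

theorem cu_omegaZ : CU E A p (omegaZ E p) where
  le := fun _ h => h.1
  central := fun _ h => h.2.2
  exp := fun _ h => h.2.1
  inv := fun α _ e he => by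
    refine ⟨(α e).2, ?_, fun y hy => ?_⟩
    · have h1 : e ^ p = 1 := Subtype.ext (by rw [SubmonoidClass.coe_pow]; exact he.2.1)
      have h2 := congrArg (fun z : E => ((α z : E) : P)) h1
      simpa using h2
    · have h1 : e * α.symm ⟨y, hy⟩ = α.symm ⟨y, hy⟩ * e := Subtype.ext (he.2.2 _ (α.symm ⟨y, hy⟩).2)
      have h2 := congrArg (fun z : E => ((α z : E) : P)) h1
      simpa using h2

theorem CU.inter_phi {U : Subgroup P} (hU : CU E A p U) : CU E A p (U ⊓ phi E) where
  le := inf_le_left.trans hU.le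
  central := fun a ha => hU.central a ha.1
  exp := fun a ha => hU.exp a ha.1
  inv := fun α hα e he => ⟨hU.inv α hα e he.1, apply_mem_phi α he.2⟩

theorem CU.comm {U : Subgroup P} (hU : CU E A p U) : ∀ a ∈ U, ∀ b ∈ U, a * b = b * a :=
  fun a ha b hb => hU.central a ha b (hU.le hb)

theorem CU.mem_center {U : Subgroup P} (hU : CU E A p U) {e : E} (he : (e : P) ∈ U) : e ∈ center E :=
  mem_center_iff.mpr fun y => Subtype.ext (hU.central e he y y.2).symm

namespace Hyp

theorem omegaZ_ne_bot (h : Hyp p E N A B) : omegaZ E p ≠ ⊥ := by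
  haveI := h.fact
  have hE1 : E ≠ ⊥ := fun hb => by
    have h1 := h.d3
    subst hb
    rw [show (frattini (⊥ : Subgroup P)) = ⊤ from Subgroup.ext fun x => by simp [Subsingleton.elim x 1],
      index_top] at h1
    exact (Nat.one_lt_pow (by norm_num) hpf.out.one_lt).ne h1
  haveI : Nontrivial E := (nontrivial_iff_ne_bot E).mpr hE1
  haveI := (h.pg.to_subgroup E).center_nontrivial
  obtain ⟨n, hn, hc⟩ := ((h.pg.to_subgroup E).to_subgroup (center E)).nontrivial_iff_card.mp inferInstance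
  obtain ⟨⟨z, hz⟩, hzo⟩ := exists_prime_orderOf_dvd_card' (G := center E) p (hc ▸ dvd_pow_self p (by omega))
  intro hb
  have hzp : z ^ p = 1 := congrArg Subtype.val (hzo ▸ pow_orderOf_eq_one (⟨z, hz⟩ : center E))
  have h1 : (z : P) ∈ omegaZ E p :=
    ⟨z.2, by rw [← SubmonoidClass.coe_pow, hzp]; rfl,
      fun e he => (congrArg Subtype.val (mem_center_iff.mp hz ⟨e, he⟩)).symm⟩
  rw [hb, Subgroup.mem_bot] at h1
  rw [show (⟨z, hz⟩ : center E) = 1 from Subtype.ext (Subtype.ext h1), orderOf_one] at hzo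
  exact hpf.out.one_lt.ne hzo

theorem conj_mem_U (h : Hyp p E N A B) {U : Subgroup P} (hU : CU E A p U) {x a : P} (hx : x ∈ N)
    (ha : a ∈ U) : x * a * x⁻¹ ∈ U :=
  hU.inv _ (h.cE_mem hx) ⟨a, hU.le ha⟩ ha

theorem between (h : Hyp p E N A B) {C : Subgroup P} (h1 : E ≤ C) (h2 : C ≤ N) : C = E ∨ C = N := by
  have h3 := relIndex_mul_relIndex E C N h1 h2
  rw [h.idx] at h3
  rcases (Nat.dvd_prime hpf.out).mp ⟨_, h3.symm⟩ with h4 | h4
  · exact Or.inl (le_antisymm (relIndex_eq_one.mp h4) h1)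
  · rw [h4] at h3
    exact Or.inr (le_antisymm h2 (relIndex_eq_one.mp
      (Nat.eq_of_mul_eq_mul_left hpf.out.pos (h3.trans (mul_one p).symm))))

/-- A normaliser-moved element fixing a subgroup which `N` does not centralise gives a contradiction. -/
theorem false_of_conj_le (h : Hyp p E N A B) {U : Subgroup P} (hU : CU E A p U) {g : P} (hg : g ∉ N)
    (hgU : ∀ a ∈ U, g * a * g⁻¹ ∈ U) {u : P} (hu : u ∈ N) {a : P} (ha : a ∈ U) (hua : u * a ≠ a * u) :
    False := by
  have hC : N ⊓ centralizer (U : Set P) = E := by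
    refine (h.between (le_inf h.le_N fun e he => mem_centralizer_iff.mpr fun b hb => hU.central b hb e he)
      inf_le_left).resolve_right fun e => hua ?_
    exact ((mem_centralizer_iff.mp (e.ge hu).2) a ha).symm
  have hsurj : ∀ b ∈ U, ∃ b' ∈ U, g * b' * g⁻¹ = b := by
    intro b hb
    obtain ⟨⟨b', hb'⟩, e⟩ := Finite.injective_iff_surjective.mp
      (show Function.Injective (fun x : U => (⟨g * x * g⁻¹, hgU x x.2⟩ : U)) from fun x y e =>
        Subtype.ext (mul_left_cancel (mul_right_cancel (congrArg Subtype.val e)))) ⟨b, hb⟩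
    exact ⟨b', hb', congrArg Subtype.val e⟩
  have hle : ∀ e ∈ E, g * e * g⁻¹ ∈ E := fun e he => by
    refine hC.le ⟨h.nrm.conj_mem e (h.le_N he) g, mem_centralizer_iff.mpr fun b hb => ?_⟩
    obtain ⟨b', hb', rfl⟩ := hsurj b hb
    have := hU.central b' hb' e he
    calc g * b' * g⁻¹ * (g * e * g⁻¹) = g * (b' * e) * g⁻¹ := by group
      _ = g * e * g⁻¹ * (g * b' * g⁻¹) := by rw [this]; group
  refine hg (h.nE.le (mem_normalizer_iff.mpr fun e => ⟨hle e, fun he => ?_⟩))
  obtain ⟨⟨e', he'⟩, e''⟩ := Finite.injective_iff_surjective.mp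
    (show Function.Injective (fun x : E => (⟨g * x * g⁻¹, hle x x.2⟩ : E)) from fun x y e =>
      Subtype.ext (mul_left_cancel (mul_right_cancel (congrArg Subtype.val e)))) ⟨_, he⟩
  have e3 : e' = e := mul_left_cancel (mul_right_cancel (congrArg Subtype.val e''))
  exact e3 ▸ he'

/-- A commuting join of elementary subgroups. -/
theorem card_sup_le (h : Hyp p E N A B) {U U' : Subgroup P} (h1 : ∀ a ∈ U, ∀ b ∈ U, a * b = b * a)
    (h2 : ∀ a ∈ U', ∀ b ∈ U', a * b = b * a) (h3 : ∀ a ∈ U, ∀ b ∈ U', a * b = b * a)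
    (e1 : ∀ a ∈ U, a ^ p = 1) (e2 : ∀ a ∈ U', a ^ p = 1) : Nat.card (U ⊔ U' : Subgroup P) ≤ p ^ 3 := by
  have hc : ∀ a ∈ (U : Set P) ∪ U', ∀ b ∈ (U : Set P) ∪ U', a * b = b * a := by
    rintro a (ha | ha) b (hb | hb)
    · exact h1 a ha b hb
    · exact h3 a ha b hb
    · exact (h3 b hb a ha).symm
    · exact h2 a ha b hb
  have hU : U ⊔ U' = closure ((U : Set P) ∪ U') := by rw [Subgroup.closure_union, Subgroup.closure_eq, Subgroup.closure_eq]
  have hexp := exp_closure (p := p) hc (by rintro a (ha | ha); exacts [e1 a ha, e2 a ha])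
  refine h.card_le (fun a ha b hb => ?_) fun a ha => hexp a (hU ▸ ha)
  rw [hU] at ha hb
  have g1 : closure ((U : Set P) ∪ U') ≤ centralizer (centralizer ((U : Set P) ∪ U') : Set P) :=
    closure_le_centralizer_centralizer _
  have g2 : closure ((U : Set P) ∪ U') ≤ centralizer ((U : Set P) ∪ U') :=
    (closure_le _).mpr fun x hx => mem_centralizer_iff.mpr fun y hy => hc y hy x hx
  exact (mem_centralizer_iff.mp (g1 ha) b (g2 hb)).symm

/-! ### Images in the Frattini quotient -/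

section Frattini

variable [hfE : Fact (IsPGroup p E)]

variable (p) in
/-- The image of a subgroup. -/
def img (E U : Subgroup P) [Fact (IsPGroup p E)] : Submodule (ZMod p) (Vec p E) where
  carrier := {v | ∃ e : E, (e : P) ∈ U ∧ vec e = v}
  zero_mem' := ⟨1, one_mem U, MaxClassEssential.vec_one⟩
  add_mem' := by
    rintro _ _ ⟨a, ha, rfl⟩ ⟨b, hb, rfl⟩
    exact ⟨a * b, mul_mem ha hb, MaxClassEssential.vec_mul a b⟩
  smul_mem' := by
    rintro c _ ⟨a, ha, rfl⟩
    refine ⟨a ^ c.val, pow_mem ha _, ?_⟩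
    rw [MaxClassEssential.vec_pow, ← Nat.cast_smul_eq_nsmul (ZMod p), ZMod.natCast_zmod_val]

theorem vec_mem_img {U : Subgroup P} {e : E} (he : (e : P) ∈ U) : (vec e : Vec p E) ∈ img p E U :=
  ⟨e, he, rfl⟩

theorem vec_eq_zero_iff {e : E} : (vec e : Vec p E) = 0 ↔ (e : P) ∈ phi E :=
  MaxClassEssential.vec_eq_zero.trans coe_mem_phi.symm

theorem mem_of_vec_mem {U : Subgroup P} (hphi : phi E ≤ U) {e : E} (he : (vec e : Vec p E) ∈ img p E U) :
    (e : P) ∈ U := by
  obtain ⟨f, hf, hfe⟩ := he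
  have h1 := hphi (coe_mem_phi.mpr (MaxClassEssential.vec_eq_vec.mp hfe.symm))
  have h2 := U.mul_mem h1 hf
  simpa using h2

theorem img_inv (h : Hyp p E N A B) {U : Subgroup P}
    (hU : ∀ α ∈ A, ∀ e : E, (e : P) ∈ U → ((α e : E) : P) ∈ U) (α : A) {v : Vec p E}
    (hv : v ∈ img p E U) : h.rho α v ∈ img p E U := by
  obtain ⟨e, he, rfl⟩ := hv
  exact ⟨(α : MulAut E) e, hU α α.2 e he, rfl⟩

theorem le_of_img_eq_top {U : Subgroup P} (hi : img p E U = ⊤) : E ≤ U := by
  have h1 : U.subgroupOf E = ⊤ := by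
    refine frattini_nongenerating (G := E) (eq_top_iff.mpr fun e _ => ?_)
    obtain ⟨f, hf, hfe⟩ := (eq_top_iff.mp hi) (Submodule.mem_top (x := (vec e : Vec p E)))
    have h2 := MaxClassEssential.vec_eq_vec.mp hfe.symm
    rw [sup_comm]
    have h3 : e * f⁻¹ * f ∈ frattini E ⊔ U.subgroupOf E := mul_mem_sup h2 (mem_subgroupOf.mpr hf)
    rwa [inv_mul_cancel_right] at h3
  exact subgroupOf_eq_top.mp h1

theorem rho_cE_vec (h : Hyp p E N A B) {x : P} (hx : x ∈ N) (e : E) :
    (h.rho ⟨_, h.cE_mem hx⟩ - 1) (vec e : Vec p E) =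
      vec (⟨x * e * x⁻¹ * (e : P)⁻¹, E.mul_mem (h.normal_E hx e.2) (E.inv_mem e.2)⟩ : E) := by
  rw [LinearMap.sub_apply, Module.End.one_apply, sub_eq_add_neg, rho_apply, MaxClassEssential.lin_vec,
    ← MaxClassEssential.vec_inv, ← MaxClassEssential.vec_mul]
  exact congrArg vec (Subtype.ext rfl)

end Frattini

theorem comm_mem_phi_N (h : Hyp p E N A B) {x y : P} (hx : x ∈ N) (hy : y ∈ N) :
    x * y * x⁻¹ * y⁻¹ ∈ phi N :=
  mem_phi.mpr ⟨N.mul_mem (N.mul_mem (N.mul_mem hx hy) (N.inv_mem hx)) (N.inv_mem hy),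
    CfsgLib.commutator_le_frattini_pGroup (h.pg.to_subgroup N)
      (commutator_mem_commutator (mem_top (⟨x, hx⟩ : N)) (mem_top (⟨y, hy⟩ : N)))⟩

theorem pow_mem_phi_N (h : Hyp p E N A B) {x : P} (hx : x ∈ N) : x ^ p ∈ phi N :=
  mem_phi.mpr ⟨N.pow_mem hx p, CfsgLib.pow_mem_frattini_pGroup (h.pg.to_subgroup N) (⟨x, hx⟩ : N)⟩

theorem phi_le_phi_N (h : Hyp p E N A B) : phi E ≤ phi N := by
  intro x hx
  obtain ⟨hxE, hx'⟩ := mem_phi.mp hx
  have h1 : frattini E ≤ (phi N).subgroupOf E :=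
    CfsgLib.RankFrattini.frattini_le_of_elementary (h.pg.to_subgroup E) _
      (fun a b => mem_subgroupOf.mpr (by
        simpa [commutatorElement_def] using h.comm_mem_phi_N (h.le_N a.2) (h.le_N b.2)))
      (fun a => mem_subgroupOf.mpr (by simpa using h.pow_mem_phi_N (h.le_N a.2)))
  exact mem_subgroupOf.mp (h1 hx')

theorem phi_N_le (h : Hyp p E N A B) : phi N ≤ E := by
  intro x hx
  obtain ⟨hxN, hx'⟩ := mem_phi.mp hx
  haveI : (E.subgroupOf N).Normal := ⟨fun n hn g => h.normal_E g.2 hn⟩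
  have hQ : Nat.card (N ⧸ E.subgroupOf N) = p := h.idx
  haveI := isCyclic_of_prime_card hQ
  have h1 : frattini N ≤ E.subgroupOf N :=
    CfsgLib.RankFrattini.frattini_le_of_elementary (h.pg.to_subgroup N) _
      (fun a b => (QuotientGroup.eq_one_iff (N := E.subgroupOf N) _).mp (by
        rw [← QuotientGroup.mk'_apply, map_commutatorElement, commutatorElement_eq_one_iff_mul_comm]
        exact mul_comm' _ _))
      (fun a => mem_subgroupOf.mpr (by simpa using h.pow_mem_E a.2))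
  exact mem_subgroupOf.mp (h1 hx')

theorem conj_mem_phi_N (h : Hyp p E N A B) (g : P) {x : P} (hx : x ∈ phi N) : g * x * g⁻¹ ∈ phi N := by
  haveI := h.nrm
  obtain ⟨hxN, -⟩ := mem_phi.mp hx
  exact apply_mem_phi (MulAut.conjNormal g : MulAut N) (e := ⟨x, hxN⟩) hx

theorem conj_phi_le (h : Hyp p E N A B) (g : P) {x : P} (hx : x ∈ phi E) : g * x * g⁻¹ ∈ E :=
  h.phi_N_le (h.conj_mem_phi_N g (h.phi_le_phi_N hx))

end Hyp

end CfsgLib.RankThree
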