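import Cfsg.Agent.Lib.Fusion.RankThree.Elem

/-!
An automorphism of `N` of diagonal type normalising the group induced by the whole group.
-/

set_option autoImplicit false
set_option linter.unusedSectionVars false
set_option linter.style.haveILetI false

namespace CfsgLib.RankThree

open Subgroup
open scoped commutatorElement
open MaxClassEssential (Vec vec lin)

variable {p : ℕ} [hpf : Fact p.Prime] {P : Type*} [Group P] [Finite P] {E N : Subgroup P}
  {A : Subgroup (MulAut E)} {B : Subgroup (MulAut N)}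

/-- Frattini argument for a group of maximal `p`-subgroups. -/
theorem exists_normalizing {G : Type*} [Group G] [Finite G] {T M : Subgroup G} (hT : IsPGroup p T) (hTM : T ≤ M)
    (hmax : ∀ R ≤ M, IsPGroup p R → Nat.card R ≤ Nat.card T) {β : G} (hβ : ∀ t ∈ T, β * t * β⁻¹ ∈ M) :
    ∃ m ∈ M, ∀ t ∈ T, m * β * t * (m * β)⁻¹ ∈ T := by
  let S : Sylow p M :=
    { toSubgroup := T.subgroupOf M
      isPGroup' := hT.comap_of_injective _ Subtype.coe_injective
      is_maximal' := fun {Q} hQ hle => by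
        refine (Subgroup.eq_of_le_of_card_ge hle ?_).symm
        rw [Nat.card_congr (subgroupOfEquivOfLe hTM).toEquiv,
          Nat.card_congr (Q.equivMapOfInjective M.subtype Subtype.coe_injective).toEquiv]
        exact hmax _ (map_subtype_le _) (hQ.map _) }
  set R : Subgroup G := T.map (MulAut.conj β).toMonoidHom
  have hRM : R ≤ M := by rintro _ ⟨t, ht, rfl⟩; exact hβ t ht
  obtain ⟨m, hm⟩ := Cfsg.exists_conj_mem_sylow S
    (X := R.subgroupOf M) ((hT.map _).comap_of_injective _ Subtype.coe_injective)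
  refine ⟨m, m.2, fun t ht => ?_⟩
  have h1 := hm ⟨β * t * β⁻¹, hβ t ht⟩ ⟨t, ht, rfl⟩
  have h2 : (m : G) * (β * t * β⁻¹) * (m : G)⁻¹ ∈ T := h1
  simpa [mul_assoc] using h2

theorem exists_good (hp : 5 ≤ p) :
    ∃ t : ZMod p, t ≠ 0 ∧ t ^ 2 ≠ 1 ∧ t ^ 3 ≠ 1 ∧ t ^ 5 ≠ 1 := by
  obtain ⟨g, hg⟩ := IsCyclic.exists_generator (α := (ZMod p)ˣ)
  have ho : orderOf g = p - 1 := by
    rw [orderOf_eq_card_of_forall_mem_zpowers hg, Nat.card_eq_fintype_card, ZMod.card_units]
  have hne : ∀ k, 0 < k → k ≤ 5 → k ≠ 4 → (g : ZMod p) ^ k ≠ 1 := by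
    intro k hk hk5 hk4 e
    have h1 : g ^ k = 1 := Units.ext (by rw [Units.val_pow_eq_pow_val, e, Units.val_one])
    have h2 := orderOf_dvd_of_pow_eq_one h1
    rw [ho] at h2
    have h3 := Nat.le_of_dvd hk h2
    have h4 : p ≤ 6 := by omega
    interval_cases p
    · interval_cases k <;> omega
    · exact absurd hpf.out (by norm_num)
  exact ⟨g, g.ne_zero, hne 2 (by norm_num) (by norm_num) (by norm_num), hne 3 (by norm_num) (by norm_num) (by norm_num),
    hne 5 (by norm_num) le_rfl (by norm_num)⟩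

namespace Hyp

section Frattini

variable [hfE : Fact (IsPGroup p E)] [hfN : Fact (IsPGroup p N)] {c d : Vec p E}
  {φ ψ : Vec p E →ₗ[ZMod p] ZMod p} {b : A} {u z ee ed : P} {h : Hyp p E N A B}

theorem Data.finrank_N (D : Data h c d φ ψ b u z ee ed) : Module.finrank (ZMod p) (Vec p N) = 3 := by
  have h1 : Nat.card (Vec p N) = p ^ 3 := by
    rw [← D.frattini_index, Subgroup.index_eq_card]
    exact Nat.card_congr Additive.toMul
  rw [Module.natCard_eq_pow_finrank (K := ZMod p), Nat.card_zmod] at h1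
  exact Nat.pow_right_injective hpf.out.two_le h1

/-- The line of the central generator. -/
def Data.line (D : Data h c d φ ψ b u z ee ed) : Submodule (ZMod p) (Vec p N) :=
  Submodule.span (ZMod p) {vec (⟨ee, h.le_N D.e_mem⟩ : N)}

theorem Data.vecN_eq_zero (D : Data h c d φ ψ b u z ee ed) {x : N} :
    (vec x : Vec p N) = 0 ↔ (x : P) ∈ zpowers z := by
  rw [← D.phi_N]
  exact MaxClassEssential.vec_eq_zero.trans coe_mem_phi.symm

theorem Data.vec_e_ne (D : Data h c d φ ψ b u z ee ed) : (vec (⟨ee, h.le_N D.e_mem⟩ : N) : Vec p N) ≠ 0 := by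
  intro h0
  obtain ⟨k, hk⟩ := mem_powers_iff_mem_zpowers.mpr (D.vecN_eq_zero.mp h0)
  obtain ⟨hz, hzc⟩ := D.zE
  obtain ⟨he, he1, he2, he3⟩ := D.eE
  have h1 : (⟨ee, he⟩ : E) = ⟨z, hz⟩ ^ k := Subtype.ext (by rw [SubmonoidClass.coe_pow]; exact hk.symm)
  have h2 := he2
  rw [h1, MaxClassEssential.vec_pow, hzc, map_nsmul, D.opp.gc, nsmul_one] at h2
  refine he3 ?_
  rw [h1, MaxClassEssential.vec_pow, hzc, ← Nat.cast_smul_eq_nsmul (ZMod p), h2, zero_smul]

theorem Data.finrank_quot (D : Data h c d φ ψ b u z ee ed) :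
    Module.finrank (ZMod p) (Vec p N ⧸ D.line) = 2 := by
  have h1 := D.line.finrank_quotient_add_finrank
  rw [D.finrank_N, show Module.finrank (ZMod p) D.line = 1 from finrank_span_singleton D.vec_e_ne] at h1
  omega

/-- The class of an element modulo the centre of `N`. -/
def Data.cl (D : Data h c d φ ψ b u z ee ed) (x : N) : Vec p N ⧸ D.line :=
  Submodule.Quotient.mk (vec x)

theorem Data.cl_mul (D : Data h c d φ ψ b u z ee ed) (x y : N) : D.cl (x * y) = D.cl x + D.cl y := rfl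

theorem Data.cl_inv (D : Data h c d φ ψ b u z ee ed) (x : N) : D.cl x⁻¹ = -D.cl x := rfl

theorem Data.cl_pow (D : Data h c d φ ψ b u z ee ed) (x : N) (k : ℕ) : D.cl (x ^ k) = (k : ZMod p) • D.cl x := by
  rw [Data.cl, MaxClassEssential.vec_pow, ← Nat.cast_smul_eq_nsmul (ZMod p), Submodule.Quotient.mk_smul]
  rfl

theorem Data.cl_eq_zero (D : Data h c d φ ψ b u z ee ed) {x : N} :
    D.cl x = 0 ↔ ∃ k l : ℕ, (x : P) = z ^ k * ee ^ l := by
  rw [Data.cl, Submodule.Quotient.mk_eq_zero, Data.line, Submodule.mem_span_singleton]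
  constructor
  · rintro ⟨l, hl⟩
    have h1 : (vec (x * ((⟨ee, h.le_N D.e_mem⟩ : N) ^ l.val)⁻¹) : Vec p N) = 0 := by
      rw [MaxClassEssential.vec_mul, MaxClassEssential.vec_inv, MaxClassEssential.vec_pow, ← hl,
        ← Nat.cast_smul_eq_nsmul (ZMod p), ZMod.natCast_zmod_val, add_neg_cancel]
    obtain ⟨k, hk⟩ := mem_powers_iff_mem_zpowers.mpr (D.vecN_eq_zero.mp h1)
    refine ⟨k, l.val, ?_⟩
    have hk' : z ^ k = (x : P) * (ee ^ l.val)⁻¹ := by simpa using hk
    rw [hk', inv_mul_cancel_right]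
  · rintro ⟨k, l, e⟩
    refine ⟨(l : ZMod p), ?_⟩
    have h1 : x = (⟨z, h.le_N D.z_mem⟩ : N) ^ k * (⟨ee, h.le_N D.e_mem⟩ : N) ^ l := Subtype.ext (by simpa using e)
    rw [h1, MaxClassEssential.vec_mul, MaxClassEssential.vec_pow, MaxClassEssential.vec_pow,
      show (vec (⟨z, h.le_N D.z_mem⟩ : N) : Vec p N) = 0 from D.vecN_eq_zero.mpr (mem_zpowers z), smul_zero,
      zero_add, Nat.cast_smul_eq_nsmul]

theorem Data.cl_one (D : Data h c d φ ψ b u z ee ed) : D.cl 1 = 0 := D.cl_eq_zero.mpr ⟨0, 0, by simp⟩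

theorem Data.cl_z (D : Data h c d φ ψ b u z ee ed) : D.cl ⟨z, h.le_N D.z_mem⟩ = 0 :=
  D.cl_eq_zero.mpr ⟨1, 0, by simp⟩

theorem Data.cl_e (D : Data h c d φ ψ b u z ee ed) : D.cl ⟨ee, h.le_N D.e_mem⟩ = 0 :=
  D.cl_eq_zero.mpr ⟨0, 1, by simp⟩

theorem Data.decomp (D : Data h c d φ ψ b u z ee ed) (x : N) :
    ∃ i k j l : ℕ, (x : P) = u ^ i * (z ^ k * ed ^ j * ee ^ l) ∧
      D.cl x = (i : ZMod p) • D.cl ⟨u, D.hu⟩ + (j : ZMod p) • D.cl ⟨ed, h.le_N D.d_mem⟩ := by
  obtain ⟨i, hi⟩ := h.exists_pow D.hu D.hu' x.2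
  obtain ⟨k, j, l, hkl⟩ := D.gen _ hi
  have hx : (x : P) = u ^ i * (z ^ k * ed ^ j * ee ^ l) := by rw [← hkl, mul_inv_cancel_left]
  refine ⟨i, k, j, l, hx, ?_⟩
  have h1 : x = (⟨u, D.hu⟩ : N) ^ i * ((⟨ed, h.le_N D.d_mem⟩ : N) ^ j *
      ((⟨z, h.le_N D.z_mem⟩ : N) ^ k * (⟨ee, h.le_N D.e_mem⟩ : N) ^ l)) := Subtype.ext (by
    have e1 : Commute (z ^ k) (ed ^ j) :=
      ((D.z_central ed (h.le_N D.d_mem)).symm.pow_left k).pow_right j
    simp only [Subgroup.coe_mul, SubmonoidClass.coe_pow]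
    rw [hx, ← mul_assoc (ed ^ j), ← e1.eq])
  rw [h1, D.cl_mul, D.cl_mul, D.cl_mul, D.cl_pow, D.cl_pow, D.cl_pow, D.cl_pow, D.cl_z, D.cl_e, smul_zero, smul_zero,
    add_zero, add_zero]

theorem Data.cl_indep (D : Data h c d φ ψ b u z ee ed) {r s : ZMod p}
    (e : r • D.cl ⟨u, D.hu⟩ + s • D.cl ⟨ed, h.le_N D.d_mem⟩ = 0) : r = 0 ∧ s = 0 := by
  let L : ZMod p × ZMod p →ₗ[ZMod p] Vec p N ⧸ D.line :=
    (LinearMap.toSpanSingleton (ZMod p) _ (D.cl ⟨u, D.hu⟩)).coprod
      (LinearMap.toSpanSingleton (ZMod p) _ (D.cl ⟨ed, h.le_N D.d_mem⟩))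
  have hs : Function.Surjective L := fun v => by
    obtain ⟨w, rfl⟩ := Submodule.Quotient.mk_surjective _ v
    obtain ⟨x, rfl⟩ := MaxClassEssential.vec_surjective w
    obtain ⟨i, k, j, l, -, hcl⟩ := D.decomp x
    exact ⟨((i : ZMod p), (j : ZMod p)), hcl.symm⟩
  have hi : Function.Injective L := (LinearMap.injective_iff_surjective_of_finrank_eq_finrank
    (by rw [Module.finrank_prod, Module.finrank_self, D.finrank_quot])).mpr hs
  have h1 : L (r, s) = L 0 := by rw [map_zero]; exact e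
  exact ⟨congrArg Prod.fst (hi h1), congrArg Prod.snd (hi h1)⟩

theorem Data.cd_ne (D : Data h c d φ ψ b u z ee ed) : D.cl ⟨ed, h.le_N D.d_mem⟩ ≠ 0 := by
  intro e
  have h1 := D.cl_indep (r := 0) (s := 1) (by rw [zero_smul, one_smul, zero_add, e])
  exact one_ne_zero h1.2

/-- The commutator with `ed` reads the coordinate along `u`. -/
theorem Data.comm_d (D : Data h c d φ ψ b u z ee ed) {x : N} {r s : ZMod p}
    (e : D.cl x = r • D.cl ⟨u, D.hu⟩ + s • D.cl ⟨ed, h.le_N D.d_mem⟩) : ⁅(x : P), ed⁆ = z ^ r.val := by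
  obtain ⟨i, k, j, l, hx, hcl⟩ := D.decomp x
  have h0 : ((i : ZMod p) - r) • D.cl ⟨u, D.hu⟩ + ((j : ZMod p) - s) • D.cl ⟨ed, h.le_N D.d_mem⟩ = 0 := by
    have h1 : D.cl x - D.cl x = 0 := sub_self _
    nth_rewrite 1 [hcl] at h1
    rw [e] at h1
    linear_combination (norm := module) h1
  have hir : (i : ZMod p) = r := sub_eq_zero.mp (D.cl_indep h0).1
  have hyE : z ^ k * ed ^ j * ee ^ l ∈ E :=
    E.mul_mem (E.mul_mem (E.pow_mem D.z_mem k) (E.pow_mem D.d_mem j)) (E.pow_mem D.e_mem l)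
  have h2 : ⁅z ^ k * ed ^ j * ee ^ l, ed⁆ = 1 :=
    commutatorElement_eq_one_iff_mul_comm.mpr (D.ab _ hyE _ D.d_mem)
  rw [hx, comm_mul_left' (by rw [h2]; exact Commute.one_right _), h2, one_mul,
    comm_pow_left' (by rw [D.u_d]; exact D.u_z), D.u_d, ← hir, ZMod.val_natCast]
  exact (pow_eq_pow_of_modEq (Nat.mod_modEq i p) D.z_pow).symm

/-- The representation on the classes. -/
theorem Data.cl_congr (D : Data h c d φ ψ b u z ee ed) (β : MulAut N) {x y : N} (e : D.cl x = D.cl y) :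
    D.cl (β x) = D.cl (β y) := by
  have hc : ∀ w : N, D.cl w = 0 → D.cl (β w) = 0 := by
    intro w hw
    obtain ⟨k, l, hkl⟩ := D.cl_eq_zero.mp hw
    -- central elements go to central elements
    have hcen : ∀ y : N, w * y = y * w := fun y => Subtype.ext (by
      show (w : P) * y = y * w
      rw [hkl]
      exact (((D.z_central y y.2).pow_right k).mul_right ((D.e_central y y.2).pow_right l)).eq.symm)
    have hbw : ∀ y : N, β w * y = y * β w := fun y => by
      obtain ⟨y', rfl⟩ := β.surjective y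
      rw [← map_mul, ← map_mul, hcen]
    obtain ⟨i, k', j, l', hx, hcl⟩ := D.decomp (β w)
    have e1 : ⁅((β w : N) : P), ed⁆ = 1 :=
      commutatorElement_eq_one_iff_mul_comm.mpr (congrArg Subtype.val (hbw ⟨ed, h.le_N D.d_mem⟩))
    rw [D.comm_d hcl] at e1
    have ho := orderOf_eq_prime D.z_pow D.z_ne
    have e2 : ((i : ZMod p)).val = 0 := Nat.eq_zero_of_dvd_of_lt
      (ho.symm.dvd.trans (orderOf_dvd_of_pow_eq_one e1)) (ZMod.val_lt _)
    have hi0 : (i : ZMod p) = 0 := (ZMod.val_eq_zero _).mp e2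
    have hyE : z ^ k' * ed ^ j * ee ^ l' ∈ E :=
      E.mul_mem (E.mul_mem (E.pow_mem D.z_mem k') (E.pow_mem D.d_mem j)) (E.pow_mem D.e_mem l')
    have hupi : u ^ i = 1 := by
      obtain ⟨m, hm⟩ := (ZMod.natCast_eq_zero_iff i p).mp hi0
      rw [hm, pow_mul, D.u_pow, one_pow]
    rw [hupi, one_mul] at hx
    have e3 : ⁅(⟨u, D.hu⟩ : N), β w⁆ = 1 :=
      commutatorElement_eq_one_iff_mul_comm.mpr (hbw ⟨u, D.hu⟩).symm
    have e4 : ⁅u, z ^ k' * ed ^ j * ee ^ l'⁆ = 1 := by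
      rw [← hx]; simpa [commutatorElement_def] using congrArg Subtype.val e3
    have c1 : ⁅u, z ^ k'⁆ = 1 := commutatorElement_eq_one_iff_mul_comm.mpr (D.u_z.pow_right k').eq
    have c2 : ⁅u, ee ^ l'⁆ = 1 := commutatorElement_eq_one_iff_mul_comm.mpr (D.u_e.pow_right l').eq
    have c3 : ⁅u, ed ^ j⁆ = z ^ j := by
      rw [comm_pow_right' (by rw [D.u_d]; exact D.z_central ed (h.le_N D.d_mem)), D.u_d]
    rw [comm_mul_right' (by rw [c2]; exact Commute.one_right _), c2, mul_one,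
      comm_mul_right' (by rw [c3]; exact ((D.z_central z (h.le_N D.z_mem)).pow_left k').pow_right j), c1, c3,
      one_mul] at e4
    have e5 : (j : ZMod p) = 0 := (ZMod.natCast_eq_zero_iff j p).mpr
      (ho.symm.dvd.trans (orderOf_dvd_of_pow_eq_one e4))
    rw [hcl, hi0, e5, zero_smul, zero_smul, add_zero]
  have h1 := hc (x * y⁻¹) (by rw [D.cl_mul, D.cl_inv, e, add_neg_cancel])
  rwa [map_mul, map_inv, D.cl_mul, D.cl_inv, ← sub_eq_add_neg, sub_eq_zero] at h1

/-- The representation. -/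
noncomputable def Data.sig (D : Data h c d φ ψ b u z ee ed) :
    MulAut N →* Module.End (ZMod p) (Vec p N ⧸ D.line) where
  toFun β := D.line.mapQ D.line (lin β) (by
    intro v hv
    obtain ⟨x, rfl⟩ := MaxClassEssential.vec_surjective v
    have h0 : D.cl x = D.cl 1 := ((Submodule.Quotient.mk_eq_zero _).mpr hv : D.cl x = 0).trans D.cl_one.symm
    have h1 := D.cl_congr β h0
    rw [map_one] at h1
    exact (Submodule.Quotient.mk_eq_zero (p := D.line)).mp (h1.trans D.cl_one))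
  map_one' := LinearMap.ext fun v => by
    obtain ⟨w, rfl⟩ := Submodule.Quotient.mk_surjective _ v
    rw [Submodule.mapQ_apply, map_one]; rfl
  map_mul' β γ := LinearMap.ext fun v => by
    obtain ⟨w, rfl⟩ := Submodule.Quotient.mk_surjective _ v
    rw [Submodule.mapQ_apply, map_mul]; rfl

theorem Data.sig_cl (D : Data h c d φ ψ b u z ee ed) (β : MulAut N) (x : N) :
    D.sig β (D.cl x) = D.cl (β x) := rfl

/-- Conjugation on `N`. -/
def conjN (h : Hyp p E N A B) : P →* MulAut N :=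
  haveI := h.nrm
  MulAut.conjNormal

theorem coe_conjN (h : Hyp p E N A B) (x : P) (n : N) : ((h.conjN x n : N) : P) = x * n * x⁻¹ := by
  haveI := h.nrm
  exact MulAut.conjNormal_apply x n

theorem ind_conjN (h : Hyp p E N A B) (x : P) : Ind N x (h.conjN x) := h.coe_conjN x

/-- An element fixing the class of `ed` lies in `N`. -/
theorem Data.mem_of_fix (D : Data h c d φ ψ b u z ee ed) {x : P}
    (hx : D.cl (h.conjN x ⟨ed, h.le_N D.d_mem⟩) = D.cl ⟨ed, h.le_N D.d_mem⟩) : x ∈ N := by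
  set dd : N := ⟨ed, h.le_N D.d_mem⟩ with hdd
  set eN : N := ⟨ee, h.le_N D.e_mem⟩ with heN
  set cd := D.cl dd with hcd
  have hcle : D.cl eN = 0 := D.cl_e
  have hE : ∀ y : N, (y : P) ∈ E → ((h.conjN x y : N) : P) ∈ E := by
    intro y hy
    obtain ⟨k, j, l, hkl⟩ := D.gen _ hy
    have hcy : D.cl y = (j : ZMod p) • cd := by
      have e : y = (⟨z, h.le_N D.z_mem⟩ : N) ^ k * dd ^ j * eN ^ l := Subtype.ext (by simpa [dd, eN] using hkl)
      rw [e, D.cl_mul, D.cl_mul, D.cl_pow, D.cl_pow, D.cl_pow, D.cl_z, smul_zero, zero_add,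
        hcle, smul_zero, add_zero]
    have h1 : D.cl (h.conjN x y) = (j : ZMod p) • cd := by
      rw [← D.sig_cl, hcy, map_smul, hcd, D.sig_cl, hx]
    obtain ⟨k', l', hkl'⟩ := (D.cl_eq_zero (x := h.conjN x y * (dd ^ j)⁻¹)).mp (by
      rw [D.cl_mul, D.cl_inv, D.cl_pow, h1, add_neg_cancel])
    have e2 : ((h.conjN x y : N) : P) = z ^ k' * ee ^ l' * ed ^ j := by
      rw [← hkl']; simp [dd]
    rw [e2]
    exact E.mul_mem (E.mul_mem (E.pow_mem D.z_mem k') (E.pow_mem D.e_mem l')) (E.pow_mem D.d_mem j)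
  refine h.nE.le (mem_normalizer_iff.mpr fun y => ?_)
  have hle : ∀ y ∈ E, x * y * x⁻¹ ∈ E := fun y hy => by
    have := hE ⟨y, h.le_N hy⟩ hy
    rwa [h.coe_conjN] at this
  refine ⟨hle y, fun hy => ?_⟩
  obtain ⟨⟨e', he'⟩, e3⟩ := Finite.injective_iff_surjective.mp
    (show Function.Injective (fun w : E => (⟨x * w * x⁻¹, hle w w.2⟩ : E)) from fun w y e =>
      Subtype.ext (mul_left_cancel (mul_right_cancel (congrArg Subtype.val e)))) ⟨_, hy⟩
  have e4 : e' = y := mul_left_cancel (mul_right_cancel (congrArg Subtype.val e3))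
  exact e4 ▸ he'

/-- A diagonal automorphism of `N` extended to the whole group. -/
theorem Data.exists_weights (D : Data h c d φ ψ b u z ee ed) :
    ∃ (g : P) (a b' : ZMod p) (ρ' : MulAut P) (β : MulAut N), g ∉ N ∧
      (∀ x : P, ∃ i : ℕ, (g ^ i)⁻¹ * x ∈ N) ∧ (∀ n : N, ρ' n = (β n : N)) ∧
      ((∃ k : ℕ, (β ⟨ee, h.le_N D.e_mem⟩ : P) = ee * z ^ k)) ∧
      a ≠ 0 ∧ b' ≠ 0 ∧ b' ≠ 1 ∧ b' ^ 2 ≠ 1 ∧ a ≠ b' ∧ a * a ≠ b' ∧
      D.cl (h.conjN g ⟨ed, h.le_N D.d_mem⟩) ≠ D.cl ⟨ed, h.le_N D.d_mem⟩ ∧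
      D.cl (h.conjN g (h.conjN g ⟨ed, h.le_N D.d_mem⟩)) - D.cl (h.conjN g ⟨ed, h.le_N D.d_mem⟩) =
        D.cl (h.conjN g ⟨ed, h.le_N D.d_mem⟩) - D.cl ⟨ed, h.le_N D.d_mem⟩ ∧
      D.sig β (D.cl (h.conjN g ⟨ed, h.le_N D.d_mem⟩) - D.cl ⟨ed, h.le_N D.d_mem⟩) =
        a • (D.cl (h.conjN g ⟨ed, h.le_N D.d_mem⟩) - D.cl ⟨ed, h.le_N D.d_mem⟩) ∧
      (∃ k : ZMod p, D.sig β (D.cl ⟨ed, h.le_N D.d_mem⟩) = b' • D.cl ⟨ed, h.le_N D.d_mem⟩ +
        k • (D.cl (h.conjN g ⟨ed, h.le_N D.d_mem⟩) - D.cl ⟨ed, h.le_N D.d_mem⟩)) ∧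
      (∀ i : ℕ, (g ^ i)⁻¹ * ρ' g ∈ N → (i : ZMod p) * b' = a) := by
  haveI : Finite (MulAut N) := Finite.of_injective (fun f => (f : N → N)) DFunLike.coe_injective
  haveI : Nontrivial (Vec p N ⧸ D.line) := Module.nontrivial_of_finrank_eq_succ D.finrank_quot
  haveI := h.nrm
  set dd : N := ⟨ed, h.le_N D.d_mem⟩ with hdd
  set eN : N := ⟨ee, h.le_N D.e_mem⟩ with heN
  set cd := D.cl dd with hcd
  set σ := D.sig with hσ
  have hcle : D.cl eN = 0 := D.cl_e
  -- `p`-elements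
  have hunip : ∀ x : P, ∃ j : ℕ, h.conjN x ^ p ^ j = 1 := fun x => by
    obtain ⟨j, hj⟩ := h.pg x
    exact ⟨j, by rw [← map_pow, hj, map_one]⟩
  have hσN : ∀ x ∈ N, σ (h.conjN x) = 1 := by
    intro x hx
    refine LinearMap.ext fun v => ?_
    obtain ⟨w, rfl⟩ := Submodule.Quotient.mk_surjective _ v
    obtain ⟨y, rfl⟩ := MaxClassEssential.vec_surjective w
    show D.cl (h.conjN x y) = D.cl y
    have e : h.conjN x y = (⟨x, hx⟩ : N) * y * (⟨x, hx⟩ : N)⁻¹ := Subtype.ext (h.coe_conjN x y)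
    rw [e, D.cl_mul, D.cl_mul, D.cl_inv]
    abel
  -- elements fixing the class of `ed` normalise `E`
  have hfixE : ∀ x : P, D.cl (h.conjN x dd) = cd → x ∈ N := fun x hx => D.mem_of_fix hx
  -- an element central modulo `N`
  obtain ⟨g, hg, hgc⟩ : ∃ g, g ∉ N ∧ ∀ x : P, g * x * g⁻¹ * x⁻¹ ∈ N := by
    haveI : Nontrivial (P ⧸ N) := QuotientGroup.nontrivial_iff.mpr h.ltN
    haveI := (h.pg.to_quotient N).center_nontrivial
    obtain ⟨⟨q, hq⟩, hq1⟩ := exists_ne (1 : center (P ⧸ N))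
    obtain ⟨g, rfl⟩ := QuotientGroup.mk_surjective q
    refine ⟨g, fun hg => hq1 (Subtype.ext ((QuotientGroup.eq_one_iff g).mpr hg)), fun x => ?_⟩
    rw [← QuotientGroup.eq_one_iff]
    simp only [QuotientGroup.mk_mul, QuotientGroup.mk_inv]
    rw [(mem_center_iff.mp hq (x : P ⧸ N)).symm, mul_inv_cancel_right, mul_inv_cancel]
  set X := D.cl (h.conjN g dd) - cd with hX
  have hX0 : X ≠ 0 := sub_ne_zero.mpr fun e => hg (hfixE g e)
  have hgpow : ∃ j : ℕ, σ (h.conjN g) ^ p ^ j = 1 := by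
    obtain ⟨j, hj⟩ := hunip g
    exact ⟨j, by rw [← map_pow, hj, map_one]⟩
  have hσg1 : σ (h.conjN g) ≠ 1 := fun e => hX0 (by
    rw [hX, ← D.sig_cl, ← hσ, e, Module.End.one_apply, sub_self])
  obtain ⟨j0, hj0⟩ := hgpow
  obtain ⟨cX, φX, hcX, hφX, hφc, hgtv⟩ := exists_tv_two D.finrank_quot hσg1 hj0
  have hXe : X = φX cd • cX := by
    rw [hX, ← D.sig_cl, ← hσ, hgtv, tv_apply, hcd, add_sub_cancel_left]
  have hφd : φX cd ≠ 0 := fun e => hX0 (by rw [hXe, e, zero_smul])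
  have hgX : σ (h.conjN g) X = X := by
    rw [hgtv, tv_apply, hXe, map_smul, hφc, smul_zero, zero_smul, add_zero]
  have hXspan : ∀ v, φX v = 0 → ∃ k : ZMod p, v = k • X := by
    intro v hv
    have h1 : Module.finrank (ZMod p) (LinearMap.ker φX) = 1 := by
      have h2 := LinearMap.finrank_range_add_finrank_ker φX
      rw [LinearMap.range_eq_top.mpr (φX.surjective hφX), finrank_top, Module.finrank_self, D.finrank_quot] at h2
      omega
    obtain ⟨k, hk⟩ := (finrank_eq_one_iff_of_nonzero' (⟨X, by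
      rw [LinearMap.mem_ker, hXe, map_smul, hφc, smul_zero]⟩ : LinearMap.ker φX)
      (fun e => hX0 (congrArg Subtype.val e))).mp h1 ⟨v, hv⟩
    exact ⟨k, (congrArg Subtype.val hk).symm⟩
  have hcoord : ∀ v, ∃ r s : ZMod p, v = r • X + s • cd := by
    intro v
    obtain ⟨k, hk⟩ := hXspan (v - (φX v * (φX cd)⁻¹) • cd) (by
      rw [map_sub, map_smul, smul_eq_mul, inv_mul_cancel_right₀ hφd, sub_self])
    exact ⟨k, φX v * (φX cd)⁻¹, by rw [← hk, sub_add_cancel]⟩
  have hext : ∀ f f' : Module.End (ZMod p) (Vec p N ⧸ D.line), f X = f' X → f cd = f' cd → f = f' := by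
    intro f f' e1 e2
    refine LinearMap.ext fun v => ?_
    obtain ⟨r, s, rfl⟩ := hcoord v
    rw [map_add, map_add, map_smul, map_smul, map_smul, map_smul, e1, e2]
  have hgd : σ (h.conjN g) cd = cd + X := by rw [hgtv, tv_apply, ← hXe]
  have hgi : ∀ i : ℕ, σ (h.conjN (g ^ i)) X = X ∧ σ (h.conjN (g ^ i)) cd = cd + (i : ZMod p) • X := by
    intro i
    induction i with
    | zero => simp
    | succ i ih =>
      rw [pow_succ', map_mul, map_mul, Module.End.mul_apply, Module.End.mul_apply, ih.1, hgX, ih.2, map_add,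
        map_smul, hgX, hgd]
      exact ⟨rfl, by push_cast; module⟩
  -- everything is a power of `g` modulo `N`
  have hPg : ∀ x : P, ∃ i : ℕ, (g ^ i)⁻¹ * x ∈ N := by
    intro x
    have hcomm : σ (h.conjN x) * σ (h.conjN g) = σ (h.conjN g) * σ (h.conjN x) := by
      have e : g * x = (g * x * g⁻¹ * x⁻¹) * (x * g) := by group
      have h1 := congrArg (fun y => σ (h.conjN y)) e
      simp only [map_mul, hσN _ (hgc x)] at h1
      simp only [← map_mul] at h1 ⊢
      have h2 := hσN _ (hgc x)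
      calc σ (h.conjN (x * g)) = σ (h.conjN (g * x * g⁻¹ * x⁻¹)) * σ (h.conjN (x * g)) := by rw [h2, one_mul]
        _ = σ (h.conjN (g * x)) := by rw [← map_mul, ← map_mul, ← e]
    obtain ⟨j, hj⟩ := hunip x
    have hnil := isNilpotent_sub_one (f := σ (h.conjN x)) (k := j) (by rw [← map_pow, hj, map_one])
    have hxX : σ (h.conjN x) X = X := by
      have h1 := LinearMap.congr_fun hcomm X
      simp only [Module.End.mul_apply, hgX] at h1
      obtain ⟨r, s, hrs⟩ := hcoord (σ (h.conjN x) X)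
      rw [hrs, map_add, map_smul, map_smul, hgX, hgd, smul_add, ← add_assoc, left_eq_add] at h1
      have hs : s = 0 := (smul_eq_zero.mp h1).resolve_right hX0
      have h4 : (σ (h.conjN x) - 1) X = (r - 1) • X := by
        rw [LinearMap.sub_apply, Module.End.one_apply, hrs, hs, zero_smul, add_zero, sub_smul, one_smul]
      have h5 := apply_eq_zero_of_nilpotent hnil h4
      rwa [LinearMap.sub_apply, Module.End.one_apply, sub_eq_zero] at h5
    obtain ⟨r, s, hrs⟩ := hcoord (σ (h.conjN x) cd)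
    have h1 := LinearMap.congr_fun hcomm cd
    simp only [Module.End.mul_apply, hgd, map_add, hxX, hrs, map_smul, hgX] at h1
    have h2 : (1 - s) • X = 0 := by linear_combination (norm := module) h1
    have hs : s = 1 := (sub_eq_zero.mp ((smul_eq_zero.mp h2).resolve_right hX0)).symm
    refine ⟨r.val, hfixE _ ?_⟩
    rw [← D.sig_cl, ← hσ, ← hcd, map_mul, map_mul, Module.End.mul_apply, hrs, hs, one_smul, map_add, map_smul]
    have hinv : ∀ v, σ (h.conjN (g ^ r.val)⁻¹) (σ (h.conjN (g ^ r.val)) v) = v := fun v => by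
      rw [← Module.End.mul_apply, ← map_mul, ← map_mul, inv_mul_cancel, map_one, map_one]; rfl
    have e1 : σ (h.conjN (g ^ r.val)⁻¹) X = X := by
      conv_lhs => rw [← (hgi r.val).1]
      exact hinv X
    have e2 := hinv cd
    rw [(hgi r.val).2, ZMod.natCast_zmod_val, map_add, map_smul, e1] at e2
    rw [e1, add_comm]
    exact e2
  -- the torus
  obtain ⟨t, ht0, ht2, ht3, ht5⟩ := exists_good (p := p) h.five
  set a0 : A := ⟨_, h.cE_mem D.hu⟩
  set τ := torE a0 b t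
  set m := (t ^ 2).val
  have hτ : h.rho τ * h.rho a0 = h.rho a0 ^ m * h.rho τ := by
    rw [D.opp.torE_eq ht0, D.opp.ha, D.opp.up_pow, D.opp.mat_mul, D.opp.mat_mul, ZMod.natCast_zmod_val]
    congr 1 <;> field_simp <;> ring
  obtain ⟨β0, hβ0B, hβ0e, hβ0u⟩ := h.exists_ext D.hu D.hu' hτ
  have hcd0 : σ β0 cd = t⁻¹ • cd := by
    obtain ⟨hd, hdv⟩ := D.dE
    have h1 : (τ : MulAut E) ⟨ed, hd⟩ = (⟨ed, hd⟩ : E) ^ (t⁻¹).val := D.inj (by
      rw [← apply_vec h, hdv, D.opp.torE_eq ht0, D.opp.mat_d, zero_smul, zero_add, MaxClassEssential.vec_pow,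
        hdv, ← Nat.cast_smul_eq_nsmul (ZMod p), ZMod.natCast_zmod_val])
    have h2 : β0 dd = dd ^ (t⁻¹).val := Subtype.ext (by
      rw [hdd, hβ0e ⟨ed, hd⟩ (h.le_N hd), h1, SubmonoidClass.coe_pow, SubmonoidClass.coe_pow])
    rw [hcd, hσ, D.sig_cl, h2, D.cl_pow, ZMod.natCast_zmod_val]
  have hee0 : β0 eN = eN := by
    obtain ⟨he, he1, he2, -⟩ := D.eE
    have h1 : (τ : MulAut E) ⟨ee, he⟩ = ⟨ee, he⟩ := D.inj (by
      rw [← apply_vec h, D.opp.torE_eq ht0, mat_fix _ _ _ _ he1 he2])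
    exact Subtype.ext (by rw [heN, hβ0e ⟨ee, he⟩ (h.le_N he), h1])
  have hu0 : ∃ k : ZMod p, σ β0 (D.cl ⟨u, D.hu⟩) = t ^ 2 • D.cl ⟨u, D.hu⟩ + k • cd := by
    obtain ⟨k, j, l, hkl⟩ := D.gen _ hβ0u
    refine ⟨(j : ZMod p), ?_⟩
    have h1 : β0 ⟨u, D.hu⟩ = (⟨u, D.hu⟩ : N) ^ m * ((⟨z, h.le_N D.z_mem⟩ : N) ^ k * dd ^ j * eN ^ l) :=
      Subtype.ext (by simp [dd, eN, ← hkl])
    rw [hσ, D.sig_cl, h1, D.cl_mul, D.cl_mul, D.cl_mul, D.cl_pow, D.cl_pow, D.cl_pow, D.cl_pow,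
      D.cl_z, smul_zero, zero_add, hcle, smul_zero,
      add_zero, ZMod.natCast_zmod_val, hcd]
  -- fixing the central line
  have hefix : ∀ x : P, (lin (h.conjN x) : Module.End (ZMod p) (Vec p N)) (vec eN) = vec eN := by
    intro x
    obtain ⟨j, hj⟩ := hunip x
    haveI : Nontrivial (Vec p N) := Module.nontrivial_of_finrank_eq_succ D.finrank_N
    have hnil := isNilpotent_sub_one (f := (lin (h.conjN x) : Module.End (ZMod p) (Vec p N))) (k := j)
      (by rw [← map_pow, hj, map_one])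
    have h1 : D.cl (h.conjN x eN) = D.cl (h.conjN x 1) :=
      D.cl_congr _ (by rw [D.cl_eq_zero.mpr ⟨0, 1, by simp [eN]⟩, D.cl_eq_zero.mpr ⟨0, 0, by simp⟩])
    rw [map_one, D.cl_eq_zero.mpr (⟨0, 0, by simp⟩ : ∃ k l : ℕ, ((1 : N) : P) = z ^ k * ee ^ l), Data.cl,
      Submodule.Quotient.mk_eq_zero, Data.line, Submodule.mem_span_singleton] at h1
    obtain ⟨k, hk⟩ := h1
    have h2 : (lin (h.conjN x) - 1 : Module.End (ZMod p) (Vec p N)) (vec eN) = (k - 1) • vec eN := by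
      rw [LinearMap.sub_apply, Module.End.one_apply, MaxClassEssential.lin_vec, ← hk, sub_smul, one_smul]
    have h3 := apply_eq_zero_of_nilpotent hnil h2
    rwa [LinearMap.sub_apply, Module.End.one_apply, sub_eq_zero] at h3
  let Fix : Subgroup (MulAut N) :=
    { carrier := {β | (lin β : Module.End (ZMod p) (Vec p N)) (vec eN) = vec eN}
      one_mem' := by show (lin (1 : MulAut N) : Module.End (ZMod p) (Vec p N)) (vec eN) = vec eN; rw [map_one]; rfl
      mul_mem' := fun {x y} hx hy => by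
        show (lin (x * y) : Module.End (ZMod p) (Vec p N)) (vec eN) = vec eN
        rw [map_mul, Module.End.mul_apply, hy, hx]
      inv_mem' := fun {x} hx => by
        show (lin x⁻¹ : Module.End (ZMod p) (Vec p N)) (vec eN) = vec eN
        conv_lhs => rw [← hx]
        rw [rho_apply_inv] }
  -- the diagonal element
  obtain ⟨β, a, b', hβB, hβF, ha, hb, hb1, hb2, hab, hab2, hβX, hβd⟩ :
      ∃ (β : MulAut N) (a b' : ZMod p), β ∈ B ∧ β ∈ Fix ∧ a ≠ 0 ∧ b' ≠ 0 ∧ b' ≠ 1 ∧ b' ^ 2 ≠ 1 ∧ a ≠ b' ∧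
        a * a ≠ b' ∧ σ β X = a • X ∧ ∃ k : ZMod p, σ β cd = b' • cd + k • X := by
    have htinv : t⁻¹ ≠ 1 := fun e => ht2 (by rw [inv_eq_one.mp e, one_pow])
    have htinv2 : t⁻¹ ^ 2 ≠ 1 := fun e => ht2 (by rw [inv_pow] at e; exact inv_eq_one.mp e)
    have hβ0F : β0 ∈ Fix := by
      show (lin β0 : Module.End (ZMod p) (Vec p N)) (vec eN) = vec eN
      rw [MaxClassEssential.lin_vec, hee0]
    by_cases hline : ∃ s : ZMod p, σ β0 X = s • X
    · obtain ⟨s, hs⟩ := hline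
      obtain ⟨i, -, j, -, -, hcl⟩ := D.decomp (h.conjN g dd)
      have hXc : X = (i : ZMod p) • D.cl ⟨u, D.hu⟩ + ((j : ZMod p) - 1) • cd := by
        rw [hX, hcl, sub_smul, one_smul, ← hdd, ← hcd]; abel
      have hi : (i : ZMod p) ≠ 0 := by
        intro e
        rw [e, zero_smul, zero_add] at hXc
        have h1 : φX X = 0 := by rw [hXe, map_smul, hφc, smul_zero]
        rw [hXc, map_smul, smul_eq_mul] at h1
        rw [(mul_eq_zero.mp h1).resolve_right hφd, zero_smul] at hXc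
        exact hX0 hXc
      obtain ⟨k, hk⟩ := hu0
      have h1 := hs
      rw [hXc, map_add, map_smul, map_smul, hk, hcd0] at h1
      have h2 : ((i : ZMod p) * t ^ 2 - s * i) • D.cl ⟨u, D.hu⟩ +
          ((i : ZMod p) * k + ((j : ZMod p) - 1) * t⁻¹ - s * ((j : ZMod p) - 1)) • cd = 0 := by
        linear_combination (norm := module) h1
      have h3 : s = t ^ 2 := by
        have h4 := (D.cl_indep h2).1
        exact mul_right_cancel₀ hi (by linear_combination (-1 : ZMod p) * h4)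
      refine ⟨β0, t ^ 2, t⁻¹, hβ0B, hβ0F, pow_ne_zero _ ht0, inv_ne_zero ht0, htinv, htinv2, ?_, ?_,
        h3 ▸ hs, 0, by rw [hcd0, zero_smul, add_zero]⟩
      · intro e
        exact ht3 (by rw [pow_succ, e, inv_mul_cancel₀ ht0])
      · intro e
        exact ht5 (by rw [show t ^ 5 = t ^ 2 * t ^ 2 * t by ring, e, inv_mul_cancel₀ ht0])
    · push Not at hline
      set gA := h.conjN g
      set gB := β0 * gA * β0⁻¹
      have hgBm : gB ∈ B := B.mul_mem (B.mul_mem hβ0B (h.conjB g _ (h.ind_conjN g))) (B.inv_mem hβ0B)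
      have hp1 : σ gA ^ p = 1 := by
        rw [hgtv, tv_pow hφc, ZMod.natCast_self, zero_smul, tv_zero]
      have hp2 : σ gB ^ p = 1 := by
        rw [← map_pow, conj_pow, map_mul, map_mul, map_pow, hp1, mul_one, ← map_mul, mul_inv_cancel, map_one]
      have hne : σ gA * σ gB ≠ σ gB * σ gA := by
        intro e
        -- the fixed lines would agree
        have h1 := LinearMap.congr_fun e (σ β0 X)
        have hBX : σ gB (σ β0 X) = σ β0 X := by
          rw [← Module.End.mul_apply, ← map_mul, show gB * β0 = β0 * gA by simp [gB], map_mul,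
            Module.End.mul_apply, hgX]
        rw [Module.End.mul_apply, Module.End.mul_apply, hBX] at h1
        obtain ⟨r, s, hrs⟩ := hcoord (σ β0 X)
        rcases eq_or_ne s 0 with hs | hs
        · exact hline r (by rw [hrs, hs, zero_smul, add_zero])
        have h2 : σ gA (σ β0 X) = σ β0 X + s • X := by
          rw [hrs, map_add, map_smul, map_smul, hgX, hgd]; module
        rw [h2, map_add, hBX, map_smul, add_right_inj] at h1
        have hBX' : σ gB X = X := ((smul_right_injective _ hs) h1).symm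
        have h3 : σ gB cd = cd := by
          have h4 := hBX
          rw [hrs, map_add, map_smul, map_smul, hBX', add_right_inj] at h4
          exact (smul_right_injective _ hs) h4
        have h5 : σ gB = 1 := hext _ _ (by rw [hBX']; rfl) (by rw [h3]; rfl)
        refine hσg1 ?_
        calc σ gA = σ β0⁻¹ * σ gB * σ β0 := by rw [← map_mul, ← map_mul]; congr 1; simp [gB, mul_assoc]
          _ = 1 := by rw [h5, mul_one, ← map_mul, inv_mul_cancel, map_one]
      obtain ⟨c2, d2, φ2, ψ2, m2, P2, hm2, hga, hgb⟩ := exists_frame_two D.finrank_quot hp1 hp2 hne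
      have O2 : Opp σ c2 d2 φ2 ψ2 gA (gB ^ m2⁻¹.val) := by
        refine ⟨P2, hga, ?_⟩
        rw [map_pow, hgb, mat_lo, mat_lo, tv_pow (by rw [LinearMap.smul_apply, P2.gd, smul_zero]),
          ZMod.natCast_zmod_val, smul_smul, inv_mul_cancel₀ hm2, one_smul]
      have hgAF : gA ∈ Fix := hefix g
      have hgBF : gB ∈ Fix := Fix.mul_mem (Fix.mul_mem hβ0F hgAF) (Fix.inv_mem hβ0F)
      obtain ⟨k2, hk2⟩ : ∃ k : ZMod p, X = k • c2 := by
        have h1 := hgX
        rw [O2.ha, mat_up, one_smul, tv_apply, add_eq_left] at h1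
        have hc2 : c2 ≠ 0 := fun e0 => by have := P2.gc; rw [e0, map_zero] at this; exact zero_ne_one this
        refine ⟨ψ2 X, ?_⟩
        conv_lhs => rw [P2.decomp_two D.finrank_quot X]
        rw [(smul_eq_zero.mp h1).resolve_right hc2, zero_smul, add_zero]
      have hk20 : k2 ≠ 0 := fun e => hX0 (by rw [hk2, e, zero_smul])
      refine ⟨torE gA (gB ^ m2⁻¹.val) t, t, t⁻¹, torE_mem (h.conjB g _ (h.ind_conjN g)) (pow_mem hgBm _) t,
        torE_mem hgAF (pow_mem hgBF _) t, ht0, inv_ne_zero ht0, htinv, htinv2, ?_, ?_, ?_,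
        (ψ2 cd * (t - t⁻¹)) * k2⁻¹, ?_⟩
      · intro e
        exact ht2 (by rw [pow_two]; nth_rewrite 1 [e]; rw [inv_mul_cancel₀ ht0])
      · intro e
        exact ht3 (by rw [pow_succ, pow_two, e, inv_mul_cancel₀ ht0])
      · rw [O2.torE_eq ht0, hk2, map_smul, P2.mat_c, zero_smul, add_zero, smul_comm]
      · rw [O2.torE_eq ht0, hk2, mat_apply, smul_smul, inv_mul_cancel_right₀ hk20]
        linear_combination (norm := module) (1 - t⁻¹) • P2.decomp_two D.finrank_quot cd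
  -- Frattini
  set T := (h.conjN).range with hTdef
  let M : Subgroup (MulAut N) :=
    { carrier := {x | x ∈ B ∧ x ∈ Fix ∧ ∃ i : ℕ, σ x = σ (h.conjN (g ^ i))}
      one_mem' := ⟨B.one_mem, Fix.one_mem, 0, by rw [pow_zero, map_one h.conjN]⟩
      mul_mem' := by
        rintro x y ⟨hx, hx', i, hi⟩ ⟨hy, hy', k, hk⟩
        exact ⟨B.mul_mem hx hy, Fix.mul_mem hx' hy', i + k, by rw [map_mul, hi, hk, ← map_mul, ← map_mul, ← pow_add]⟩
      inv_mem' := by
        rintro x ⟨hx, hx', i, hi⟩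
        refine ⟨B.inv_mem hx, Fix.inv_mem hx', ?_⟩
        obtain ⟨k, hk⟩ := hPg (g ^ i)⁻¹
        refine ⟨k, ?_⟩
        have e1 : σ (h.conjN (g ^ i)⁻¹) = σ (h.conjN (g ^ k)) := by
          rw [← mul_inv_cancel_left (g ^ k) (g ^ i)⁻¹, map_mul, map_mul, hσN _ hk, mul_one]
        rw [← e1]
        calc σ x⁻¹ = σ x⁻¹ * (σ (h.conjN (g ^ i)) * σ (h.conjN (g ^ i)⁻¹)) := by
              rw [← map_mul, ← map_mul, ← map_mul, mul_inv_cancel, map_one, mul_one]
          _ = _ := by rw [← hi, ← mul_assoc, ← map_mul, inv_mul_cancel, map_one, one_mul] }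
  have hTM : T ≤ M := by
    rintro _ ⟨x, rfl⟩
    refine ⟨h.conjB x _ (h.ind_conjN x), hefix x, ?_⟩
    obtain ⟨i, hi⟩ := hPg x
    refine ⟨i, ?_⟩
    conv_lhs => rw [← mul_inv_cancel_left (g ^ i) x, map_mul, map_mul, hσN _ hi, mul_one]
  have hmax : ∀ R ≤ M, IsPGroup p R → Nat.card R ≤ Nat.card T := by
    intro R hR hRp
    obtain ⟨γ, -, hγ⟩ := h.sylB R (fun x hx => (hR hx).1) hRp
    refine Nat.card_le_card_of_injective (fun r => (⟨γ * r * γ⁻¹, by
      obtain ⟨x, hx⟩ := hγ r r.2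
      exact ⟨x, (h.ind_conjN x).eq hx⟩⟩ : T)) fun r r' e =>
      Subtype.ext (mul_left_cancel (mul_right_cancel (congrArg Subtype.val e)))
  obtain ⟨iγ, hiγ⟩ : ∃ i : ℕ, (i : ZMod p) * b' = a :=
    ⟨(a * b'⁻¹).val, by rw [ZMod.natCast_zmod_val, inv_mul_cancel_right₀ hb]⟩
  obtain ⟨k0, hk0⟩ := hβd
  have hβg : ∀ i : ℕ, σ β * σ (h.conjN (g ^ i)) = σ (h.conjN (g ^ (iγ * i))) * σ β := by
    intro i
    refine hext _ _ ?_ ?_
    · rw [Module.End.mul_apply, Module.End.mul_apply, (hgi i).1, hβX, map_smul, (hgi _).1]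
    · rw [Module.End.mul_apply, Module.End.mul_apply, (hgi i).2, map_add, map_smul, hk0, hβX, map_add, map_smul,
        map_smul, (hgi _).1, (hgi _).2, ← hiγ]
      push_cast
      module
  have hβM : ∀ t' ∈ T, β * t' * β⁻¹ ∈ M := by
    rintro _ ⟨x, rfl⟩
    refine ⟨B.mul_mem (B.mul_mem hβB (h.conjB x _ (h.ind_conjN x))) (B.inv_mem hβB),
      Fix.mul_mem (Fix.mul_mem hβF (hefix x)) (Fix.inv_mem hβF), ?_⟩
    obtain ⟨-, -, i, hi⟩ := hTM ⟨x, rfl⟩
    refine ⟨iγ * i, ?_⟩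
    rw [map_mul, map_mul, hi, hβg, mul_assoc, ← map_mul σ β, mul_inv_cancel, map_one, mul_one]
  obtain ⟨μ, ⟨hμB, hμF, i, hi⟩, hμ⟩ := exists_normalizing
    (show IsPGroup p T from fun ⟨x', x, hx⟩ => by
      obtain ⟨j, hj⟩ := hunip x
      exact ⟨j, Subtype.ext (by rw [SubmonoidClass.coe_pow, Subgroup.coe_one]; exact hx ▸ hj)⟩) hTM hmax hβM
  obtain ⟨ρ', hρ'⟩ := h.extB (μ * β) (B.mul_mem hμB hβB) (by
    intro x c' hc'
    obtain ⟨y, hy⟩ := hμ _ ⟨x, rfl⟩
    exact ⟨y, by rw [← hc'.eq (h.ind_conjN x) |>.symm, ← hy]; exact h.ind_conjN y⟩)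
  have hee : ∃ k : ℕ, ((μ * β) eN : P) = ee * z ^ k := by
    have h1 : (lin (μ * β) : Module.End (ZMod p) (Vec p N)) (vec eN) = vec eN := Fix.mul_mem hμF hβF
    rw [MaxClassEssential.lin_vec] at h1
    have h2 : (vec (eN⁻¹ * (μ * β) eN) : Vec p N) = 0 := by
      rw [MaxClassEssential.vec_mul, MaxClassEssential.vec_inv, h1, neg_add_cancel]
    obtain ⟨k, hk⟩ := mem_powers_iff_mem_zpowers.mpr (D.vecN_eq_zero.mp h2)
    refine ⟨k, ?_⟩
    have hk' : z ^ k = ee⁻¹ * ((μ * β) eN : N) := hk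
    rw [hk', mul_inv_cancel_left]
  have hX2 : σ (μ * β) X = a • X := by rw [map_mul, Module.End.mul_apply, hβX, map_smul, hi, (hgi i).1]
  have hd2 : σ (μ * β) cd = b' • cd + (k0 + b' * (i : ZMod p)) • X := by
    rw [map_mul, Module.End.mul_apply, hk0, map_add, map_smul, map_smul, hi, (hgi i).1, (hgi i).2]
    module
  refine ⟨g, a, b', ρ', μ * β, hg, hPg, hρ', hee, ha, hb, hb1, hb2, hab, hab2, fun e => hX0 (sub_eq_zero.mpr e),
    ?_, hX2, ⟨_, hd2⟩, ?_⟩
  · have h1 : σ (h.conjN g) X = X := hgX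
    rw [hX, map_sub, hσ, D.sig_cl, D.sig_cl] at h1
    exact h1
  intro k hk
  -- compare the two actions on the class of `ed`
  have e1 : h.conjN (ρ' g) * (μ * β) = (μ * β) * h.conjN g := by
    refine MulEquiv.ext fun n => Subtype.ext ?_
    show ((h.conjN (ρ' g) ((μ * β) n) : N) : P) = ((μ * β) (h.conjN g n) : N)
    rw [h.coe_conjN, ← hρ', ← hρ', h.coe_conjN, map_mul, map_mul, map_inv]
  have e2 := congrArg (fun f => σ f cd) e1
  rw [map_mul σ (h.conjN (ρ' g)), map_mul σ (μ * β) (h.conjN g), Module.End.mul_apply, Module.End.mul_apply, hgd,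
    map_add, hd2, hX2,
    ← mul_inv_cancel_left (g ^ k) (ρ' g), map_mul, map_mul, hσN _ hk, mul_one, map_add, map_smul, map_smul,
    (hgi k).1, (hgi k).2] at e2
  have h3 : ((k : ZMod p) * b' - a) • X = 0 := by linear_combination (norm := module) e2
  exact sub_eq_zero.mp ((smul_eq_zero.mp h3).resolve_right hX0)

end Frattini

end Hyp

end CfsgLib.RankThree
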